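import Cfsg.Agent.Lib.JankoFourHexad.Model
import Cfsg.Agent.Lib.JankoFourHexad.OrbitData
import Cfsg.Agent.Lib.Sporadic.Bits

/-!
# Checking the orbit certificates (owner: helper28)
-/

set_option autoImplicit false
set_option maxRecDepth 100000

namespace CfsgLib.JankoFourHexad

open CfsgLib.Sporadic

/-- One step of the certificate. -/
noncomputable def singStep (m c : ℕ) : ℕ :=
  if Nat.blt (qGen (c % 16) (c / 16)) 64 || Nat.testBit m (qGen (c % 16) (c / 16)) then
    if Nat.blt (c % 16) 9 then Nat.lor m (Nat.shiftLeft 1 (c / 16)) else m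
  else m

/-- Composition of generators. -/
def qWord (w : List ℕ) (n : ℕ) : ℕ := w.foldl (fun m g => qGen g m) n

theorem sing_mask : Nat.beq (singData.foldl singStep 0) singReached = true := by decide +kernel

theorem sing_all : forallLt 64 (fun w => forallLt 64 fun u =>
    Nat.beq w 0 || !Nat.beq (pairB u w) 0 || Nat.testBit singReached (u + 64 * w)) = true := by decide +kernel

theorem word_ok : ∀ i : Fin 77, (∀ g ∈ wordData.getD i.1 [], g < 9) ∧
    ∀ u : Fin 64, Nat.testBit (maskData.getD i.1 0) (qWord (wordData.getD i.1 []) u.1) = true := by decide +kernel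

theorem word_sep : ∀ i j : Fin 77, i ≠ j →
    ∃ u : Fin 64, Nat.testBit (maskData.getD j.1 0) (qWord (wordData.getD i.1 []) u.1) = false := by decide +kernel

end CfsgLib.JankoFourHexad
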