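import Cfsg.Agent.Lib.JankoFourHexad.Generators
import Cfsg.Agent.Lib.JankoFourHexad.OrbitChecks

/-!
# Involutions of `E` reach the first fixed space, which has at least 77 conjugates (owner: helper28)
-/

set_option autoImplicit false
set_option linter.unusedSectionVars false

namespace CfsgLib.JankoFour

open Cfsg CfsgLib.ThreeTrans
open CfsgLib.JankoFourHexad

variable {G : Type*} [Group G] [Finite G]

namespace Setting

variable (S : Setting G)

theorem card_H0 : Nat.card S.H0 = 3 * 2 ^ 13 * 443520 := by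
  have := S.φ.ker.card_mul_index
  rw [Subgroup.index_ker, MonoidHom.range_eq_top.2 S.hφ, Subgroup.card_top,
    show Nat.card CfsgLib.JankoFour.M22.Grp = 443520 from CfsgLib.Sporadic.card_sporM22] at this
  rw [← this]
  congr 1
  rw [← S.EP_card]
  exact Nat.card_congr
    { toFun := fun x => ⟨((x : ↥S.H0) : G), (S.hker _).1 (MonoidHom.mem_ker.1 x.2)⟩
      invFun := fun x => ⟨⟨x, S.EP_le_H0 x.2⟩, MonoidHom.mem_ker.2 ((S.hker _).2 x.2)⟩
      left_inv := fun _ => rfl
      right_inv := fun _ => rfl }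

end Setting

namespace HexBase

variable {S : Setting G} (B : HexBase S)

theorem z_pow_comm {g : G} (hg : Commute g S.z) {c : G} (hc : c ∈ Subgroup.zpowers S.z) : g * c * g⁻¹ = c := by
  rw [(Frame.commute_z_zpowers (S := S) hg hc).eq, mul_inv_cancel_right]

theorem actsQ_comp {g h : G} {f k : ℕ → ℕ} (hh : Commute h S.z) (hg : B.ActsQ g f) (hk : B.ActsQ h k) :
    B.ActsQ (h * g) (fun n => k (f n)) := fun n hn => by
  obtain ⟨h1, h2⟩ := hg n hn
  obtain ⟨h3, h4⟩ := hk (f n) h1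
  refine ⟨h3, ?_⟩
  have e : h * g * B.q n * (h * g)⁻¹ * (B.q (k (f n)))⁻¹ =
      h * (g * B.q n * g⁻¹ * (B.q (f n))⁻¹) * h⁻¹ * (h * B.q (f n) * h⁻¹ * (B.q (k (f n)))⁻¹) := by group
  rw [e, z_pow_comm hh h2]
  exact mul_mem h2 h4

theorem exists_word : ∀ w : List ℕ, (∀ g ∈ w, g < 9) → ∃ t ∈ S.C, B.ActsQ t (qWord w) := by
  intro w
  induction w using List.reverseRecOn with
  | nil =>
    refine fun _ => ⟨1, one_mem _, fun n hn => ⟨hn, ?_⟩⟩
    simp [qWord]
  | append_singleton w g ih =>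
    intro hw
    obtain ⟨t, htC, ht⟩ := ih fun x hx => hw x (List.mem_append_left _ hx)
    obtain ⟨s, hsC, hs⟩ := B.exists_gen ⟨g, hw g (by simp)⟩
    refine ⟨s * t, mul_mem hsC htC, ?_⟩
    have := B.actsQ_comp (Frame.commute_z hsC) ht hs
    intro n hn
    rw [qWord, List.foldl_append]
    exact this n hn

theorem q_mem_F1 {n : ℕ} (hn : n < 64) : B.q n ∈ B.X.F1 := by
  rw [q, Nat.mod_eq_of_lt hn, Nat.div_eq_of_lt hn, W_zero, mul_one]
  exact B.U_mem n

theorem zpowers_le_F1 : Subgroup.zpowers S.z ≤ B.X.F1 := Subgroup.zpowers_le.2 B.X.z_F1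

theorem q_inj {m n : ℕ} (hm : m < 4096) (hn : n < 4096) (h : B.q m * (B.q n)⁻¹ ∈ Subgroup.zpowers S.z) : m = n := by
  have hm' : m / 64 < 64 := by omega
  have hn' : n / 64 < 64 := by omega
  set c := B.q m * (B.q n)⁻¹
  have hcE : ∀ {x : G}, x ∈ S.E → Commute x c := fun hx =>
    Frame.commute_z_zpowers (S := S) (S.hE.commute_z hx) h
  have e : B.U (n % 64) * B.U (m % 64) * (B.W (m / 64) * B.W (n / 64)) = c := by
    have h1 : B.q m = c * B.q n := by simp [c]
    have h2 : B.U (m % 64) * B.W (m / 64) = B.U (n % 64) * c * B.W (n / 64) := by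
      rw [(hcE (B.X.F1_le_E (B.U_mem _))).eq, mul_assoc c]; exact h1
    calc B.U (n % 64) * B.U (m % 64) * (B.W (m / 64) * B.W (n / 64))
        = B.U (n % 64) * (B.U (m % 64) * B.W (m / 64)) * B.W (n / 64) := by group
      _ = (B.U (n % 64) * B.U (n % 64)) * c * (B.W (n / 64) * B.W (n / 64)) := by rw [h2]; group
      _ = c := by rw [U_sq, W_sq, one_mul, mul_one]
  rw [B.U_xor, B.W_xor] at e
  obtain ⟨h1, h2, -⟩ := B.U_mul_W_eq (Nat.xor_lt_two_pow (n := 6) (Nat.mod_lt _ (by norm_num)) (Nat.mod_lt _ (by norm_num)))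
    (Nat.xor_lt_two_pow (n := 6) hm' hn') h e
  have := Nat.xor_eq_zero_iff.1 h1
  have := Nat.xor_eq_zero_iff.1 h2
  omega

/-- A code that can be moved into the first fixed space. -/
def Good (n : ℕ) : Prop := n < 4096 → ∃ t ∈ S.C, t * B.q n * t⁻¹ ∈ B.X.F1

theorem good_step {n g : ℕ} (hg : g < 9) (h : qGen g n < 64 ∨ B.Good (qGen g n)) : B.Good n := by
  intro hn
  obtain ⟨s, hsC, hs⟩ := B.exists_gen ⟨g, hg⟩
  obtain ⟨h1, h2⟩ := hs n hn
  dsimp only at h1 h2
  obtain ⟨t, htC, ht⟩ : ∃ t ∈ S.C, t * B.q (qGen g n) * t⁻¹ ∈ B.X.F1 := by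
    rcases h with h | h
    · exact ⟨1, one_mem _, by simpa using B.q_mem_F1 h⟩
    · exact h h1
  refine ⟨t * s, mul_mem htC hsC, ?_⟩
  rw [show t * s * B.q n * (t * s)⁻¹ =
    t * (s * B.q n * s⁻¹ * (B.q (qGen g n))⁻¹) * t⁻¹ * (t * B.q (qGen g n) * t⁻¹) by group,
    z_pow_comm (Frame.commute_z htC) h2]
  exact mul_mem (B.zpowers_le_F1 h2) ht

theorem sing_fold : ∀ (l : List ℕ) (m : ℕ), (∀ n, m.testBit n = true → B.Good n) →
    ∀ n, (l.foldl singStep m).testBit n = true → B.Good n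
  | [], _, h, n, hn => h n hn
  | c :: l, m, h, n, hn => by
    refine sing_fold l (singStep m c) (fun k hk => ?_) n hn
    unfold singStep at hk
    split_ifs at hk with h1 h2
    · rw [show Nat.lor m (Nat.shiftLeft 1 (c / 16)) = m ||| (1 <<< (c / 16)) from rfl, Nat.testBit_or,
        Bool.or_eq_true] at hk
      rcases hk with hk | hk
      · exact h k hk
      · rw [Nat.shiftLeft_eq, one_mul, Nat.testBit_two_pow, decide_eq_true_eq] at hk
        subst hk
        rw [Bool.or_eq_true, Nat.blt_eq] at h1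
        rw [Nat.blt_eq] at h2
        exact B.good_step h2 (h1.imp id (h _))
    · exact h k hk
    · exact h k hk

/-- Every involution of `E` is conjugate into the first fixed space. -/
theorem exists_conj_F1 {x : G} (hx : x ∈ S.E) (hxx : x * x = 1) : ∃ t ∈ S.C, t * x * t⁻¹ ∈ B.X.F1 := by
  obtain ⟨n, hn, rfl⟩ := B.el_surjective hx
  have hc := B.el_q hn
  set m := n / 2 with hm
  have hmlt : m < 4096 := by omega
  suffices h : ∃ t ∈ S.C, t * B.q m * t⁻¹ ∈ B.X.F1 by
    obtain ⟨t, htC, ht⟩ := h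
    refine ⟨t, htC, ?_⟩
    rw [show t * B.el n * t⁻¹ = t * (B.el n * (B.q m)⁻¹) * t⁻¹ * (t * B.q m * t⁻¹) by group,
      z_pow_comm (Frame.commute_z htC) hc]
    exact mul_mem (B.zpowers_le_F1 hc) ht
  by_cases hw : m / 64 = 0
  · exact ⟨1, one_mem _, by simpa using B.q_mem_F1 (show m < 64 by omega)⟩
  have hu : m % 64 < 64 := Nat.mod_lt _ (by norm_num)
  have hw' : m / 64 < 64 := by omega
  have hp : pairB (m % 64) (m / 64) = 0 := by
    set c := B.el n * (B.q m)⁻¹
    have hq : B.q m * B.q m = 1 := by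
      have e : B.el n = c * B.q m := by simp [c]
      have hcc : c * c = 1 := by
        rcases S.hE.eq_or hc with e' | e' <;> rw [e']
        exacts [one_mul 1, S.z_sq]
      have hcm : Commute c (B.q m) := (Frame.commute_z_zpowers (S := S) (S.hE.commute_z (B.q_mem m)) hc).symm
      rwa [e, hcm.symm.mul_mul_mul_comm, hcc, one_mul] at hxx
    refine (B.pair_zero_iff hu hw').1 ?_
    rw [q] at hq
    show B.U (m % 64) * B.W (m / 64) = B.W (m / 64) * B.U (m % 64)
    calc B.U (m % 64) * B.W (m / 64) = (B.U (m % 64) * B.W (m / 64))⁻¹ := eq_inv_of_mul_eq_one_left hq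
      _ = _ := by rw [mul_inv_rev, inv_eq_of_mul_eq_one_right (B.U_sq _), inv_eq_of_mul_eq_one_right (B.W_sq _)]
  have h := CfsgLib.Sporadic.forallLt_elim (CfsgLib.Sporadic.forallLt_elim sing_all hw') hu
  rw [Nat.mod_add_div m 64, hp] at h
  simp only [Bool.or_eq_true, Bool.not_eq_true', Nat.beq_refl, Bool.true_eq_false, or_false] at h
  rcases h with h | h
  · exact absurd (Nat.eq_of_beq_eq_true h) hw
  · rw [← Nat.eq_of_beq_eq_true sing_mask] at h
    exact B.sing_fold singData 0 (fun k hk => by simp at hk) m h hmlt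

/-- Representatives with different images of the first fixed space differ modulo its normalizer. -/
theorem reps_sep {i j : Fin 77} {ti tj a b : G} (hti0 : B.ActsQ ti (qWord (wordData.getD i.1 [])))
    (htj : B.ActsQ tj (qWord (wordData.getD j.1 []))) (htjC : tj ∈ S.C)
    (ha : a ∈ Subgroup.normalizer (B.X.F1 : Set G)) (hb : b ∈ Subgroup.normalizer (B.X.F1 : Set G))
    (e' : ti * a = tj * b) : i = j := by
  by_contra hij
  obtain ⟨u, hu⟩ := word_sep i j hij
  obtain ⟨h1, h2⟩ := hti0 u.1 (by omega)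
  have hk : b * a⁻¹ ∈ Subgroup.normalizer (B.X.F1 : Set G) := mul_mem hb (inv_mem ha)
  have hm : b * a⁻¹ * B.q u.1 * (b * a⁻¹)⁻¹ ∈ B.X.F1 :=
    (Subgroup.mem_normalizer_iff.1 hk _).1 (B.q_mem_F1 u.2)
  obtain ⟨v, hv, c, hc, ev⟩ := B.mem_F1_code hm
  have hvq : B.q v = B.U v := by rw [q, Nat.mod_eq_of_lt hv, Nat.div_eq_of_lt hv, W_zero, mul_one]
  obtain ⟨h3, h4⟩ := htj v (by omega)
  have htt : ti = tj * (b * a⁻¹) := by rw [← mul_assoc, ← e']; group
  have e2 : ti * B.q u.1 * (ti)⁻¹ = c * (tj * B.q v * (tj)⁻¹) := by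
    calc ti * B.q u.1 * (ti)⁻¹
        = tj * (b * a⁻¹ * B.q u.1 * (b * a⁻¹)⁻¹) * (tj)⁻¹ := by rw [htt]; group
      _ = (tj * c * (tj)⁻¹) * (tj * B.q v * (tj)⁻¹) := by rw [ev, hvq]; group
      _ = _ := by rw [z_pow_comm (Frame.commute_z htjC) hc]
  have e3 : B.q (qWord (wordData.getD i.1 []) u.1) * (B.q (qWord (wordData.getD j.1 []) v))⁻¹ ∈
      Subgroup.zpowers S.z := by
    have e4 : B.q (qWord (wordData.getD i.1 []) u.1) * (B.q (qWord (wordData.getD j.1 []) v))⁻¹ =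
        (ti * B.q u.1 * (ti)⁻¹ * (B.q (qWord (wordData.getD i.1 []) u.1))⁻¹)⁻¹ *
          (c * (tj * B.q v * (tj)⁻¹ * (B.q (qWord (wordData.getD j.1 []) v))⁻¹)) := by rw [e2]; group
    rw [e4]
    exact mul_mem (inv_mem h2) (mul_mem hc h4)
  rw [B.q_inj h1 h3 e3] at hu
  rw [(word_ok j).2 ⟨v, hv⟩] at hu
  exact absurd hu (by simp)

/-- The first fixed space has at least 77 conjugates under `H0`. -/
theorem card_normalizer_F1 :
    77 * Nat.card ↥(S.H0 ⊓ Subgroup.normalizer (B.X.F1 : Set G)) ≤ Nat.card S.H0 := by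
  classical
  have hw : ∀ i : Fin 77, ∃ t ∈ S.C, B.ActsQ t (qWord (wordData.getD i.1 [])) := fun i => B.exists_word _ (word_ok i).1
  choose t htC ht using hw
  set N := S.H0 ⊓ Subgroup.normalizer (B.X.F1 : Set G)
  let φ : Fin 77 × ↥N → ↥S.H0 := fun x => ⟨t x.1 * x.2, mul_mem (S.C_le_H0 (htC x.1)) x.2.2.1⟩
  have hφ : Function.Injective φ := by
    rintro ⟨i, a⟩ ⟨j, b⟩ e
    have e' : t i * a = t j * b := congrArg Subtype.val e
    obtain rfl : i = j := B.reps_sep (ht i) (ht j) (htC j) a.2.2 b.2.2 e'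
    exact Prod.ext rfl (Subtype.ext (mul_left_cancel e'))
  have := Nat.card_le_card_of_injective φ hφ
  rwa [Nat.card_prod, Nat.card_fin] at this

end HexBase

end CfsgLib.JankoFour
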