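import Cfsg.Agent.Lib.JankoFourHexad.CChecks
import Cfsg.Agent.Lib.JankoFourHexad.WordData

/-!
# Checks on the words (owner: helper28)
-/

set_option autoImplicit false
set_option maxRecDepth 100000

namespace CfsgLib.JankoFourHexad

/-- The table of a generator on sums of lifts. -/
def kGen (g k : ℕ) : ℕ := xfold (if g = 0 then tA else if g = 1 then tB else tC) k 4

/-- The table of a word. -/
def kWord (w : List ℕ) (k : ℕ) : ℕ := w.foldr (fun g m => kGen g m) k

/-- The map of a generator on the first fixed space. -/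
def uGen (g u : ℕ) : ℕ := if g = 0 then mA u else if g = 1 then mB u else mC u

/-- The map of a word on the first fixed space. -/
def uWord (w : List ℕ) (u : ℕ) : ℕ := w.foldr (fun g m => uGen g m) u

/-- The word with a given index. -/
def altWord (i : ℕ) : List ℕ := altData.getD i []

/-- A list of numbers without repetitions. -/
noncomputable def distinctNat : List ℕ → Bool :=
  List.rec true fun a l ih => l.all (fun b => !Nat.beq a b) && ih

theorem alt_gens : ∀ i : Fin 360, ∀ g ∈ altWord i.1, g < 3 := by decide +kernel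

theorem kGen_lt : ∀ g : Fin 3, ∀ k : Fin 16, kGen g.1 k.1 < 16 := by decide +kernel

theorem alt_zero : altWord 0 = [] := by decide +kernel

theorem alt_tab : ∀ i : Fin 360, ∀ k : Fin 16,
    Nat.land (Nat.shiftRight (altTab.getD i.1 0) (4 * k.1)) 15 = kWord (altWord i.1) k.1 := by decide +kernel

theorem alt_mask : ∀ i : Fin 360, altTab.getD i.1 0 < 2 ^ 64 := by decide +kernel

theorem alt_distinct : distinctNat altTab = true := by decide +kernel

theorem alt_length : altTab.length = 360 := by decide +kernel

theorem alt_scalar : ∀ m : Fin 3, ∀ i : Fin 360,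
    (∀ u : Fin 64, mPow m.1 (uWord (altWord i.1) u.1) = u.1) → m.1 = 0 ∧ i.1 = 0 := by decide +kernel

theorem cMap_U : ∀ δ : Fin 16, ∀ u : Fin 64, cMap δ.1 (Nat.shiftLeft u.1 1) = Nat.shiftLeft (mC u.1) 1 := by
  decide +kernel

theorem cMap_K : ∀ δ : Fin 16, ∀ k : Fin 16,
    Nat.shiftRight (cMap δ.1 (Nat.shiftLeft k.1 7)) 7 = kGen 2 k.1 := by decide +kernel

theorem gMap_K : ∀ g : Fin 2, ∀ k : Fin 16,
    Nat.shiftRight (gMap g.1 (Nat.shiftLeft k.1 7)) 7 = kGen g.1 k.1 := by decide +kernel

end CfsgLib.JankoFourHexad
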