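import Cfsg.Agent.Lib.JankoFourHexad.CAction
import Cfsg.Agent.Lib.JankoFourHexad.Orbits
import Cfsg.Agent.Lib.JankoFourHexad.WordChecks

/-!
# The normalizer of `V` in `H0` and the centralizers of `V` and of its part in `E` (owner: helper28)
-/

set_option autoImplicit false
set_option linter.unusedSectionVars false

namespace CfsgLib.JankoFour

open Cfsg CfsgLib.ThreeTrans
open CfsgLib.JankoFourHexad
open CfsgLib.JankoFour.M22 (Grp)

variable {G : Type*} [Group G] [Finite G]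

namespace HexBase

variable {S : Setting G} (B : HexBase S)

theorem actsV_norm {g : G} {f : ℕ → ℕ} (h : B.ActsV g f) : g ∈ Subgroup.normalizer (B.V : Set G) := by
  have hle : B.V.map (MulAut.conj g).toMonoidHom ≤ B.V := by
    rintro _ ⟨x, ⟨n, hn, rfl⟩, rfl⟩
    obtain ⟨h1, h2⟩ := h.2 n hn
    exact ⟨f n, h1, h2.symm⟩
  have he : B.V.map (MulAut.conj g).toMonoidHom = B.V :=
    Subgroup.eq_of_le_of_card_ge hle
      (by rw [Subgroup.card_map_of_injective (MulAut.conj g).injective])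
  refine Subgroup.mem_normalizer_iff.2 fun x => ⟨fun hx => hle ⟨x, hx, rfl⟩, fun hx => ?_⟩
  obtain ⟨y, hy, e⟩ := he.symm ▸ hx
  change g * y * g⁻¹ = g * x * g⁻¹ at e
  rwa [mul_left_cancel (mul_right_cancel e)] at hy

/-- The normalized `c`. -/
noncomputable def cc : G := B.exists_c.choose

theorem cc_mem : B.cc ∈ S.C := B.exists_c.choose_spec.1

/-- The signs of `cc`. -/
noncomputable def csign : Fin 16 := B.exists_c.choose_spec.2.choose

theorem f_cc : S.f B.cc = S.f B.X.c := B.exists_c.choose_spec.2.choose_spec.1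

theorem cc_actsV : B.ActsV B.cc (cMap B.csign.1) := B.exists_c.choose_spec.2.choose_spec.2

/-- The three generators. -/
noncomputable def gen (g : ℕ) : G := if g = 0 then B.X.F.a else if g = 1 then B.X.F.b else B.cc

theorem gen_mem (g : ℕ) : B.gen g ∈ S.C := by
  unfold gen; split_ifs
  exacts [B.X.F.haC, B.X.F.hbC, B.cc_mem]

theorem gen_norm (g : ℕ) : B.gen g ∈ Subgroup.normalizer (B.V : Set G) := by
  unfold gen; split_ifs
  exacts [B.actsV_norm B.a_actsV, B.actsV_norm B.b_actsV, B.actsV_norm B.cc_actsV]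

theorem gen_U {g u : ℕ} (hu : u < 64) : uGen g u < 64 ∧ B.gen g * B.U u * (B.gen g)⁻¹ = B.U (uGen g u) := by
  unfold gen uGen; split_ifs
  · exact ⟨(B.a_acts u hu).1, (B.a_acts u hu).2.1⟩
  · exact ⟨(B.b_acts u hu).1, (B.b_acts u hu).2.1⟩
  · have hs : Nat.shiftLeft u 1 < 2048 := by
      show u <<< 1 < 2048
      rw [Nat.shiftLeft_eq]; omega
    obtain ⟨-, h2⟩ := B.cc_actsV.2 _ hs
    have h64 := (linOK_C ⟨u, hu⟩).2
    rw [B.vel_U hu, cMap_U B.csign ⟨u, hu⟩, B.vel_U h64] at h2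
    exact ⟨h64, h2⟩

/-- The image of a product of lifts. -/
noncomputable def Pk (k : ℕ) : Grp := S.f (B.vel (Nat.shiftLeft k 7))

theorem shift_lt {k : ℕ} (hk : k < 16) : Nat.shiftLeft k 7 < 2048 := by
  show k <<< 7 < 2048
  rw [Nat.shiftLeft_eq]; omega

theorem velK_mem {k : ℕ} (hk : k < 16) : B.vel (Nat.shiftLeft k 7) ∈ S.C := by
  rw [B.vel_K hk]
  exact gprod_mem (fun i _ => B.X.kl_mem i) k

theorem f_U (u : ℕ) : S.f (B.U u) = 1 :=
  (S.f_eq_one_iff (S.hEH0 (B.X.F1_le_E (B.U_mem u)))).2 (Subgroup.mem_sup_left (B.X.F1_le_E (B.U_mem u)))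

theorem f_vel {n : ℕ} (hn : n < 2048) : S.f (B.vel n) = B.Pk (Nat.shiftRight n 7) := by
  have hk : Nat.shiftRight n 7 < 16 := by
    show n >>> 7 < 16
    rw [Nat.shiftRight_eq_div_pow]; omega
  have hE : zpar S.z n * B.U (eU n) ∈ S.E := mul_mem (zpar_E n) (B.X.F1_le_E (B.U_mem _))
  rw [B.vel_split ⟨n, hn⟩, ← B.vel_K hk, S.f_mul (S.hEH0 hE) (S.C_le_H0 (B.velK_mem hk)),
    (S.f_eq_one_iff (S.hEH0 hE)).2 (Subgroup.mem_sup_left hE), one_mul]
  rfl

theorem Pk_eq {k : ℕ} (hk : k < 16) : B.Pk k = prod4 B.X.ke k := by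
  rw [Pk, B.vel_K hk, B.gprod_kl, B.X.f_prod4]

theorem Pk_mul {k l : ℕ} (hk : k < 16) (hl : l < 16) : B.Pk k * B.Pk l = B.Pk (Nat.xor k l) := by
  rw [Pk, Pk, ← S.f_mul_C (B.velK_mem hk) (B.velK_mem hl), B.vel_xor, Pk]
  congr 2
  exact (Nat.shiftLeft_xor_distrib ..).symm

theorem Pk_inj {k l : ℕ} (hk : k < 16) (hl : l < 16) (h : B.Pk k = B.Pk l) : k = l := by
  have hx : Nat.xor k l < 16 := Nat.xor_lt_two_pow (n := 4) hk hl
  have h1 : B.Pk (Nat.xor k l) = 1 := by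
    rw [← B.Pk_mul hk hl, h, B.Pk_mul hl hl, show Nat.xor l l = 0 from Nat.xor_self l, B.Pk_eq (by norm_num)]
    simp [prod4]
  rw [B.Pk_eq hx] at h1
  exact Nat.xor_eq_zero_iff.1 (B.X.hex.indep _ hx h1)

theorem gen_Pk {g k : ℕ} (hg : g < 3) (hk : k < 16) :
    S.f (B.gen g) * B.Pk k * (S.f (B.gen g))⁻¹ = B.Pk (kGen g k) := by
  rw [Pk, ← S.f_conj_C (B.gen_mem g) (B.velK_mem hk)]
  have key : ∀ {t : G} {f : ℕ → ℕ}, B.ActsV t f → Nat.shiftRight (f (Nat.shiftLeft k 7)) 7 = kGen g k →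
      S.f (t * B.vel (Nat.shiftLeft k 7) * t⁻¹) = B.Pk (kGen g k) := fun {t f} h e => by
    obtain ⟨h1, h2⟩ := h.2 _ (shift_lt hk)
    rw [h2, B.f_vel h1, e]
  rcases (show g = 0 ∨ g = 1 ∨ g = 2 by omega) with rfl | rfl | rfl
  · exact key B.a_actsV (gMap_K 0 ⟨k, hk⟩)
  · exact key B.b_actsV (gMap_K 1 ⟨k, hk⟩)
  · exact key B.cc_actsV (cMap_K _ ⟨k, hk⟩)

/-- The element of a word. -/
noncomputable def tw (w : List ℕ) : G := w.foldr (fun g x => B.gen g * x) 1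

theorem tw_mem : ∀ w, B.tw w ∈ S.C
  | [] => one_mem _
  | g :: w => mul_mem (B.gen_mem g) (tw_mem w)

theorem tw_norm : ∀ w, B.tw w ∈ Subgroup.normalizer (B.V : Set G)
  | [] => one_mem _
  | g :: w => mul_mem (B.gen_norm g) (tw_norm w)

theorem tw_Pk : ∀ (w : List ℕ), (∀ g ∈ w, g < 3) → ∀ k < 16,
    kWord w k < 16 ∧ S.f (B.tw w) * B.Pk k * (S.f (B.tw w))⁻¹ = B.Pk (kWord w k)
  | [], _, k, hk => ⟨hk, by simp [tw, kWord, S.f_one]⟩
  | g :: w, hw, k, hk => by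
    obtain ⟨h1, h2⟩ := tw_Pk w (fun x hx => hw x (List.mem_cons_of_mem _ hx)) k hk
    have hg := hw g List.mem_cons_self
    refine ⟨kGen_lt ⟨g, hg⟩ ⟨_, h1⟩, ?_⟩
    show S.f (B.gen g * B.tw w) * _ * (S.f (B.gen g * B.tw w))⁻¹ = B.Pk (kGen g (kWord w k))
    rw [← B.gen_Pk hg h1, ← h2, S.f_mul_C (B.gen_mem g) (B.tw_mem w)]
    group

theorem tw_U : ∀ (w : List ℕ), ∀ u < 64, uWord w u < 64 ∧ B.tw w * B.U u * (B.tw w)⁻¹ = B.U (uWord w u)
  | [], u, hu => ⟨hu, by simp [tw, uWord]⟩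
  | g :: w, u, hu => by
    obtain ⟨h1, h2⟩ := tw_U w u hu
    obtain ⟨h3, h4⟩ := B.gen_U (g := g) h1
    refine ⟨h3, ?_⟩
    show B.gen g * B.tw w * B.U u * (B.gen g * B.tw w)⁻¹ = B.U (uGen g (uWord w u))
    rw [← h4, ← h2]
    group

theorem EP_norm : S.E ⊔ S.P ≤ Subgroup.normalizer (B.V : Set G) := by
  refine sup_le (fun x hx => ?_) fun x hx => ?_
  · obtain ⟨n, hn, rfl⟩ := B.el_surjective hx
    refine mul_mem (mul_mem ?_ ?_) (B.actsV_norm (B.t_actsV (eW_lt hn)))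
    · refine Subgroup.le_normalizer ?_
      rw [← B.vel_land]
      exact B.vel_mem (Nat.lt_of_le_of_lt Nat.and_le_right (by norm_num))
    · refine Subgroup.le_normalizer ?_
      rw [← B.vel_U (eU_lt n)]
      refine B.vel_mem ?_
      show eU n <<< 1 < 2048
      rw [Nat.shiftLeft_eq]; have := eU_lt n; omega
  · obtain ⟨m, rfl⟩ := B.X.F.P_eq hx
    exact pow_mem (B.actsV_norm B.p_actsV) m

theorem mem_F1_of_V {x : G} (hx : x ∈ B.V) (hE : x ∈ S.E) : x ∈ B.X.F1 := by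
  obtain ⟨n, hn, rfl⟩ := hx
  have hk : Nat.shiftRight n 7 < 16 := by
    show n >>> 7 < 16
    rw [Nat.shiftRight_eq_div_pow]; omega
  have h1 : B.Pk (Nat.shiftRight n 7) = B.Pk 0 := by
    rw [← B.f_vel hn, (S.f_eq_one_iff (S.hEH0 hE)).2 (Subgroup.mem_sup_left hE), B.Pk_eq (by norm_num)]
    simp [prod4]
  have h0 := B.Pk_inj hk (by norm_num) h1
  rw [B.vel_split ⟨n, hn⟩, h0, gprod_zero, mul_one]
  refine mul_mem ?_ (B.U_mem _)
  rcases zpar_mem (c := S.z) n with e | e <;> rw [e]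
  exacts [one_mem _, B.X.z_F1]

theorem F1_le_V : B.X.F1 ≤ B.V := fun x hx => by
  obtain ⟨u, hu, c, hc, rfl⟩ := B.mem_F1_code hx
  refine mul_mem (Subgroup.zpowers_le.2 B.z_mem_V hc) ?_
  rw [← B.vel_U hu]
  refine B.vel_mem ?_
  show u <<< 1 < 2048
  rw [Nat.shiftLeft_eq]; omega

theorem norm_V_le : S.H0 ⊓ Subgroup.normalizer (B.V : Set G) ≤ Subgroup.normalizer (B.X.F1 : Set G) := by
  rintro g ⟨hg0, hg⟩
  have hgz : Commute g S.z := mem_centralizer_singleton_iff'.1 (S.hH0 hg0)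
  refine Subgroup.mem_normalizer_iff.2 fun x => ⟨fun hx => ?_, fun hx => ?_⟩
  · exact B.mem_F1_of_V ((Subgroup.mem_normalizer_iff.1 hg x).1 (B.F1_le_V hx))
      (S.hE.conj_mem hgz (B.X.F1_le_E hx))
  · refine B.mem_F1_of_V ((Subgroup.mem_normalizer_iff.1 hg x).2 (B.F1_le_V hx)) ?_
    have := S.hE.conj_mem hgz.inv_left (B.X.F1_le_E hx)
    rwa [show g⁻¹ * (g * x * g⁻¹) * g⁻¹⁻¹ = x by group] at this

theorem distinct_nodup : ∀ {l : List ℕ}, distinctNat l = true → l.Nodup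
  | [], _ => List.nodup_nil
  | a :: l, h => by
    change (l.all (fun b => !Nat.beq a b) && distinctNat l) = true at h
    rw [Bool.and_eq_true, List.all_eq_true] at h
    refine List.nodup_cons.2 ⟨fun ha => ?_, distinct_nodup h.2⟩
    have := h.1 a ha
    simp at this

theorem altTab_inj {i j : Fin 360} (h : ∀ k < 16, kWord (altWord i.1) k = kWord (altWord j.1) k) : i = j := by
  have e : altTab.getD i.1 0 = altTab.getD j.1 0 := by
    refine Nat.eq_of_testBit_eq fun b => ?_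
    by_cases hb : b < 64
    · have hk := h (b / 4) (by omega)
      rw [← alt_tab i ⟨b / 4, by omega⟩, ← alt_tab j ⟨b / 4, by omega⟩] at hk
      have := congrArg (fun x => x.testBit (b % 4)) hk
      simp only [show ∀ a c : ℕ, Nat.land a c = a &&& c from fun _ _ => rfl,
        show ∀ a c : ℕ, Nat.shiftRight a c = a >>> c from fun _ _ => rfl, Nat.testBit_and, Nat.testBit_shiftRight,
        show (4 * (b / 4) + b % 4) = b from Nat.div_add_mod b 4] at this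
      have h15 : Nat.testBit 15 (b % 4) = true := by
        have : b % 4 < 4 := Nat.mod_lt _ (by norm_num)
        interval_cases (b % 4) <;> rfl
      rwa [h15, Bool.and_true, Bool.and_true] at this
    · have hp : ∀ {x : ℕ}, x < 2 ^ 64 → x.testBit b = false := fun hx =>
        Nat.testBit_lt_two_pow (hx.trans_le (Nat.pow_le_pow_right (by norm_num) (by omega)))
      rw [hp (alt_mask i), hp (alt_mask j)]
  have hn := distinct_nodup alt_distinct
  rw [List.getD_eq_getElem altTab 0 (by rw [alt_length]; exact i.2),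
    List.getD_eq_getElem altTab 0 (by rw [alt_length]; exact j.2)] at e
  exact Fin.ext ((hn.getElem_inj_iff).1 e)

/-- A parametrization of the normalizer. -/
noncomputable def nmap (x : ↥(S.E ⊔ S.P) × Fin 16 × Fin 360) : ↥(S.H0 ⊓ Subgroup.normalizer (B.V : Set G)) :=
  ⟨x.1 * B.vel (Nat.shiftLeft x.2.1.1 7) * B.tw (altWord x.2.2.1),
    mul_mem (mul_mem (S.EP_le_H0 x.1.2) (S.C_le_H0 (B.velK_mem x.2.1.2))) (S.C_le_H0 (B.tw_mem _)),
    mul_mem (mul_mem (B.EP_norm x.1.2) (Subgroup.le_normalizer (B.vel_mem (shift_lt x.2.1.2)))) (B.tw_norm _)⟩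

theorem nmap_injective : Function.Injective B.nmap := by
  rintro ⟨e, k, i⟩ ⟨e', k', i'⟩ h
  have h' : (e : G) * B.vel (Nat.shiftLeft k.1 7) * B.tw (altWord i.1) =
      e' * B.vel (Nat.shiftLeft k'.1 7) * B.tw (altWord i'.1) := congrArg Subtype.val h
  have hf : ∀ (e : ↥(S.E ⊔ S.P)) (k : Fin 16) (i : Fin 360),
      S.f ((e : G) * B.vel (Nat.shiftLeft k.1 7) * B.tw (altWord i.1)) = B.Pk k.1 * S.f (B.tw (altWord i.1)) := by
    intro e k i
    rw [S.f_mul (mul_mem (S.EP_le_H0 e.2) (S.C_le_H0 (B.velK_mem k.2))) (S.C_le_H0 (B.tw_mem _)),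
      S.f_mul (S.EP_le_H0 e.2) (S.C_le_H0 (B.velK_mem k.2)), (S.f_eq_one_iff (S.EP_le_H0 e.2)).2 e.2, one_mul]
    rfl
  have h2 : B.Pk k.1 * S.f (B.tw (altWord i.1)) = B.Pk k'.1 * S.f (B.tw (altWord i'.1)) := by
    rw [← hf e k i, h', hf]
  obtain rfl : i = i' := by
    refine altTab_inj fun l hl => ?_
    obtain ⟨a1, a2⟩ := B.tw_Pk (altWord i.1) (alt_gens i) l hl
    obtain ⟨b1, b2⟩ := B.tw_Pk (altWord i'.1) (alt_gens i') l hl
    refine B.Pk_inj a1 b1 ?_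
    have hcomm : ∀ a < 16, ∀ b < 16, Commute (B.Pk a) (B.Pk b) := fun a ha b hb => by
      show B.Pk a * B.Pk b = B.Pk b * B.Pk a
      rw [B.Pk_mul ha hb, B.Pk_mul hb ha]
      exact congrArg B.Pk (Nat.xor_comm a b)
    have key : ∀ (t : Grp) (k : ℕ) (y : ℕ), k < 16 → y < 16 → t * B.Pk l * t⁻¹ = B.Pk y →
        (B.Pk k * t) * B.Pk l * (B.Pk k * t)⁻¹ = B.Pk y := fun t k y hk hy e => by
      calc B.Pk k * t * B.Pk l * (B.Pk k * t)⁻¹ = B.Pk k * (t * B.Pk l * t⁻¹) * (B.Pk k)⁻¹ := by group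
        _ = _ := by rw [e, (hcomm k hk y hy).eq, mul_inv_cancel_right]
    rw [← key _ k.1 _ k.2 a1 a2, ← key _ k'.1 _ k'.2 b1 b2, h2]
  obtain rfl : k = k' := Fin.ext (B.Pk_inj k.2 k'.2 (mul_right_cancel h2))
  exact Prod.ext (Subtype.ext (mul_right_cancel (mul_right_cancel h'))) rfl

theorem card_src : Nat.card (↥(S.E ⊔ S.P) × Fin 16 × Fin 360) = 3 * 2 ^ 13 * 5760 := by
  rw [Nat.card_prod, Nat.card_prod, S.EP_card, Nat.card_fin, Nat.card_fin]

theorem norm_eq : S.H0 ⊓ Subgroup.normalizer (B.V : Set G) = S.H0 ⊓ Subgroup.normalizer (B.X.F1 : Set G) := by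
  refine Subgroup.eq_of_le_of_card_ge (le_inf inf_le_left B.norm_V_le) ?_
  have h1 := B.card_normalizer_F1
  have h2 := Nat.card_le_card_of_injective B.nmap B.nmap_injective
  rw [card_src] at h2
  rw [S.card_H0] at h1
  omega

theorem card_norm : Nat.card ↥(S.H0 ⊓ Subgroup.normalizer (B.V : Set G)) = 3 * 2 ^ 13 * 5760 := by
  have h1 := B.card_normalizer_F1
  have h2 := Nat.card_le_card_of_injective B.nmap B.nmap_injective
  rw [card_src] at h2
  rw [S.card_H0, ← B.norm_eq] at h1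
  omega

theorem nmap_surjective : Function.Surjective B.nmap :=
  (Function.Injective.bijective_of_nat_card_le B.nmap_injective (by rw [card_src, B.card_norm])).2

theorem conj_fix {x y : G} (h : Commute x y) : x * y * x⁻¹ = y := by rw [h.eq, mul_inv_cancel_right]

/-- An element centralizing the part in `E` lies in `H0`. -/
theorem cent_F1_inner {x : G} (hx : ∀ f ∈ B.X.F1, Commute x f) : x ∈ S.H0 := by
  have hxz : Commute x S.z := hx _ B.X.z_F1
  by_contra hx0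
  have hp := S.hEPn x hxz B.X.F.p (Subgroup.mem_sup_right B.X.F.hpP)
  obtain ⟨q, hq, e, he, hxp⟩ := S.mem_EP.1 hp
  obtain ⟨i, rfl⟩ := B.X.F.P_eq hq
  have hu1 : (1 : ℕ) < 64 := by norm_num
  -- the effect on the first fixed space
  have heq : mPow i 1 = mP 1 := by
    have hpu := (B.p_acts 1 hu1).2.1
    have h1 : x * (B.X.F.p * B.U 1 * B.X.F.p⁻¹) * x⁻¹ = B.U (mP 1) := by
      rw [hpu]; exact conj_fix (hx _ (B.U_mem _))
    have h2 : x * (B.X.F.p * B.U 1 * B.X.F.p⁻¹) * x⁻¹ =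
        B.X.F.p ^ i * (e * B.U 1 * e⁻¹) * (B.X.F.p ^ i)⁻¹ := by
      calc x * (B.X.F.p * B.U 1 * B.X.F.p⁻¹) * x⁻¹
          = (x * B.X.F.p * x⁻¹) * (x * B.U 1 * x⁻¹) * (x * B.X.F.p * x⁻¹)⁻¹ := by group
        _ = _ := by rw [hxp, conj_fix (hx _ (B.U_mem _))]; group
    obtain ⟨c, hc, ec⟩ : ∃ c ∈ Subgroup.zpowers S.z, e * B.U 1 * e⁻¹ = c * B.U 1 := by
      rcases S.hE.conj_eq_or he (B.X.F1_le_E (B.U_mem 1)) with e' | e'
      · exact ⟨1, one_mem _, by rw [e', one_mul]⟩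
      · exact ⟨S.z, Subgroup.mem_zpowers _, e'⟩
    obtain ⟨h3, h4, -⟩ := B.pPow_acts i 1 hu1
    rw [h1, ec, show B.X.F.p ^ i * (c * B.U 1) * (B.X.F.p ^ i)⁻¹ =
      (B.X.F.p ^ i * c * (B.X.F.p ^ i)⁻¹) * (B.X.F.p ^ i * B.U 1 * (B.X.F.p ^ i)⁻¹) by group,
      z_pow_comm ((Frame.commute_z B.X.F.hpC).pow_left i) hc, h4] at h2
    have h5 : B.U (Nat.xor (mP 1) (mPow i 1)) * B.W 0 = c := by
      rw [← B.U_xor, W_zero, mul_one, h2, mul_assoc, U_sq, mul_one]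
    exact (Nat.xor_eq_zero_iff.1
      (B.U_mul_W_eq (Nat.xor_lt_two_pow (n := 6) (linOK_P ⟨1, hu1⟩).2 h3) (by norm_num) hc h5).1).symm
  have hi : i % 3 = 1 := by
    rw [← mPow_mod] at heq
    rcases (show i % 3 = 0 ∨ i % 3 = 1 ∨ i % 3 = 2 by omega) with a | a | a
    · rw [a] at heq; exact absurd heq (by decide +kernel)
    · exact a
    · rw [a] at heq; exact absurd heq (by decide +kernel)
  rw [pow_eq_pow_mod i B.X.F.p_pow, hi, pow_one] at hxp
  -- so an element of the coset centralizes `p`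
  have h3 : (x * B.X.F.p * x⁻¹) ^ 3 = 1 := by rw [conj_pow, B.X.F.p_pow]; simp
  obtain ⟨d, hd, hdP⟩ := S.three_conj hp h3
  obtain ⟨j, hj⟩ := B.X.F.P_eq hdP
  have hdz : Commute d S.z := S.hE.commute_z hd
  have hpd : d * B.X.F.p * d⁻¹ * B.X.F.p⁻¹ ∈ S.E := by
    rw [show d * B.X.F.p * d⁻¹ * B.X.F.p⁻¹ = d * (B.X.F.p * d⁻¹ * B.X.F.p⁻¹) by group]
    exact mul_mem hd (S.hE.conj_mem (Frame.commute_z B.X.F.hpC) (inv_mem hd))
  have hj1 : B.X.F.p ^ j * B.X.F.p⁻¹ = 1 := by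
    refine S.P_inf_E (mul_mem (pow_mem B.X.F.hpP _) (inv_mem B.X.F.hpP)) ?_
    have h1 : B.X.F.p ^ j * B.X.F.p⁻¹ =
        (d * B.X.F.p * d⁻¹ * B.X.F.p⁻¹) * (B.X.F.p * (d * e * d⁻¹) * B.X.F.p⁻¹) := by rw [← hj, hxp]; group
    rw [h1]
    exact mul_mem hpd (S.hE.conj_mem (Frame.commute_z B.X.F.hpC) (S.hE.conj_mem hdz he))
  rw [mul_inv_eq_one] at hj1
  have hcp : Commute (d * x) B.X.F.p := by
    have : d * x * B.X.F.p * (d * x)⁻¹ = B.X.F.p := by
      rw [show d * x * B.X.F.p * (d * x)⁻¹ = d * (x * B.X.F.p * x⁻¹) * d⁻¹ by group]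
      exact hj.trans hj1
    exact mul_inv_eq_iff_eq_mul.1 this
  have hC : d * x ∈ S.C := by
    refine S.mem_C.2 ⟨hdz.mul_left hxz, fun r hr => ?_⟩
    obtain ⟨n, rfl⟩ := B.X.F.P_eq hr
    exact hcp.pow_right n
  exact hx0 (by simpa using mul_mem (inv_mem (S.hEH0 hd)) (S.C_le_H0 hC))

/-- The centralizer of the part in `E`. -/
theorem cent_F1 {x : G} (hx : ∀ f ∈ B.X.F1, Commute x f) : x ∈ B.V := by
  have hx0 := B.cent_F1_inner hx
  have hn : x ∈ S.H0 ⊓ Subgroup.normalizer (B.X.F1 : Set G) := by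
    refine ⟨hx0, Subgroup.mem_normalizer_iff.2 fun y => ⟨fun hy => by rwa [conj_fix (hx y hy)], fun hy => ?_⟩⟩
    have h := hx _ hy
    have : x⁻¹ * (x * y * x⁻¹) * x = x * y * x⁻¹ := by
      rw [mul_assoc, ← h.eq, inv_mul_cancel_left]
    rw [show x⁻¹ * (x * y * x⁻¹) * x = y by group] at this
    rwa [← this] at hy
  rw [← B.norm_eq] at hn
  obtain ⟨⟨⟨e, he⟩, k, i⟩, hxe⟩ := B.nmap_surjective ⟨x, hn⟩
  obtain rfl : e * B.vel (Nat.shiftLeft k.1 7) * B.tw (altWord i.1) = x := congrArg Subtype.val hxe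
  obtain ⟨q, hq, d, hd, rfl⟩ := S.mem_EP.1 he
  obtain ⟨m, rfl⟩ := B.X.F.P_eq hq
  have hK : ∀ v, B.vel (Nat.shiftLeft k.1 7) * B.U v * (B.vel (Nat.shiftLeft k.1 7))⁻¹ = B.U v := fun v => by
    refine conj_fix ?_
    rw [B.vel_K k.2]
    exact gprod_commute (fun j hj => (B.X.mem_F1_iff.1 (B.U_mem v)).2 j hj) k.1
  have hlin : ∀ u : Fin 64, mPow (m % 3) (uWord (altWord i.1) u.1) = u.1 := by
    intro u
    obtain ⟨h1, h2⟩ := B.tw_U (altWord i.1) u.1 u.2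
    obtain ⟨h3, h4, -⟩ := B.pPow_acts m _ h1
    rw [mPow_mod]
    obtain ⟨c, hc, ec⟩ : ∃ c ∈ Subgroup.zpowers S.z,
        d * B.U (uWord (altWord i.1) u.1) * d⁻¹ = c * B.U (uWord (altWord i.1) u.1) := by
      rcases S.hE.conj_eq_or hd (B.X.F1_le_E (B.U_mem (uWord (altWord i.1) u.1))) with e' | e'
      · exact ⟨1, one_mem _, by rw [e', one_mul]⟩
      · exact ⟨S.z, Subgroup.mem_zpowers _, e'⟩
    have h5 : B.U u.1 = c * B.U (mPow m (uWord (altWord i.1) u.1)) := by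
      have h6 := conj_fix (hx _ (B.U_mem u.1))
      rw [show B.X.F.p ^ m * d * B.vel (Nat.shiftLeft k.1 7) * B.tw (altWord i.1) * B.U u.1 *
          (B.X.F.p ^ m * d * B.vel (Nat.shiftLeft k.1 7) * B.tw (altWord i.1))⁻¹ =
        B.X.F.p ^ m * (d * (B.vel (Nat.shiftLeft k.1 7) * (B.tw (altWord i.1) * B.U u.1 * (B.tw (altWord i.1))⁻¹) *
          (B.vel (Nat.shiftLeft k.1 7))⁻¹) * d⁻¹) * (B.X.F.p ^ m)⁻¹ by group, h2, hK, ec,
        show B.X.F.p ^ m * (c * B.U (uWord (altWord i.1) u.1)) * (B.X.F.p ^ m)⁻¹ = (B.X.F.p ^ m * c * (B.X.F.p ^ m)⁻¹) *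
          (B.X.F.p ^ m * B.U (uWord (altWord i.1) u.1) * (B.X.F.p ^ m)⁻¹) by group,
        z_pow_comm ((Frame.commute_z B.X.F.hpC).pow_left m) hc, h4] at h6
      exact h6.symm
    have h7 : B.U (Nat.xor u.1 (mPow m (uWord (altWord i.1) u.1))) * B.W 0 = c := by
      rw [← B.U_xor, W_zero, mul_one, h5, mul_assoc, U_sq, mul_one]
    exact (Nat.xor_eq_zero_iff.1 (B.U_mul_W_eq (Nat.xor_lt_two_pow (n := 6) u.2 h3) (by norm_num) hc h7).1).symm
  obtain ⟨hm, hi⟩ := alt_scalar ⟨m % 3, Nat.mod_lt _ (by norm_num)⟩ i hlin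
  dsimp only at hm
  rw [hi, alt_zero, show B.tw [] = 1 from rfl, mul_one, pow_eq_pow_mod m B.X.F.p_pow, hm, pow_zero, one_mul] at hx ⊢
  refine mul_mem ?_ (B.vel_mem (shift_lt k.2))
  obtain ⟨n, hn', rfl⟩ := B.el_surjective hd
  have hw : eW n = 0 := by
    refine pairB_right ⟨eW n, eW_lt hn'⟩ fun u => (B.pair_zero_iff u.2 (eW_lt hn')).1 ?_
    have hKc : Commute (B.vel (Nat.shiftLeft k.1 7)) (B.U u.1) := mul_inv_eq_iff_eq_mul.1 (hK u.1)
    have h1 : Commute (B.el n) (B.U u.1) := by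
      have := (hx _ (B.U_mem u.1)).mul_left hKc.inv_left
      rwa [mul_inv_cancel_right] at this
    have h2 : Commute (zpar S.z n * B.U (eU n)) (B.U u.1) :=
      (z_comm (B.X.F1_le_E (B.U_mem _)) n).mul_left (B.X.F1_comm (B.U_mem _) (B.U_mem _))
    have := h2.inv_left.mul_left h1
    rw [el, show (zpar S.z n * B.U (eU n))⁻¹ * (zpar S.z n * B.U (eU n) * B.W (eW n)) = B.W (eW n) by group] at this
    exact this.symm
  rw [el, hw, W_zero, mul_one]
  refine mul_mem ?_ (B.F1_le_V (B.U_mem _))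
  rcases zpar_mem (c := S.z) n with e' | e' <;> rw [e']
  exacts [one_mem _, B.z_mem_V]

theorem centralizer_V : Subgroup.centralizer (B.V : Set G) ≤ B.V := fun x hx =>
  B.cent_F1 fun f hf => (Subgroup.mem_centralizer_iff.1 hx f (B.F1_le_V hf)).symm

end HexBase

end CfsgLib.JankoFour
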