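import Cfsg.Agent.Lib.JankoFourHexad.Tables
import Cfsg.Agent.Lib.Core.Gaschutz

/-!
# A complement to `V` in its normalizer (owner: helper28)
-/

set_option autoImplicit false
set_option linter.unusedSectionVars false
set_option maxRecDepth 100000

namespace CfsgLib.JankoFour

open Cfsg CfsgLib.ThreeTrans
open CfsgLib.JankoFourHexad
open CfsgLib.Sporadic (forallLt_elim)
open scoped Pointwise

variable {G : Type*} [Group G] [Finite G]

namespace HexBase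

variable {S : Setting G} (B : HexBase S)

/-- The complement to the first fixed space in the second hexad's part of `E`. -/
def WS : Subgroup G where
  carrier := {x | ∃ w < 64, B.W w = x}
  one_mem' := ⟨0, by norm_num, B.W_zero⟩
  mul_mem' := by
    rintro _ _ ⟨a, ha, rfl⟩ ⟨b, hb, rfl⟩
    exact ⟨Nat.xor a b, Nat.xor_lt_two_pow (n := 6) ha hb, (B.W_xor a b).symm⟩
  inv_mem' := by
    rintro _ ⟨a, ha, rfl⟩
    exact ⟨a, ha, (inv_eq_of_mul_eq_one_right (B.W_sq a)).symm⟩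

theorem mem_WS_iff {e : G} : e ∈ B.WS ↔ e ∈ B.X.F2 ∧
    e * (B.X.F.p * e * B.X.F.p⁻¹) * (B.X.F.p * (B.X.F.p * e * B.X.F.p⁻¹) * B.X.F.p⁻¹) = 1 := by
  have hW : ∀ w < 64, B.W w * (B.X.F.p * B.W w * B.X.F.p⁻¹) *
      (B.X.F.p * (B.X.F.p * B.W w * B.X.F.p⁻¹) * B.X.F.p⁻¹) = 1 := fun w hw => by
    obtain ⟨h1, -, e1⟩ := B.p_acts w hw
    obtain ⟨h2, -, e2⟩ := B.p_acts _ h1
    rw [e1, e2, B.W_xor, B.W_xor, xor_orbit ⟨w, hw⟩, W_zero]
  constructor
  · rintro ⟨w, hw, rfl⟩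
    exact ⟨B.W_mem w, hW w hw⟩
  · rintro ⟨he, hn⟩
    obtain ⟨w, hw, c, hc, rfl⟩ := B.mem_F2_code he
    refine ⟨w, hw, ?_⟩
    have hcp : B.X.F.p * c * B.X.F.p⁻¹ = c := z_pow_comm (Frame.commute_z B.X.F.hpC) hc
    have hcE : ∀ x ∈ S.E, Commute x c := fun x hx => Frame.commute_z_zpowers (S := S) (S.hE.commute_z hx) hc
    set y := B.X.F.p * B.W w * B.X.F.p⁻¹ with hy
    set y2 := B.X.F.p * y * B.X.F.p⁻¹ with hy2
    have hyE : y ∈ S.E := S.hE.conj_mem (Frame.commute_z B.X.F.hpC) (B.X.F2_le_E (B.W_mem w))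
    have hy2E : y2 ∈ S.E := S.hE.conj_mem (Frame.commute_z B.X.F.hpC) hyE
    have e1 : B.X.F.p * (c * B.W w) * B.X.F.p⁻¹ = c * y := by
      calc _ = (B.X.F.p * c * B.X.F.p⁻¹) * (B.X.F.p * B.W w * B.X.F.p⁻¹) := by group
        _ = _ := by rw [hcp]
    have e2 : B.X.F.p * (c * y) * B.X.F.p⁻¹ = c * y2 := by
      calc _ = (B.X.F.p * c * B.X.F.p⁻¹) * (B.X.F.p * y * B.X.F.p⁻¹) := by group
        _ = _ := by rw [hcp]
    rw [e1, e2] at hn
    have hcc : c * c = 1 := by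
      rcases S.hE.eq_or hc with e | e <;> rw [e]
      exacts [one_mul 1, S.z_sq]
    have h3 : c * (B.W w * y * y2) = 1 := by
      rw [← hn]
      calc c * (B.W w * y * y2) = c * (B.W w * y) * y2 := by group
        _ = c * (B.W w * y) * (c * c) * y2 := by rw [hcc, mul_one]
        _ = c * ((B.W w * y) * c) * (c * y2) := by group
        _ = c * (B.W w * (y * c)) * (c * y2) := by group
        _ = _ := by rw [(hcE y hyE).eq]; group
    rw [hy, hy2, hW w hw, mul_one] at h3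
    rw [h3, one_mul]

theorem L_norm_WS {x : G} (hx : x ∈ B.L) : x ∈ Subgroup.normalizer (B.WS : Set G) := by
  refine norm_of_map (Subgroup.eq_of_le_of_card_ge ?_
    (by rw [Subgroup.card_map_of_injective (MulAut.conj x).injective]))
  rintro _ ⟨e, he, rfl⟩
  obtain ⟨hxN, hxn, hxF⟩ := B.mem_L.1 hx
  obtain ⟨heF, hen⟩ := B.mem_WS_iff.1 he
  refine B.mem_WS_iff.2 ⟨(Subgroup.mem_normalizer_iff.1 hxF e).1 heF, ?_⟩
  show x * e * x⁻¹ * _ * _ = 1
  set p := B.X.F.p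
  obtain ⟨i, hi⟩ := B.X.F.P_eq ((hxn.inv S).2 _ B.X.F.hpP)
  rw [inv_inv] at hi
  have hp3 : p ^ 3 = 1 := B.X.F.hp3 ▸ pow_orderOf_eq_one _
  have hi' : x⁻¹ * p * x = p ^ (i % 3) := by
    rw [hi]; conv_lhs => rw [← Nat.div_add_mod i 3, pow_add, pow_mul, hp3, one_pow, one_mul]
  show x * e * x⁻¹ * (p * (x * e * x⁻¹) * p⁻¹) * (p * (p * (x * e * x⁻¹) * p⁻¹) * p⁻¹) = 1
  rw [show x * e * x⁻¹ * (p * (x * e * x⁻¹) * p⁻¹) * (p * (p * (x * e * x⁻¹) * p⁻¹) * p⁻¹) =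
    x * (e * ((x⁻¹ * p * x) * e * (x⁻¹ * p * x)⁻¹) *
      ((x⁻¹ * p * x) * ((x⁻¹ * p * x) * e * (x⁻¹ * p * x)⁻¹) * (x⁻¹ * p * x)⁻¹)) * x⁻¹ by group, hi',
    conj_eq_one_iff]
  have hpE : p * e * p⁻¹ ∈ B.X.F2 := B.X.conj_F2 B.X.F.hpC B.X.p_norm2 heF
  have hppE : p * (p * e * p⁻¹) * p⁻¹ ∈ B.X.F2 := B.X.conj_F2 B.X.F.hpC B.X.p_norm2 hpE
  rcases (show i % 3 = 0 ∨ i % 3 = 1 ∨ i % 3 = 2 by omega) with h | h | h <;> rw [h]
  · exfalso
    rw [h, pow_zero] at hi'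
    exact B.X.F.p_ne (conj_eq_one_iff.1 (show x⁻¹ * p * x⁻¹⁻¹ = 1 by rw [inv_inv]; exact hi'))
  · rwa [pow_one]
  · have h4 : p ^ 2 * (p ^ 2 * e * (p ^ 2)⁻¹) * (p ^ 2)⁻¹ = p * e * p⁻¹ := by
      rw [show p ^ 2 * (p ^ 2 * e * (p ^ 2)⁻¹) * (p ^ 2)⁻¹ = p ^ 3 * (p * e * p⁻¹) * (p ^ 3)⁻¹ by group,
        hp3, one_mul, inv_one, mul_one]
    rw [h4, show p ^ 2 * e * (p ^ 2)⁻¹ = p * (p * e * p⁻¹) * p⁻¹ by rw [pow_two]; group, mul_assoc,
      B.X.F2_comm hppE hpE, ← mul_assoc]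
    exact hen

theorem tab_congr_mul {x y : G} (hx : x ∈ B.L) (hy : y ∈ B.L) {f g : ℕ → ℕ} (hf : ∀ k < 16, B.tab x k = f k)
    (hg : ∀ k < 16, B.tab y k = g k) {k : ℕ} (hk : k < 16) : B.tab (x * y) k = f (g k) := by
  rw [B.tab_mul hx hy hk, hf _ (B.tab_lt _ _), hg k hk]

include B in
theorem ker_cube {x : G} (hx : x ∈ S.C) (h1 : S.f x = 1) : x * x * x ∈ Subgroup.zpowers S.z := by
  obtain ⟨q, hq, c, hc, rfl⟩ := S.C_ker hx h1
  have hqc : Commute q c := Frame.commute_z_zpowers (S := S) (S.P_commute_z hq) hc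
  obtain ⟨i, rfl⟩ := B.X.F.P_eq hq
  rw [← pow_three', hqc.mul_pow, ← pow_mul, mul_comm i 3, pow_mul,
    show B.X.F.p ^ 3 = 1 from B.X.F.hp3 ▸ pow_orderOf_eq_one _, one_pow, one_mul]
  exact pow_mem hc 3

theorem eq_one_of_sq [IsSimpleGroup G] (hG : ¬ IsMulCommutative G) (hJ : IsOfJankoFourType G) {y : G}
    (hy : y ∈ B.L) (hc : y * y ∈ Subgroup.zpowers S.z) : y * y = 1 :=
  (S.hE.eq_or hc).resolve_right (B.sq_ne_z hG hJ (B.mem_L.1 hy).1 (B.mem_L.1 hy).2.1)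

/-- An involution with a given table. -/
theorem exists_inv_tab [IsSimpleGroup G] (hG : ¬ IsMulCommutative G) (hJ : IsOfJankoFourType G) {x : G}
    (hx : x ∈ B.L) {f : ℕ → ℕ} (hf : ∀ k < 16, B.tab x k = f k) (hff : ∀ k < 16, f (f k) = k) :
    ∃ y ∈ B.L, y * y = 1 ∧ (∀ k < 16, B.tab y k = f k) ∧ (y ∈ S.H0 ↔ x ∈ S.H0) := by
  have hxx := mul_mem hx hx
  have hid : ∀ k < 16, B.tab (x * x) k = k := fun k hk => (B.tab_congr_mul hx hx hf hf hk).trans (hff k hk)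
  obtain ⟨hC, h1⟩ := B.tab_ker hxx hid
  refine ⟨x * (x * x), mul_mem hx hxx, B.eq_one_of_sq hG hJ (mul_mem hx hxx) ?_, fun k hk => ?_,
    ⟨fun h => ?_, fun h => mul_mem h (mul_mem h h)⟩⟩
  · rw [show x * (x * x) * (x * (x * x)) = x * x * (x * x) * (x * x) by group]
    exact B.ker_cube hC h1
  · exact B.tab_congr_mul hx hxx hf hid hk
  · have := mul_mem h (inv_mem (S.C_le_H0 hC))
    rwa [mul_inv_cancel_right] at this

/-- An element inverted by an involution of `C`, of order two in the action, has order two. -/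
theorem sq_one_of_inverted [IsSimpleGroup G] (hG : ¬ IsMulCommutative G) (hJ : IsOfJankoFourType G) {r y : G}
    (hrC : r ∈ S.C) (hrr : r * r = 1) (hy : y ∈ B.L) (hry : r * y * r⁻¹ = y⁻¹)
    (hid : ∀ k < 16, B.tab (y * y) k = k) : y * y = 1 := by
  obtain ⟨hC, h1⟩ := B.tab_ker (mul_mem hy hy) hid
  have h2 : r * (y * y) * r⁻¹ = (y * y)⁻¹ := by rw [← conj_mul, hry, mul_inv_rev]
  rw [(S.ker_central hC h1 hrC).eq.symm, mul_inv_cancel_right] at h2
  have h4 : y * y * (y * y) = 1 := by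
    calc y * y * (y * y) = (y * y)⁻¹ * (y * y) := by rw [← h2]
      _ = 1 := inv_mul_cancel _
  refine B.eq_one_of_sq hG hJ hy ?_
  have := B.ker_cube hC h1
  rwa [h4, one_mul] at this

theorem exists_sylow_split [IsSimpleGroup G] (hG : ¬ IsMulCommutative G) (hJ : IsOfJankoFourType G) :
    ∃ T : Subgroup G, T ≤ B.L ∧ (∀ x ∈ T, (∀ k < 16, B.tab x k = k) → x = 1) ∧ Nat.card T = 16 := by
  classical
  obtain ⟨hr360, hs360⟩ := rTab_lt
  have hdt : ∀ k < 16,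
      kWord (altWord rTab) (kWord (altWord rTab) k) = k ∧ kWord (altWord sTab) (kWord (altWord sTab) k) = k ∧
      rsTab (rsTab (rsTab (rsTab k))) = k ∧ tauTab (tauTab k) = k ∧
      tauTab (kWord (altWord rTab) k) = kWord (altWord rTab) (tauTab k) ∧
      tauTab (kWord (altWord sTab) k) = kWord (altWord sTab) (tauTab k) := fun k hk => by
    have h := forallLt_elim dihedral_tables hk
    simp only [Bool.and_eq_true, Nat.beq_eq] at h
    exact ⟨h.1.1.1.1.1, h.1.1.1.1.2, h.1.1.1.2, h.1.1.2, h.1.2, h.2⟩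
  obtain ⟨t0, ht0, ht0o, ht0t⟩ := B.exists_tau hG hJ
  obtain ⟨τ, hτ, hττ, hτt, hτo⟩ := B.exists_inv_tab hG hJ ht0 ht0t fun k hk => (hdt k hk).2.2.2.1
  obtain ⟨r, hr, hrr, hrt, hri⟩ := B.exists_inv_tab hG hJ (B.tw_L (altWord rTab))
    (fun k hk => B.tab_tw ⟨rTab, hr360⟩ hk) fun k hk => (hdt k hk).1
  obtain ⟨s, hs, hss, hst, hsi⟩ := B.exists_inv_tab hG hJ (B.tw_L (altWord sTab))
    (fun k hk => B.tab_tw ⟨sTab, hs360⟩ hk) fun k hk => (hdt k hk).2.1
  have hrC : r ∈ S.C := B.L_inner hr (hri.2 (S.C_le_H0 (B.tw_mem _)))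
  have hsC : s ∈ S.C := B.L_inner hs (hsi.2 (S.C_le_H0 (B.tw_mem _)))
  have hri' : r⁻¹ = r := inv_eq_of_mul_eq_one_right hrr
  have hsi' : s⁻¹ = s := inv_eq_of_mul_eq_one_right hss
  have hτi : τ⁻¹ = τ := inv_eq_of_mul_eq_one_right hττ
  -- `τ` commutes with `r` and `s`
  have hcomm : ∀ {q : G} {f : ℕ → ℕ}, q ∈ B.L → q ∈ S.C → q * q = 1 → (∀ k < 16, B.tab q k = f k) →
      (∀ k < 16, f (f k) = k ∧ tauTab (f k) = f (tauTab k)) → Commute τ q := by
    intro q f hq hqC hqq hqt hf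
    have hqi : q⁻¹ = q := inv_eq_of_mul_eq_one_right hqq
    have h1 := B.sq_one_of_inverted hG hJ hqC hqq (mul_mem hτ hq)
      (by rw [mul_inv_rev, hτi, hqi, show q * (τ * q) * q = q * τ * (q * q) by group, hqq, mul_one])
      fun k hk => by
        rw [B.tab_congr_mul (mul_mem hτ hq) (mul_mem hτ hq) (f := fun j => tauTab (f j)) (g := fun j => tauTab (f j))
          (fun j hj => B.tab_congr_mul hτ hq hτt hqt hj) (fun j hj => B.tab_congr_mul hτ hq hτt hqt hj) hk]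
        have htk : tauTab k < 16 := tauTab_lt ⟨k, hk⟩
        rw [(hf k hk).2, (hf _ htk).1, (hdt k hk).2.2.2.1]
    show τ * q = q * τ
    calc τ * q = (τ * q)⁻¹ := eq_inv_of_mul_eq_one_left h1
      _ = q * τ := by rw [mul_inv_rev, hqi, hτi]
  have hτr := hcomm hr hrC hrr hrt fun k hk => ⟨(hdt k hk).1, (hdt k hk).2.2.2.2.1⟩
  have hτs := hcomm hs hsC hss hst fun k hk => ⟨(hdt k hk).2.1, (hdt k hk).2.2.2.2.2⟩
  have hrs := mul_mem hr hs
  have hrst : ∀ k < 16, B.tab (r * s) k = rsTab k := fun k hk => B.tab_congr_mul hr hs hrt hst hk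
  -- the product of `r` and `s` has order four
  have hm := B.sq_one_of_inverted hG hJ hrC hrr (mul_mem hrs hrs)
    (by
      rw [mul_inv_rev, mul_inv_rev, hri', hsi',
        show r * (r * s * (r * s)) * r = (r * r) * (s * r * (s * r)) by group, hrr, one_mul])
    fun k hk => by
      have h2 : ∀ j < 16, B.tab (r * s * (r * s)) j = rsTab (rsTab j) := fun j hj => B.tab_congr_mul hrs hrs hrst hrst hj
      exact (B.tab_congr_mul (mul_mem hrs hrs) (mul_mem hrs hrs) h2 h2 hk).trans (hdt k hk).2.2.1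
  set m := r * s with hmdef
  have hm4 : m ^ 4 = 1 := by rw [show 4 = 2 * 2 from rfl, pow_mul, pow_two, pow_two]; exact hm
  set T0 := Subgroup.zpowers m
  set T1 := T0 ⊔ Subgroup.zpowers r
  set T := T1 ⊔ Subgroup.zpowers τ
  have hrm : r * m * r⁻¹ = m⁻¹ := by
    rw [hmdef, mul_inv_rev, hri', hsi', show r * (r * s) * r = (r * r) * (s * r) by group, hrr, one_mul]
  have hnr : Subgroup.zpowers r ≤ Subgroup.normalizer (T0 : Set G) := by
    refine Subgroup.zpowers_le.2 (norm_of_map ?_)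
    rw [MonoidHom.map_zpowers]
    show Subgroup.zpowers (r * m * r⁻¹) = _
    rw [hrm, Subgroup.zpowers_inv]
  have hτm : Commute τ m := hτr.mul_right hτs
  have hnτ : Subgroup.zpowers τ ≤ Subgroup.normalizer (T1 : Set G) := by
    refine Subgroup.zpowers_le.2 (norm_of_map ?_)
    rw [Subgroup.map_sup, MonoidHom.map_zpowers, MonoidHom.map_zpowers]
    show Subgroup.zpowers (τ * m * τ⁻¹) ⊔ Subgroup.zpowers (τ * r * τ⁻¹) = _
    rw [hτm.eq, mul_inv_cancel_right, hτr.eq, mul_inv_cancel_right]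
  let word : Fin 16 → G := fun i => m ^ (i.1 % 4) * r ^ (i.1 / 4 % 2) * τ ^ (i.1 / 8)
  have hiter : ∀ (x : G) (f : ℕ → ℕ), x ∈ B.L → (∀ k < 16, B.tab x k = f k) → ∀ n, ∀ k < 16,
      B.tab (x ^ n) k = f^[n] k := by
    intro x f hx hxt n
    induction n with
    | zero => exact fun k hk => by rw [pow_zero, B.tab_one hk]; rfl
    | succ n ih =>
      intro k hk
      rw [pow_succ', Function.iterate_succ_apply']
      exact B.tab_congr_mul hx (pow_mem hx n) hxt ih hk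
  have hword : ∀ i, word i ∈ B.L ∧ ∀ k < 16, B.tab (word i) k = sylTab i.1 k := fun i =>
    ⟨mul_mem (mul_mem (pow_mem hrs _) (pow_mem hr _)) (pow_mem hτ _), fun k hk =>
      B.tab_congr_mul (mul_mem (pow_mem hrs _) (pow_mem hr _)) (pow_mem hτ _)
        (fun j hj => B.tab_congr_mul (pow_mem hrs _) (pow_mem hr _) (hiter m rsTab hrs hrst _) (hiter r _ hr hrt _) hj)
        (hiter τ tauTab hτ hτt _) hk⟩
  have hmT : m ∈ T := (le_sup_left : T1 ≤ T) ((le_sup_left : T0 ≤ T1) (Subgroup.mem_zpowers m))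
  have hrT : r ∈ T := (le_sup_left : T1 ≤ T) ((le_sup_right : _ ≤ T1) (Subgroup.mem_zpowers r))
  have hτT : τ ∈ T := (le_sup_right : _ ≤ T) (Subgroup.mem_zpowers τ)
  have hTw : ∀ x ∈ T, ∃ i, word i = x := by
    intro x hx
    have h1 : x ∈ (T1 : Set G) * (Subgroup.zpowers τ : Set G) := by
      rw [← Subgroup.coe_mul_of_right_le_normalizer_left _ _ hnτ]; exact hx
    obtain ⟨a, ha, b, hb, rfl⟩ := h1
    have h2 : a ∈ (T0 : Set G) * (Subgroup.zpowers r : Set G) := by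
      rw [← Subgroup.coe_mul_of_right_le_normalizer_left _ _ hnr]; exact ha
    obtain ⟨c, hc, d, hd, rfl⟩ := h2
    obtain ⟨nc, -, rfl⟩ := Finset.mem_image.1 (mem_zpowers_iff_mem_range_orderOf.1 (show c ∈ T0 from hc))
    obtain ⟨nd, -, rfl⟩ := Finset.mem_image.1 (mem_zpowers_iff_mem_range_orderOf.1 (show d ∈ Subgroup.zpowers r from hd))
    obtain ⟨nb, -, rfl⟩ := Finset.mem_image.1 (mem_zpowers_iff_mem_range_orderOf.1 (show b ∈ Subgroup.zpowers τ from hb))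
    have hred : ∀ (g : G) (k n : ℕ), g ^ k = 1 → g ^ n = g ^ (n % k) := fun g k n h => by
      conv_lhs => rw [← Nat.div_add_mod n k, pow_add, pow_mul, h, one_pow, one_mul]
    refine ⟨⟨nc % 4 + 4 * (nd % 2) + 8 * (nb % 2), by omega⟩, ?_⟩
    show m ^ _ * r ^ _ * τ ^ _ = _
    rw [show (nc % 4 + 4 * (nd % 2) + 8 * (nb % 2)) % 4 = nc % 4 by omega,
      show (nc % 4 + 4 * (nd % 2) + 8 * (nb % 2)) / 4 % 2 = nd % 2 by omega,
      show (nc % 4 + 4 * (nd % 2) + 8 * (nb % 2)) / 8 = nb % 2 by omega, hred m 4 nc hm4,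
      hred r 2 nd (by rw [pow_two, hrr]), hred τ 2 nb (by rw [pow_two, hττ])]
  have hwT : ∀ i, word i ∈ T := fun i => mul_mem (mul_mem (pow_mem hmT _) (pow_mem hrT _)) (pow_mem hτT _)
  have hinj : Function.Injective fun i => (⟨word i, hwT i⟩ : ↥T) := fun i j e => sylTab_inj i j fun k => by
    rw [← (hword i).2 k.1 k.2, ← (hword j).2 k.1 k.2, show word i = word j from congrArg Subtype.val e]
  refine ⟨T, fun x hx => ?_, fun x hx hid => ?_, ?_⟩
  · obtain ⟨i, rfl⟩ := hTw x hx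
    exact (hword i).1
  · obtain ⟨i, rfl⟩ := hTw x hx
    obtain rfl : i = 0 := sylTab_inj i 0 fun k => by
      rw [← (hword i).2 k.1 k.2, ← (hword 0).2 k.1 k.2, hid k.1 k.2]
      show k.1 = B.tab (m ^ 0 * r ^ 0 * τ ^ 0) k.1
      rw [pow_zero, pow_zero, pow_zero, mul_one, mul_one, B.tab_one k.2]
    show m ^ 0 * r ^ 0 * τ ^ 0 = 1
    rw [pow_zero, pow_zero, pow_zero, mul_one, mul_one]
  · rw [← Nat.card_eq_of_bijective _ ⟨hinj, fun ⟨x, hx⟩ => ?_⟩, Nat.card_fin]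
    obtain ⟨i, e⟩ := hTw x hx
    exact ⟨i, Subtype.ext e⟩

/-- The complement to `V`. -/
theorem exists_complement [IsSimpleGroup G] (hG : ¬ IsMulCommutative G) (hJ : IsOfJankoFourType G) :
    ∃ K : Subgroup G, K ≤ B.NV ∧ K ⊓ B.V = ⊥ ∧ K ⊔ B.V = B.NV ∧ Cfsg.Spor.IsoM24 ↥K := by
  classical
  haveI : Fact (Nat.Prime 2) := ⟨Nat.prime_two⟩
  obtain ⟨T, hTL, hTker, hT16⟩ := B.exists_sylow_split hG hJ
  have hWN : B.WS ≤ B.NV := by
    rintro _ ⟨w, hw, rfl⟩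
    exact B.actsV_norm (B.t_actsV hw)
  have hTN : T ≤ B.NV := fun x hx => (B.mem_L.1 (hTL hx)).1
  set A := B.WS ⊔ T with hA
  have hAset : (A : Set G) = (B.WS : Set G) * (T : Set G) :=
    Subgroup.coe_mul_of_right_le_normalizer_left _ _ fun x hx => B.L_norm_WS (hTL hx)
  set U0 := B.V ⊔ A with hU0
  have hAN : A ≤ B.NV := sup_le hWN hTN
  have hU0set : (U0 : Set G) = (B.V : Set G) * (A : Set G) := Subgroup.coe_mul_of_right_le_normalizer_left _ _ hAN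
  -- only the identity
  have hkey : ∀ v ∈ B.V, ∀ w < 64, ∀ t ∈ T, v * B.W w * t = 1 → v = 1 ∧ w = 0 ∧ t = 1 := by
    intro v hv w hw t ht e
    have hWE := B.X.F2_le_E (B.W_mem w)
    have hvw : v * B.W w ∈ S.H0 := mul_mem (B.V_le_H0 hv) (S.hEH0 hWE)
    have ht1 : t = (v * B.W w)⁻¹ := eq_inv_of_mul_eq_one_right e
    have ht0 : t ∈ S.H0 := ht1 ▸ inv_mem hvw
    have htC := B.L_inner (hTL ht) ht0
    have hid : ∀ k < 16, B.tab t k = k := by
      intro k hk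
      refine B.Pk_inj (B.tab_lt _ _) hk ?_
      rw [B.tab_conj htC (hTL ht) hk]
      obtain ⟨n, hn, rfl⟩ := hv
      have hf : S.f t = (B.Pk (Nat.shiftRight n 7))⁻¹ := by
        rw [ht1, S.f_inv hvw, S.f_mul (B.V_le_H0 (B.vel_mem hn)) (S.hEH0 hWE),
          (S.f_eq_one_iff (S.hEH0 hWE)).2 (Subgroup.mem_sup_left hWE), mul_one, B.f_vel hn]
      have hl : Nat.shiftRight n 7 < 16 := by
        show n >>> 7 < 16
        rw [Nat.shiftRight_eq_div_pow]; omega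
      have hc : Commute (B.Pk (Nat.shiftRight n 7)) (B.Pk k) := by
        show _ = _
        rw [B.Pk_mul hl hk, B.Pk_mul hk hl]
        exact congrArg B.Pk (Nat.xor_comm _ _)
      rw [hf, inv_inv, mul_assoc, ← hc.eq, inv_mul_cancel_left]
    have ht' := hTker t ht hid
    subst ht'
    rw [mul_one] at e
    have hWV : B.W w ∈ B.V := by rw [eq_inv_of_mul_eq_one_right e]; exact inv_mem hv
    obtain ⟨u, hu, c, hc, eW⟩ := B.mem_F1_code (B.mem_F1_of_V hWV hWE)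
    have hc' : c * c = 1 := by
      rcases S.hE.eq_or hc with e | e <;> rw [e]
      exacts [one_mul 1, S.z_sq]
    have hw0 := (B.U_mul_W_eq hu hw hc (by
      rw [eW, ← mul_assoc, ← (Frame.commute_z_zpowers (S := S) (S.hE.commute_z (B.X.F1_le_E (B.U_mem u))) hc).eq.symm,
        mul_assoc, U_sq, mul_one])).2.1
    subst hw0
    rw [W_zero, mul_one] at e
    exact ⟨e, rfl, rfl⟩
  have hAV : A ⊓ B.V = ⊥ := by
    rw [eq_bot_iff]
    rintro x ⟨hxA, hxV⟩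
    obtain ⟨_, ⟨w, hw, rfl⟩, t, ht, rfl⟩ := (hAset ▸ hxA : x ∈ (B.WS : Set G) * (T : Set G))
    obtain ⟨-, hw0, ht1⟩ := hkey _ (inv_mem hxV) w hw t ht (by rw [mul_assoc, inv_mul_cancel])
    show B.W w * t = 1
    rw [hw0, ht1, W_zero, mul_one]
  have hU0card : Nat.card U0 = 2 ^ 21 := by
    let φ : ↥B.V × Fin 64 × ↥T → ↥U0 := fun x => ⟨x.1 * B.W x.2.1.1 * x.2.2,
      mul_mem (mul_mem (Subgroup.mem_sup_left x.1.2) (Subgroup.mem_sup_right (Subgroup.mem_sup_left ⟨_, x.2.1.2, rfl⟩)))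
        (Subgroup.mem_sup_right (Subgroup.mem_sup_right x.2.2.2))⟩
    have hφ : Function.Bijective φ := by
      constructor
      · rintro ⟨v, w, t⟩ ⟨v', w', t'⟩ e
        have e' : (v : G) * B.W w.1 * t = v' * B.W w'.1 * t' := congrArg Subtype.val e
        have hWinv : (B.W w'.1)⁻¹ = B.W w'.1 := inv_eq_of_mul_eq_one_right (B.W_sq _)
        have hx : B.W w'.1 * ((v' : G)⁻¹ * v) * (B.W w'.1)⁻¹ ∈ B.V :=
          B.conj_mem (hWN ⟨_, w'.2, rfl⟩) (mul_mem (inv_mem v'.2) v.2)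
        obtain ⟨h1, h2, h3⟩ := hkey _ hx _ (Nat.xor_lt_two_pow (n := 6) w'.2 w.2) _ (mul_mem t.2 (inv_mem t'.2)) (by
          calc B.W w'.1 * ((v' : G)⁻¹ * v) * (B.W w'.1)⁻¹ * B.W (Nat.xor w'.1 w.1) * ((t : G) * (t' : G)⁻¹)
              = B.W w'.1 * (v' : G)⁻¹ * ((v : G) * B.W w.1 * t) * (t' : G)⁻¹ := by rw [← B.W_xor, hWinv]; simp only [mul_assoc]; rw [← mul_assoc (B.W w'.1) (B.W w'.1), B.W_sq, one_mul]
            _ = B.W w'.1 * B.W w'.1 := by rw [e']; group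
            _ = 1 := B.W_sq _)
        obtain rfl : w = w' := Fin.ext (Nat.xor_eq_zero_iff.1 h2).symm
        obtain rfl : t = t' := Subtype.ext (mul_inv_eq_one.1 h3)
        obtain rfl : v = v' := Subtype.ext (inv_mul_eq_one.1 (conj_eq_one_iff.1 h1)).symm
        rfl
      · rintro ⟨x, hx⟩
        obtain ⟨v, hv, a, ha, rfl⟩ := (hU0set ▸ hx : x ∈ (B.V : Set G) * (A : Set G))
        obtain ⟨_, ⟨w, hw, rfl⟩, t, ht, rfl⟩ := (hAset ▸ ha : a ∈ (B.WS : Set G) * (T : Set G))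
        exact ⟨(⟨v, hv⟩, ⟨w, hw⟩, ⟨t, ht⟩), Subtype.ext (mul_assoc _ _ _)⟩
    rw [← Nat.card_eq_of_bijective φ hφ, Nat.card_prod, Nat.card_prod, B.card_V, Nat.card_fin, hT16]
    norm_num
  -- Gaschütz
  set K := B.V.subgroupOf B.NV with hK
  haveI : K.Normal := Subgroup.normal_in_normalizer
  haveI : IsMulCommutative ↥K := ⟨⟨fun a b => Subtype.ext (Subtype.ext
    (B.commute_V (Subgroup.mem_subgroupOf.1 a.2) (Subgroup.mem_subgroupOf.1 b.2)).eq)⟩⟩
  have hU0N : U0 ≤ B.NV := sup_le Subgroup.le_normalizer hAN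
  have hinjm := Subgroup.map_injective B.NV.subtype_injective
  have hKU : K ≤ U0.subgroupOf B.NV := Subgroup.comap_mono le_sup_left
  have hKA : K ⊔ A.subgroupOf B.NV = U0.subgroupOf B.NV := hinjm (by
    rw [Subgroup.map_sup, Subgroup.map_subgroupOf_eq_of_le Subgroup.le_normalizer,
      Subgroup.map_subgroupOf_eq_of_le hAN, Subgroup.map_subgroupOf_eq_of_le hU0N])
  have hAK : A.subgroupOf B.NV ⊓ K = ⊥ := hinjm (by
    rw [Subgroup.map_inf _ _ _ B.NV.subtype_injective, Subgroup.map_subgroupOf_eq_of_le hAN,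
      Subgroup.map_subgroupOf_eq_of_le Subgroup.le_normalizer, Subgroup.map_bot, hAV])
  have hcop : (Nat.card K).Coprime (U0.subgroupOf B.NV).index := by
    have h := (U0.subgroupOf B.NV).card_mul_index
    rw [Nat.card_congr (Subgroup.subgroupOfEquivOfLe hU0N).toEquiv, hU0card, B.card_N hJ,
      (B.zset_spec hG hJ).1] at h
    rw [Nat.card_congr (Subgroup.subgroupOfEquivOfLe (Subgroup.le_normalizer : B.V ≤ B.NV)).toEquiv, B.card_V,
      show (U0.subgroupOf B.NV).index = 239085 by omega]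
    exact Nat.Coprime.pow_left _ (by norm_num)
  obtain ⟨H, hH⟩ := CfsgLib.Core.Gaschutz.gaschutz_exists hKU hcop hAK hKA
  obtain ⟨Φ, hΦ, hker, -⟩ := B.exists_phi hG hJ
  have hkerK : Φ.ker = K := by
    ext x
    rw [MonoidHom.mem_ker, hker, hK, Subgroup.mem_subgroupOf]
  refine ⟨H.map B.NV.subtype, Subgroup.map_subtype_le _, ?_, ?_, ⟨?_⟩⟩
  · rw [← Subgroup.map_subgroupOf_eq_of_le (Subgroup.le_normalizer : B.V ≤ B.NV),
      ← Subgroup.map_inf _ _ _ B.NV.subtype_injective, disjoint_iff.1 hH.symm.disjoint, Subgroup.map_bot]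
  · conv_lhs => rw [← Subgroup.map_subgroupOf_eq_of_le (Subgroup.le_normalizer : B.V ≤ B.NV)]
    rw [← Subgroup.map_sup, hH.symm.sup_eq_top, ← MonoidHom.range_eq_map, Subgroup.range_subtype]
  · exact (H.equivMapOfInjective _ B.NV.subtype_injective).symm.trans
      (hH.symm.QuotientMulEquiv.symm.trans ((QuotientGroup.quotientMulEquivOfEq hkerK.symm).trans
        (QuotientGroup.quotientKerEquivOfSurjective Φ hΦ)))

end HexBase

end CfsgLib.JankoFour
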