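import Cfsg.Agent.Lib.JankoFourHexad.InvolChecks
import Cfsg.Agent.Lib.JankoFourHexad.OrbitChecks
import Cfsg.Agent.Lib.JankoFourHexad.WordChecks

/-!
# Checks for the complement inside the centralizer of `z` (owner: helper28)
-/

set_option autoImplicit false
set_option maxRecDepth 100000

namespace CfsgLib.JankoFourHexad

open CfsgLib.Sporadic

/-- For a translate of the second fixed space, the translation; otherwise `16`. -/
def shiftData : List ℕ := [16, 16, 16, 16, 16, 16, 16, 16, 16, 16, 16, 16, 16, 16, 16, 16, 16, 16, 16, 16, 16, 16, 9, 16, 14, 16, 7, 16, 16, 16, 16, 16, 16, 16, 16, 16, 16, 16, 16, 5, 16, 10, 16, 16, 16, 16, 16, 16, 6, 16, 16, 16, 16, 13, 16, 8, 11, 1, 16, 16, 15, 12, 3, 16, 16, 16, 16, 16, 16, 16, 16, 4, 16, 16, 16, 2, 0]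

theorem shift_spec : forallLt 77 (fun j => if Nat.blt (shiftData.getD j 0) 16 then
      forallLt 64 (fun w => !Nat.beq (countLt 64 fun u =>
        Nat.beq (qWord (wordData.getD j []) u)
          (Nat.shiftRight (phiS (shiftData.getD j 0) w) 1 + 64 * w)) 0)
    else !Nat.beq (countLt 64 fun u => !Nat.beq u 0 && Nat.blt (qWord (wordData.getD j []) u) 64) 0) = true := by
  decide +kernel

theorem shift_inj : ∀ n : Fin 16, (∀ w : Fin 64, Nat.shiftRight (phiS n.1 w.1) 1 = 0) → n.1 = 0 := by decide +kernel

theorem qWord_zero : forallLt 77 (fun j => Nat.beq (qWord (wordData.getD j []) 0) 0) = true := by decide +kernel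

/-- The code not conjugate to `z` over a sum of lifts. -/
def repCode (k : ℕ) : ℕ :=
  if Nat.beq k 0 then 0
  else if Nat.testBit dMask (Nat.shiftLeft k 7) then Nat.shiftLeft k 7 else Nat.xor (Nat.shiftLeft k 7) 1

/-- The form on sums of lifts. -/
def omK (k l : ℕ) : ℕ := Nat.land (Nat.xor (Nat.xor (repCode k) (repCode l)) (repCode (Nat.xor k l))) 1

theorem fixed_parts : forallLt 2048 (fun n => !Nat.beq (gMap 2 n) n ||
    Nat.beq n (Nat.xor (Nat.land n 1) (Nat.shiftLeft (Nat.shiftRight n 7) 7))) = true := by decide +kernel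

theorem rep_spec : forallLt 16 (fun k =>
    Nat.beq (gMap 2 (repCode k)) (repCode k) && Nat.blt (repCode k) 2048 &&
    Nat.beq (gMap 2 (Nat.shiftLeft k 7)) (Nat.shiftLeft k 7) &&
    (Nat.beq k 0 || Nat.testBit dMask (repCode k)) && Nat.beq (Nat.shiftRight (repCode k) 7) k) = true := by
  decide +kernel

theorem rep_unique : forallLt 2048 (fun n => !Nat.beq (gMap 2 n) n || !Nat.testBit dMask n ||
    Nat.beq n (repCode (Nat.shiftRight n 7))) = true := by decide +kernel

/-- The packed table of the linear map with four given images. -/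
def packTab (a b c d : ℕ) : ℕ :=
  (List.range 16).foldl (fun acc k => Nat.lor acc (Nat.shiftLeft
    (xfold (fun j => if Nat.beq j 0 then a else if Nat.beq j 1 then b else if Nat.beq j 2 then c else d) k 4) (4 * k))) 0

/-- The outer table. -/
def tauTab (k : ℕ) : ℕ := xfold (fun j => [1, 2, 4, 12].getD j 0) k 4

/-- The packed table of a map followed by the outer table. -/
def tauPack (t : ℕ) : ℕ :=
  (List.range 16).foldl (fun acc k => Nat.lor acc (Nat.shiftLeft
    (tauTab (Nat.land (Nat.shiftRight t (4 * k)) 15)) (4 * k))) 0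

/-- Every form preserving table is inner or becomes inner after the outer table. -/
theorem table_split : forallLt 16 (fun a => forallLt 16 fun b =>
    !Nat.beq (omK a b) (omK 1 2) || forallLt 16 fun c =>
    !Nat.beq (omK a c) (omK 1 4) || !Nat.beq (omK b c) (omK 2 4) || forallLt 16 fun d =>
    !Nat.beq (omK a d) (omK 1 8) || !Nat.beq (omK b d) (omK 2 8) || !Nat.beq (omK c d) (omK 4 8) ||
    !(forallLt 16 fun k => forallLt 16 fun l =>
      Nat.beq (omK (Nat.land (Nat.shiftRight (packTab a b c d) (4 * k)) 15)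
        (Nat.land (Nat.shiftRight (packTab a b c d) (4 * l)) 15)) (omK k l)) ||
    altTab.any (fun t => Nat.beq t (packTab a b c d)) ||
    altTab.any (fun t => Nat.beq t (tauPack (packTab a b c d)))) = true := by decide +kernel

theorem fold_bits (f : ℕ → ℕ) (h : ∀ k, k < 16 → f k < 16) : ∀ n ≤ 16, ∀ b,
    ((List.range n).foldl (fun acc k => Nat.lor acc (Nat.shiftLeft (f k) (4 * k))) 0).testBit b =
      (decide (b < 4 * n) && (f (b / 4)).testBit (b % 4)) := by
  intro n
  induction n with
  | zero => intro _ b; simp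
  | succ n ih =>
    intro hn b
    rw [List.range_succ, List.foldl_append, List.foldl_cons, List.foldl_nil,
      show ∀ x y : ℕ, Nat.lor x y = x ||| y from fun _ _ => rfl,
      show ∀ x y : ℕ, Nat.shiftLeft x y = x <<< y from fun _ _ => rfl, Nat.testBit_or, Nat.testBit_shiftLeft]
    rw [ih (by omega) b]
    by_cases h1 : b < 4 * n
    · simp [h1, show b < 4 * (n + 1) by omega, show ¬ 4 * n ≤ b by omega]
    · by_cases h2 : b < 4 * (n + 1)
      · rw [show b / 4 = n by omega, show b % 4 = b - 4 * n by omega]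
        simp [h1, h2, show 4 * n ≤ b by omega]
      · have : (f n).testBit (b - 4 * n) = false :=
          Nat.testBit_lt_two_pow ((h n (by omega)).trans_le (Nat.pow_le_pow_right (by norm_num : 1 ≤ 2) (by omega : 4 ≤ b - 4 * n)))
        simp [h1, h2, this]

theorem fold_get (f : ℕ → ℕ) (h : ∀ k, k < 16 → f k < 16) {k : ℕ} (hk : k < 16) :
    Nat.land (Nat.shiftRight ((List.range 16).foldl (fun acc k => Nat.lor acc (Nat.shiftLeft (f k) (4 * k))) 0) (4 * k)) 15 =
      f k := by
  refine Nat.eq_of_testBit_eq fun i => ?_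
  rw [show ∀ x y : ℕ, Nat.land x y = x &&& y from fun _ _ => rfl,
    show ∀ x y : ℕ, Nat.shiftRight x y = x >>> y from fun _ _ => rfl, Nat.testBit_and, Nat.testBit_shiftRight,
    fold_bits f h 16 le_rfl, show (15 : ℕ) = 2 ^ 4 - 1 from rfl, Nat.testBit_two_pow_sub_one]
  by_cases hi : i < 4
  · simp [hi, show (4 * k + i) / 4 = k by omega, show (4 * k + i) % 4 = i by omega, show 4 * k + i < 4 * 16 by omega]
  · simp [hi, Nat.testBit_lt_two_pow ((h k hk).trans_le (Nat.pow_le_pow_right (by norm_num : 1 ≤ 2) (by omega : 4 ≤ i)))]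

/-- The two inner tables. -/
def rTab : ℕ := 244

/-- The second inner table. -/
def sTab : ℕ := 27

theorem dihedral_tables : forallLt 16 (fun k =>
    let r := fun k => kWord (altWord rTab) k
    let s := fun k => kWord (altWord sTab) k
    Nat.beq (r (r k)) k && Nat.beq (s (s k)) k && Nat.beq (r (s (r (s (r (s (r (s k)))))))) k &&
    Nat.beq (tauTab (tauTab k)) k && Nat.beq (tauTab (r k)) (r (tauTab k)) &&
    Nat.beq (tauTab (s k)) (s (tauTab k))) = true := by decide +kernel

end CfsgLib.JankoFourHexad
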