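import Cfsg.Agent.Lib.JankoFourHexad.Invol
import Cfsg.Agent.Lib.JankoFourHexad.FixChecks

/-!
# The part of `N(V)` fixing `z`, `P` and the second fixed space (owner: helper28)
-/

set_option autoImplicit false
set_option linter.unusedSectionVars false
set_option maxRecDepth 100000

namespace CfsgLib.JankoFour

open Cfsg CfsgLib.ThreeTrans
open CfsgLib.JankoFourHexad
open CfsgLib.JankoFour.M22 (Grp)
open CfsgLib.Sporadic (forallLt_elim countLt)

variable {G : Type*} [Group G] [Finite G]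

namespace HexBase

variable {S : Setting G} (B : HexBase S)

/-- The elements normalizing `V`, `P` and the second fixed space and commuting with `z`. -/
abbrev L : Subgroup G :=
  B.NV ⊓ (S.H ⊓ Subgroup.normalizer (S.P : Set G)) ⊓ Subgroup.normalizer (B.X.F2 : Set G)

theorem mem_L {x : G} : x ∈ B.L ↔ x ∈ B.NV ∧ S.Norm x ∧ x ∈ Subgroup.normalizer (B.X.F2 : Set G) := by
  rw [Subgroup.mem_inf, Subgroup.mem_inf, ← S.norm_iff, and_assoc]

theorem normF2_of {g : G} (h : ∀ e ∈ B.X.F2, g * e * g⁻¹ ∈ B.X.F2) : g ∈ Subgroup.normalizer (B.X.F2 : Set G) := by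
  refine norm_of_map (Subgroup.eq_of_le_of_card_ge ?_
    (by rw [Subgroup.card_map_of_injective (MulAut.conj g).injective]))
  rintro _ ⟨e, he, rfl⟩
  exact h e he

theorem mem_L_of_C {x : G} (hx : x ∈ S.C) (hV : x ∈ B.NV)
    (hn : B.X.n2⁻¹ * x * B.X.n2 ∈ Subgroup.normalizer (B.X.Kt : Set G)) : x ∈ B.L :=
  B.mem_L.2 ⟨hV, S.norm_of_mem_C hx, B.normF2_of fun _ he => B.X.conj_F2 hx hn he⟩

theorem a_L : B.X.F.a ∈ B.L := B.mem_L_of_C B.X.F.haC (B.actsV_norm B.a_actsV) B.X.norm2_a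

theorem b_L : B.X.F.b ∈ B.L := B.mem_L_of_C B.X.F.hbC (B.actsV_norm B.b_actsV) B.X.norm2_b

theorem p_L : B.X.F.p ∈ B.L := B.mem_L_of_C B.X.F.hpC (B.actsV_norm B.p_actsV) B.X.p_norm2

theorem z_L : S.z ∈ B.L :=
  B.mem_L.2 ⟨Subgroup.le_normalizer B.z_mem_V, S.norm_of_mem_C S.z_mem_C, Subgroup.le_normalizer B.X.z_F2⟩

theorem ker_L {x : G} (hx : x ∈ S.C) (h1 : S.f x = 1) : x ∈ B.L := by
  obtain ⟨q, hq, c, hc, rfl⟩ := S.C_ker hx h1
  obtain ⟨i, rfl⟩ := B.X.F.P_eq hq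
  exact mul_mem (pow_mem B.p_L i) (Subgroup.zpowers_le.2 B.z_L hc)

theorem cc_L : B.cc ∈ B.L := by
  have hk : B.cc * B.X.c⁻¹ ∈ S.C := mul_mem B.cc_mem (inv_mem B.X.hc)
  have h1 : S.f (B.cc * B.X.c⁻¹) = 1 := by
    rw [S.f_mul_C B.cc_mem (inv_mem B.X.hc), S.f_inv_C B.X.hc, B.f_cc, mul_inv_cancel]
  have h2 := (B.mem_L.1 (B.ker_L hk h1)).2.2
  refine B.mem_L.2 ⟨B.actsV_norm B.cc_actsV, S.norm_of_mem_C B.cc_mem, ?_⟩
  rw [show B.cc = B.cc * B.X.c⁻¹ * B.X.c by group]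
  exact mul_mem h2 (B.normF2_of fun _ he => B.X.conj_F2 B.X.hc B.X.norm2_c he)

theorem tw_L (w : List ℕ) : B.tw w ∈ B.L := by
  induction w with
  | nil => exact one_mem _
  | cons g w ih =>
    refine mul_mem (?_ : B.gen g ∈ B.L) ih
    unfold gen; split_ifs
    exacts [B.a_L, B.b_L, B.cc_L]

/-! ### An outer element -/

theorem normF1_of {n : G} (hn : n ∈ B.NV) (hz : Commute n S.z) : n ∈ Subgroup.normalizer (B.X.F1 : Set G) := by
  refine norm_of_map (Subgroup.eq_of_le_of_card_ge ?_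
    (by rw [Subgroup.card_map_of_injective (MulAut.conj n).injective]))
  rintro _ ⟨e, he, rfl⟩
  exact B.mem_F1_of_V (B.conj_mem hn (B.F1_le_V he)) (S.hE.conj_mem hz (B.X.F1_le_E he))

theorem exists_outer_norm_P (hJ : IsOfJankoFourType G) : ∃ n, S.Norm n ∧ n ∉ S.H0 ∧ n ∈ B.NV := by
  obtain ⟨n, hnz, hn0, hn⟩ := B.exists_outer_norm hJ
  obtain ⟨e, he, m, hm, rfl⟩ := S.C_pair hnz
  refine ⟨m, hm, fun h => hn0 (mul_mem (S.hEH0 he) h), ?_⟩
  rw [show m = e⁻¹ * (e * m) by group]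
  exact mul_mem (inv_mem (B.EP_norm (Subgroup.mem_sup_left he))) hn

theorem exists_word_rep {h : G} (hh : h ∈ S.H0) : ∃ j : Fin 77, ∃ t ∈ S.C,
    B.ActsQ t (qWord (wordData.getD j.1 [])) ∧ t⁻¹ * h ∈ Subgroup.normalizer (B.X.F1 : Set G) := by
  classical
  have hw : ∀ i : Fin 77, ∃ t ∈ S.C, B.ActsQ t (qWord (wordData.getD i.1 [])) := fun i => B.exists_word _ (word_ok i).1
  choose t htC ht using hw
  set N := S.H0 ⊓ Subgroup.normalizer (B.X.F1 : Set G)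
  let φ : Fin 77 × ↥N → ↥S.H0 := fun x => ⟨t x.1 * x.2, mul_mem (S.C_le_H0 (htC x.1)) x.2.2.1⟩
  have hφ : Function.Injective φ := by
    rintro ⟨i, a⟩ ⟨j, b⟩ e
    have e' : t i * a = t j * b := congrArg Subtype.val e
    obtain rfl : i = j := B.reps_sep (ht i) (ht j) (htC j) a.2.2 b.2.2 e'
    exact Prod.ext rfl (Subtype.ext (mul_left_cancel e'))
  have hb := hφ.bijective_of_nat_card_le (by
    rw [Nat.card_prod, Nat.card_fin, show Nat.card ↥N = Nat.card ↥(S.H0 ⊓ Subgroup.normalizer (B.X.F1 : Set G)) from rfl,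
      ← B.norm_eq, B.card_norm, S.card_H0]
    norm_num)
  obtain ⟨⟨j, a⟩, e⟩ := hb.2 ⟨h, hh⟩
  refine ⟨j, t j, htC j, ht j, ?_⟩
  rw [← show t j * (a : G) = h from congrArg Subtype.val e, inv_mul_cancel_left]
  exact a.2.2

theorem exists_outer_L (hJ : IsOfJankoFourType G) : ∃ n ∈ B.L, n ∉ S.H0 := by
  obtain ⟨n, hn, hn0, hnV⟩ := B.exists_outer_norm_P hJ
  have hnF := B.normF1_of hnV hn.1
  set h := n * B.X.n2 * n⁻¹ with hhdef
  have hh : h ∈ S.H0 := S.hnorm n hn.1 _ (S.C_le_H0 B.X.hn2)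
  obtain ⟨j, t, htC, ht, ha⟩ := B.exists_word_rep hh
  -- the image of the second fixed space
  have himg : ∀ e, e ∈ B.X.F2 ↔ t⁻¹ * (n * e * n⁻¹) * t ∈ B.X.F1 := by
    intro e
    rw [B.X.mem_F2_iff, show t⁻¹ * (n * e * n⁻¹) * t =
      (t⁻¹ * h) * (n * (B.X.n2⁻¹ * e * B.X.n2) * n⁻¹) * (t⁻¹ * h)⁻¹ by rw [hhdef]; group]
    exact (Subgroup.mem_normalizer_iff.1 hnF _).trans (Subgroup.mem_normalizer_iff.1 ha _)
  have hspec := forallLt_elim shift_spec j.2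
  have hq0 := Nat.eq_of_beq_eq_true (forallLt_elim qWord_zero j.2)
  have hwlt : ∀ u < 64, qWord (wordData.getD j.1 []) u < 4096 := fun u hu => (ht u (by omega)).1
  -- a code in the image
  have hback : ∀ u < 64, n⁻¹ * (t * B.q u * t⁻¹) * n ∈ B.X.F2 := fun u hu => by
    rw [himg, show t⁻¹ * (n * (n⁻¹ * (t * B.q u * t⁻¹) * n) * n⁻¹) * t = B.q u by group]
    exact B.q_mem_F1 hu
  by_cases hk : Nat.blt (shiftData.getD j.1 0) 16 = true
  · rw [if_pos hk] at hspec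
    rw [Nat.blt_eq] at hk
    set k := prod4 B.X.kl (shiftData.getD j.1 0) with hkdef
    have hkC : k ∈ S.C := HexFrame.prod4_mem (fun i _ => B.X.kl_mem i) _
    obtain ⟨hkU, hkW⟩ := B.moves_prod4 ⟨_, hk⟩
    have hkV : k ∈ B.V := HexFrame.prod4_mem (fun i hi => by
      rw [← B.vel_kl hi]; exact B.vel_mem (lt_of_le_of_lt (Nat.pow_le_pow_right (by norm_num) (by omega : i + 7 ≤ 10)) (by norm_num))) _
    refine ⟨k⁻¹ * n, B.mem_L.2 ⟨mul_mem (inv_mem (Subgroup.le_normalizer hkV)) hnV,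
      (S.norm_of_mem_C (inv_mem hkC)).mul S hn, ?_⟩, fun h' => hn0 ?_⟩
    · suffices hs : n⁻¹ * k ∈ Subgroup.normalizer (B.X.F2 : Set G) by
        have := inv_mem hs
        rwa [mul_inv_rev, inv_inv] at this
      refine B.normF2_of fun e he => ?_
      obtain ⟨w, hw, c, hc, rfl⟩ := B.mem_F2_code he
      have hs := forallLt_elim hspec hw
      obtain ⟨u, hu, hbe⟩ : ∃ u < 64, Nat.beq (qWord (wordData.getD j.1 []) u)
          (Nat.shiftRight (phiS (shiftData.getD j.1 0) w) 1 + 64 * w) = true := by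
        by_contra hno
        rw [CfsgLib.Sporadic.countLt_eq, Finset.card_eq_zero.2 (Finset.filter_eq_empty_iff.2 fun x hx hb =>
          hno ⟨x, Finset.mem_range.1 hx, hb⟩)] at hs
        simp at hs
      have eu := Nat.eq_of_beq_eq_true hbe
      obtain ⟨c', hc', ek⟩ := hkW w hw
      dsimp only at ek
      obtain ⟨-, hd⟩ := ht u (by omega)
      rw [eu] at hd
      set f := Nat.shiftRight (phiS (shiftData.getD j.1 0) w) 1 with hf
      have hf64 : f < 64 := by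
        have : ∀ n : Fin 16, ∀ w : Fin 64, Nat.shiftRight (phiS n.1 w.1) 1 < 64 := by decide +kernel
        exact this ⟨_, hk⟩ ⟨w, hw⟩
      rw [B.q_mk hf64] at hd
      set d := t * B.q u * t⁻¹ * (B.U f * B.W w)⁻¹ with hddef
      have hck : k * c * k⁻¹ = c := z_pow_comm (Frame.commute_z hkC) hc
      have e1 : n⁻¹ * k * (c * B.W w) * (n⁻¹ * k)⁻¹ = (n⁻¹ * (c * c' * d⁻¹) * n) * (n⁻¹ * (t * B.q u * t⁻¹) * n) := by
        calc n⁻¹ * k * (c * B.W w) * (n⁻¹ * k)⁻¹ = n⁻¹ * ((k * c * k⁻¹) * (k * B.W w * k⁻¹)) * n := by group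
          _ = n⁻¹ * (c * c' * (B.U f * B.W w)) * n := by rw [hck, ek]; group
          _ = _ := by rw [hddef]; group
      rw [e1]
      refine mul_mem ?_ (hback u hu)
      have hz' : c * c' * d⁻¹ ∈ Subgroup.zpowers S.z := mul_mem (mul_mem hc hc') (inv_mem hd)
      rw [show n⁻¹ * (c * c' * d⁻¹) * n = n⁻¹ * (c * c' * d⁻¹) * n⁻¹⁻¹ by rw [inv_inv],
        z_pow_comm hn.1.inv_left hz']
      exact Subgroup.zpowers_le.2 B.X.z_F2 hz'
    · simpa using mul_mem (S.C_le_H0 hkC) h'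
  · exfalso
    rw [if_neg hk] at hspec
    obtain ⟨u, hu, hb⟩ : ∃ u < 64, (!Nat.beq u 0 && Nat.blt (qWord (wordData.getD j.1 []) u) 64) = true := by
      by_contra hno
      rw [CfsgLib.Sporadic.countLt_eq, Finset.card_eq_zero.2 (Finset.filter_eq_empty_iff.2 fun x hx hb =>
        hno ⟨x, Finset.mem_range.1 hx, hb⟩)] at hspec
      simp at hspec
    rw [Bool.and_eq_true, Nat.blt_eq, Bool.not_eq_true'] at hb
    obtain ⟨hu0, hsmall⟩ := hb
    have hu0' : u ≠ 0 := by rintro rfl; simp at hu0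
    obtain ⟨-, hd⟩ := ht u (by omega)
    set v := qWord (wordData.getD j.1 []) u with hv
    have hF1 : t * B.q u * t⁻¹ ∈ B.X.F1 := by
      have := mul_mem (B.zpowers_le_F1 hd) (B.q_mem_F1 hsmall)
      rwa [inv_mul_cancel_right] at this
    have hm : n⁻¹ * (t * B.q u * t⁻¹) * n ∈ B.X.F1 := by
      have := (Subgroup.mem_normalizer_iff.1 (inv_mem hnF) _).1 hF1
      rwa [inv_inv] at this
    obtain ⟨u1, hu1, c1, hc1, e1⟩ := B.mem_F1_code hm
    obtain ⟨w2, hw2, c2, hc2, e2⟩ := B.mem_F2_code (hback u hu)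
    have hU : B.U u1 * B.W w2 = c1⁻¹ * c2 := by
      have e3 : B.U u1 = c1⁻¹ * c2 * B.W w2 := by rw [mul_assoc, ← e2, e1, inv_mul_cancel_left]
      rw [e3, mul_assoc (c1⁻¹ * c2), W_sq, mul_one]
    obtain ⟨hu10, -, -⟩ := B.U_mul_W_eq hu1 hw2 (mul_mem (inv_mem hc1) hc2) hU
    rw [hu10, U_zero, mul_one] at e1
    -- the image is central, so the code was trivial
    have hz1 : t * B.q u * t⁻¹ ∈ Subgroup.zpowers S.z := by
      rw [show t * B.q u * t⁻¹ = n * (n⁻¹ * (t * B.q u * t⁻¹) * n) * n⁻¹ by group, e1, z_pow_comm hn.1 hc1]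
      exact hc1
    have hz2 : B.q u ∈ Subgroup.zpowers S.z := by
      have h3 := z_pow_comm (g := t⁻¹) (Frame.commute_z htC).inv_left hz1
      rw [show t⁻¹ * (t * B.q u * t⁻¹) * t⁻¹⁻¹ = B.q u by group] at h3
      rwa [← h3] at hz1
    refine hu0' (B.q_inj (by omega : u < 4096) (by norm_num : (0 : ℕ) < 4096) ?_)
    rw [show B.q 0 = 1 by simp [q, U_zero, W_zero], inv_one, mul_one]
    exact hz2

end HexBase

end CfsgLib.JankoFour
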