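import Cfsg.Agent.Lib.JankoFourHexad.ClassChecks
import Cfsg.Agent.Lib.ThreeTrans.LargeFischer.DuadModel

/-!
# The codes of the duad class and the twenty-four points (owner: helper28)
-/

set_option autoImplicit false
set_option maxRecDepth 100000

namespace CfsgLib.JankoFourHexad

open Cfsg
open CfsgLib.Sporadic
open CfsgLib.ThreeTrans.LargeFischer

/-- The images of the basis in the coordinates of the points. -/
def lamImg : List ℕ := [947, 969, 997, 93, 111, 1979, 1870, 45, 764, 1960, 148]

/-- The inverse images of the basis. -/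
def lamPre : List ℕ := [134, 1736, 1275, 1603, 1134, 702, 1624, 1173, 943, 1957, 1634]

/-- The change of coordinates. -/
noncomputable def lam (n : ℕ) : ℕ := xorComb (fun i => lamImg.getD i 0) n 11

/-- The inverse change of coordinates. -/
noncomputable def lamI (n : ℕ) : ℕ := xorComb (fun i => lamPre.getD i 0) n 11

theorem lam_xor (a b : ℕ) : lam (a ^^^ b) = lam a ^^^ lam b := xorComb_xor _ a b 11

theorem lamI_xor (a b : ℕ) : lamI (a ^^^ b) = lamI a ^^^ lamI b := xorComb_xor _ a b 11

theorem lam_check : forallLt 2048 (fun n => Nat.blt (lam n) 2048 && Nat.blt (lamI n) 2048 &&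
    Nat.beq (lamI (lam n)) n && Nat.beq (lam (lamI n)) n &&
    (Nat.testBit axDuads (lam n) == Nat.testBit dMask n)) = true := by decide +kernel

theorem lam_spec {n : ℕ} (hn : n < 2048) : lam n < 2048 ∧ lamI n < 2048 ∧ lamI (lam n) = n ∧ lam (lamI n) = n ∧
    axDuads.testBit (lam n) = dMask.testBit n := by
  have h := forallLt_elim lam_check hn
  simp only [Bool.and_eq_true, Nat.blt_eq, Nat.beq_eq, beq_iff_eq] at h
  exact ⟨h.1.1.1.1, h.1.1.1.2, h.1.1.2, h.1.2, h.2⟩

/-- The code of a pair of points. -/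
noncomputable def pairCode (x y : GolayPt) : ℕ := lamI (dv x y)

theorem pairCode_lt (x y : GolayPt) : pairCode x y < 2048 := (lam_spec (dv_lt x y)).2.1

theorem lam_pairCode (x y : GolayPt) : lam (pairCode x y) = dv x y := (lam_spec (dv_lt x y)).2.2.2.1

theorem pairCode_duad {x y : GolayPt} (h : x ≠ y) : dMask.testBit (pairCode x y) = true := by
  rw [← (lam_spec (pairCode_lt x y)).2.2.2.2, lam_pairCode]
  exact duads_pair x y h

theorem exists_pairCode {n : ℕ} (hn : n < 2048) (h : dMask.testBit n = true) :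
    ∃ x y : GolayPt, x ≠ y ∧ pairCode x y = n := by
  rw [← (lam_spec hn).2.2.2.2] at h
  obtain ⟨x, y, hxy, e⟩ := duads_listed ⟨_, (lam_spec hn).1⟩ h
  change dv x y = lam n at e
  exact ⟨x, y, hxy, by rw [pairCode, e, (lam_spec hn).2.2.1]⟩

theorem pairCode_eq {a b c d : GolayPt} (hab : a ≠ b) (hcd : c ≠ d) (h : pairCode a b = pairCode c d) :
    (a = c ∧ b = d) ∨ (a = d ∧ b = c) :=
  dv_eq hab hcd (by rw [← lam_pairCode a b, ← lam_pairCode c d, h])

end CfsgLib.JankoFourHexad
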