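import Cfsg.Agent.Lib.JankoFourHexad.Duads
import Cfsg.Agent.Lib.JankoFourHexad.PointChecks
import Cfsg.Agent.Lib.ThreeTrans.LargeFischer.MathieuHom

/-!
# The normalizer of `V` acts on twenty-four points as the Mathieu group (owner: helper28)
-/

set_option autoImplicit false
set_option linter.unusedSectionVars false
set_option maxRecDepth 100000

namespace CfsgLib.JankoFour

open Cfsg CfsgLib.ThreeTrans
open CfsgLib.JankoFourHexad
open CfsgLib.ThreeTrans.LargeFischer (dv dv_lt vPt vPt_none exists_point_perm mem_M24_of_linear point_perm_unique)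

variable {G : Type*} [Group G] [Finite G]

namespace HexBase

variable {S : Setting G} (B : HexBase S)

/-- An element inducing a permutation of the points. -/
def Moves24 (g : G) (σ : Equiv.Perm GolayPt) : Prop :=
  ∀ x y, B.act g (pairCode x y) = pairCode (σ x) (σ y)

theorem moves24_unique {g : G} {σ τ : Equiv.Perm GolayPt} (h : B.Moves24 g σ) (h' : B.Moves24 g τ) : σ = τ :=
  point_perm_unique fun x y => by rw [← lam_pairCode (σ x) (σ y), ← h, h', lam_pairCode]

theorem moves24_mul {g k : G} (hg : g ∈ B.NV) (hk : k ∈ B.NV) {σ τ : Equiv.Perm GolayPt} (h : B.Moves24 g σ)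
    (h' : B.Moves24 k τ) : B.Moves24 (g * k) (σ * τ) := fun x y => by
  rw [B.act_mul hg hk (pairCode_lt x y), h', h]
  rfl

/-- Acting trivially on the pairs means lying in `V`. -/
theorem mem_V_of_fix {g : G} (hg : g ∈ B.NV) (h : ∀ x y, B.act g (pairCode x y) = pairCode x y) : g ∈ B.V := by
  have hset : ∀ s : Finset GolayPt, B.act g (lamI (CfsgLib.ThreeTrans.LargeFischer.pMask
      (CfsgLib.Sporadic.maskOf s))) = lamI (CfsgLib.ThreeTrans.LargeFischer.pMask (CfsgLib.Sporadic.maskOf s)) := by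
    intro s
    induction s using Finset.induction_on with
    | empty =>
      rw [CfsgLib.Sporadic.maskOf_empty, show CfsgLib.ThreeTrans.LargeFischer.pMask 0 = 0 by decide +kernel,
        show lamI 0 = 0 by decide +kernel, B.act_zero hg]
    | insert x s hx ih =>
      rw [CfsgLib.ThreeTrans.LargeFischer.maskOf_insert hx, CfsgLib.ThreeTrans.LargeFischer.pMask_xor,
        CfsgLib.ThreeTrans.LargeFischer.pMask_point, lamI_xor, B.act_xor hg, ih]
      congr 1
      have e : lamI (CfsgLib.ThreeTrans.LargeFischer.vI (CfsgLib.Sporadic.ix x)) = pairCode x none := by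
        rw [pairCode, dv, vPt_none, Nat.xor_zero]; rfl
      rw [e, h]
  refine B.centralizer_V (Subgroup.mem_centralizer_iff.2 fun v hv => ?_)
  obtain ⟨n, hn, rfl⟩ := hv
  obtain ⟨s, hs⟩ := CfsgLib.ThreeTrans.LargeFischer.exists_set (lam_spec hn).1
  have h1 : B.act g n = n := by
    have := hset s
    rwa [hs, (lam_spec hn).2.2.1] at this
  have h2 := B.vel_act hg hn
  rw [h1] at h2
  exact mul_inv_eq_iff_eq_mul.1 h2.symm |>.symm

theorem exists_moves24 [IsSimpleGroup G] (hG : ¬ IsMulCommutative G) (hJ : IsOfJankoFourType G) {g : G}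
    (hg : g ∈ B.NV) : ∃ σ ∈ M24, B.Moves24 g σ := by
  obtain ⟨-, hD, -⟩ := B.duads_spec hG hJ
  let π : ℕ → ℕ := fun n => lam (B.act g (lamI n))
  have hadd : ∀ a b, π (a ^^^ b) = π a ^^^ π b := fun a b => by
    simp only [π, lamI_xor, B.act_xor hg, lam_xor]
  have hDact : ∀ n < 2048, dMask.testBit (B.act g n) = dMask.testBit n := fun n hn => by
    rw [Bool.eq_iff_iff, hD n hn, hD _ (B.act_lt g n), B.isZc_act hg hn]
    refine and_congr_left' ⟨fun h e => h (by rw [e, B.act_zero hg]), fun h e => h ?_⟩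
    exact B.act_inj hg hn (by norm_num) (e.trans (B.act_zero hg).symm)
  obtain ⟨σ, hσ⟩ := exists_point_perm π (fun n => (lam_spec (B.act_lt _ _)).1) hadd
    (fun a b ha hb e => by
      have h1 := congrArg lamI e
      simp only [π] at h1
      rw [(lam_spec (B.act_lt _ _)).2.2.1, (lam_spec (B.act_lt _ _)).2.2.1] at h1
      have h2 := congrArg lam (B.act_inj hg (lam_spec ha).2.1 (lam_spec hb).2.1 h1)
      rwa [(lam_spec ha).2.2.2.1, (lam_spec hb).2.2.2.1] at h2)
    (fun n hn => by
      show _ = Nat.testBit _ (lam (B.act g (lamI n)))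
      rw [(lam_spec (B.act_lt g _)).2.2.2.2, hDact _ (lam_spec hn).2.1, ← (lam_spec (lam_spec hn).2.1).2.2.2.2,
        (lam_spec hn).2.2.2.1])
  refine ⟨σ, (mem_M24_of_linear π hadd hσ).1, fun x y => ?_⟩
  have h1 := congrArg lamI (hσ x y)
  simp only [π] at h1
  rwa [(lam_spec (B.act_lt _ _)).2.2.1] at h1

/-- The action on the points. -/
theorem exists_phi [IsSimpleGroup G] (hG : ¬ IsMulCommutative G) (hJ : IsOfJankoFourType G) :
    ∃ Φ : ↥B.NV →* ↥M24, Function.Surjective Φ ∧ (∀ m, Φ m = 1 ↔ (m : G) ∈ B.V) ∧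
      ∀ m : ↥B.NV, B.Moves24 (m : G) ((Φ m : ↥M24) : Equiv.Perm GolayPt) := by
  classical
  choose σ hσM hσ using fun m : ↥B.NV => B.exists_moves24 hG hJ m.2
  let Φ : ↥B.NV →* ↥M24 := MonoidHom.mk' (fun m => ⟨σ m, hσM m⟩) fun a b =>
    Subtype.ext (B.moves24_unique (hσ (a * b)) (B.moves24_mul a.2 b.2 (hσ a) (hσ b)))
  have hker : ∀ m, Φ m = 1 ↔ (m : G) ∈ B.V := by
    intro m
    refine ⟨fun h => B.mem_V_of_fix m.2 fun x y => ?_, fun h => Subtype.ext (B.moves24_unique (hσ m) fun x y => ?_)⟩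
    · have h2 := hσ m x y
      rwa [show σ m = 1 from congrArg Subtype.val h] at h2
    · refine B.act_eq m.2 (pairCode_lt x y) (pairCode_lt x y) ?_
      rw [(B.commute_V h (B.vel_mem (pairCode_lt x y))).eq, mul_inv_cancel_right]
      rfl
  refine ⟨Φ, ?_, hker, hσ⟩
  have hk : Φ.ker = B.V.subgroupOf B.NV := by
    ext m
    rw [MonoidHom.mem_ker, hker, Subgroup.mem_subgroupOf]
  have h := Subgroup.card_eq_card_quotient_mul_card_subgroup Φ.ker
  rw [Nat.card_congr (QuotientGroup.quotientKerEquivRange Φ).toEquiv, hk,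
    Nat.card_congr (Subgroup.subgroupOfEquivOfLe (Subgroup.le_normalizer : B.V ≤ B.NV)).toEquiv, B.card_V,
    B.card_N hJ, (B.zset_spec hG hJ).1] at h
  rw [← MonoidHom.range_eq_top]
  refine Subgroup.eq_top_of_card_eq _ ?_
  rw [CfsgLib.Sporadic.M24_card]
  omega

end HexBase

end CfsgLib.JankoFour
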