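import Cfsg.Agent.Lib.JankoFourHexad.PointChecks
import Cfsg.Agent.Lib.ThreeTrans.M24Inv

/-!
# Checks for involutions of the normalizer of `V` (owner: helper28)
-/

set_option autoImplicit false
set_option maxRecDepth 100000

namespace CfsgLib.JankoFourHexad

open Cfsg
open CfsgLib.Sporadic
open CfsgLib.ThreeTrans.LargeFischer
open CfsgLib.ThreeTrans.M24Inv (peq)

/-- The permutation of the points induced by the first element of the second hexad. -/
def ptEight : ℕ := 29340620570662517957029049942508631

/-- A permutation without fixed points. -/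
def ptZero : ℕ := 62563919208128639077930020080091874

/-- The map of the element with coordinates `w`. -/
def tMap (w n : ℕ) : ℕ := xfold (fun j => vT w (2 ^ j)) n 11

/-- The map of `p`, summed over its three powers. -/
def pSum (n : ℕ) : ℕ := Nat.xor (Nat.xor n (gMap 2 n)) (gMap 2 (gMap 2 n))

theorem pt_aut : isAut ptEight = true ∧ isAut ptZero = true ∧ pget ptEight 22 = 22 ∧
    forallLt 24 (fun i => !Nat.beq (pget ptZero i) i) = true ∧ peq ptEight pone = false ∧
    peq ptZero pone = false := by decide +kernel

theorem pt_moves : forallLt 24 (fun i => forallLt 24 fun j =>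
    Nat.beq (tMap 1 (lamI (Nat.xor (vI i) (vI j)))) (lamI (Nat.xor (vI (pget ptEight i)) (vI (pget ptEight j)))) &&
    Nat.beq (tMap 22 (lamI (Nat.xor (vI i) (vI j)))) (lamI (Nat.xor (vI (pget ptZero i)) (vI (pget ptZero j))))) = true := by
  decide +kernel

theorem duad_one : forallLt 2048 (fun n => !Nat.beq (gMap 2 n) n ||
    !(Nat.testBit dMask n && Nat.testBit dMask (Nat.xor n 1))) = true := by
  decide +kernel

theorem fixed_codes : forallLt 2048 (fun k => !Nat.beq (gMap 2 k) k ||
    Nat.blt k 2 || Nat.testBit dMask k || Nat.testBit dMask (Nat.xor k 1)) = true := by decide +kernel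

theorem pSum_fixed : forallLt 2048 (fun n => Nat.beq (gMap 2 (pSum n)) (pSum n) && Nat.blt (gMap 2 n) 2048 &&
    Nat.blt (pSum n) 2048) = true := by decide +kernel

theorem pSum_facts : pSum 1 = 1 ∧ gMap 2 0 = 0 ∧ gMap 2 1 = 1 := by decide +kernel

end CfsgLib.JankoFourHexad
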