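import Cfsg.Agent.Lib.JankoFourHexad.Points
import Cfsg.Agent.Lib.JankoFourHexad.InvolChecks

/-!
# Involutions in the cosets of `V` and squares equal to `z` (owner: helper28)
-/

set_option autoImplicit false
set_option linter.unusedSectionVars false
set_option maxRecDepth 100000

namespace CfsgLib.JankoFour

open Cfsg CfsgLib.ThreeTrans
open CfsgLib.JankoFourHexad
open CfsgLib.Sporadic (Rep pget pt ix ix_pt pt_ix ix_lt forallLt_elim pone exists_mem_M24)

variable {G : Type*} [Group G] [Finite G]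

namespace HexBase

variable {S : Setting G} (B : HexBase S)

theorem moves24_of_table {w p : ℕ} (hw : w < 64) {σ : Equiv.Perm GolayPt} (hσ : Rep σ p)
    (h : ∀ i < 24, ∀ j < 24, tMap w (lamI (Nat.xor (LargeFischer.vI i) (LargeFischer.vI j))) =
      lamI (Nat.xor (LargeFischer.vI (pget p i)) (LargeFischer.vI (pget p j)))) :
    B.Moves24 (B.W w) σ := by
  intro x y
  rw [B.act_of_actsV (B.t_actsV hw) (pairCode_lt x y)]
  show tMap w (lamI (Nat.xor (LargeFischer.vI (ix x)) (LargeFischer.vI (ix y)))) = _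
  rw [h _ (ix_lt x) _ (ix_lt y), hσ x, hσ y]
  rfl

/-- Every coset of `V` of square in `V` contains an element of order at most two. -/
theorem exists_inv_coset [IsSimpleGroup G] (hG : ¬ IsMulCommutative G) (hJ : IsOfJankoFourType G) {x : G}
    (hx : x ∈ B.NV) (hxx : x * x ∈ B.V) : ∃ v ∈ B.V, x * v * (x * v) = 1 := by
  classical
  haveI : Fact (Nat.Prime 2) := ⟨Nat.prime_two⟩
  obtain ⟨Φ, hΦ, hker, hmov⟩ := B.exists_phi hG hJ
  by_cases hxV : x ∈ B.V
  · exact ⟨x⁻¹, inv_mem hxV, by group⟩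
  obtain ⟨h8, h0, hfix, hfree, n8, n0⟩ := pt_aut
  obtain ⟨r8, -, hr8⟩ := exists_mem_M24 h8
  obtain ⟨r0, -, hr0⟩ := exists_mem_M24 h0
  have htN : ∀ {w : ℕ}, w < 64 → B.W w ∈ B.NV := fun hw => B.actsV_norm (B.t_actsV hw)
  have hord : ∀ {m : ↥B.NV}, (m : G) * m ∈ B.V → (m : G) ∉ B.V → orderOf ((Φ m : ↥M24) : Equiv.Perm GolayPt) = 2 := by
    intro m hm hmV
    refine orderOf_eq_prime ?_ fun e => hmV ((hker m).1 (Subtype.ext e))
    rw [pow_two, ← Subgroup.coe_mul, ← map_mul, (hker (m * m)).2 hm]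
    rfl
  have hnot : ∀ {w p : ℕ} (hw : w < 64) {r : Equiv.Perm GolayPt}, Rep r p → CfsgLib.ThreeTrans.M24Inv.peq p pone = false →
      B.Moves24 (B.W w) r → B.W w ∉ B.V := by
    intro w p hw r hr hne hmv hV
    have h1 := hmov ⟨_, htN hw⟩
    rw [(hker ⟨_, htN hw⟩).2 hV] at h1
    rw [(CfsgLib.ThreeTrans.M24Inv.peq_iff hr Rep.one).2 (B.moves24_unique hmv h1)] at hne
    exact Bool.noConfusion hne
  set g : Equiv.Perm GolayPt := ((Φ ⟨x, hx⟩ : ↥M24) : Equiv.Perm GolayPt) with hg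
  obtain ⟨w, hw, hwV, hiff⟩ : ∃ w, ∃ hw : w < 64, B.W w ∉ B.V ∧
      ((∀ p, ((Φ ⟨_, htN hw⟩ : ↥M24) : Equiv.Perm GolayPt) p ≠ p) ↔ ∀ p, g p ≠ p) := by
    have e8 := B.moves24_of_table (w := 1) (by norm_num) hr8 fun i hi j hj => by
      have := forallLt_elim (forallLt_elim pt_moves hi) hj
      rw [Bool.and_eq_true] at this
      exact Nat.eq_of_beq_eq_true this.1
    have e0 := B.moves24_of_table (w := 22) (by norm_num) hr0 fun i hi j hj => by
      have := forallLt_elim (forallLt_elim pt_moves hi) hj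
      rw [Bool.and_eq_true] at this
      exact Nat.eq_of_beq_eq_true this.2
    by_cases hf : ∀ p, g p ≠ p
    · refine ⟨22, by norm_num, hnot (by norm_num) hr0 n0 e0, iff_of_true (fun p hp => ?_) hf⟩
      rw [B.moves24_unique (hmov ⟨_, htN (by norm_num)⟩) e0] at hp
      have := forallLt_elim hfree (ix_lt p)
      rw [hr0 p, hp] at this
      simp at this
    · refine ⟨1, by norm_num, hnot (by norm_num) hr8 n8 e8, iff_of_false (fun hall => hall (pt 22) ?_) hf⟩
      rw [B.moves24_unique (hmov ⟨_, htN (by norm_num)⟩) e8]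
      have := hr8 (pt 22)
      rw [ix_pt (by norm_num), hfix] at this
      rw [← pt_ix (r8 (pt 22)), ← this]
  obtain ⟨-, -, -, hconj⟩ := CfsgLib.ThreeTrans.M24Inv.main
  obtain ⟨k, hk, e⟩ := hconj _ (Φ ⟨_, htN hw⟩).2 _ (Φ ⟨x, hx⟩).2
    (hord (m := ⟨_, htN hw⟩) (by rw [W_sq]; exact one_mem _) hwV) (hord (m := ⟨x, hx⟩) hxx hxV) hiff
  obtain ⟨m, hm⟩ := hΦ ⟨k, hk⟩
  set y : ↥B.NV := m * ⟨_, htN hw⟩ * m⁻¹
  have hy : Φ y = Φ ⟨x, hx⟩ := Subtype.ext (by
    simp only [y, map_mul, map_inv, hm, Subgroup.coe_mul, Subgroup.coe_inv]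
    exact e)
  have hv : x⁻¹ * (y : G) ∈ B.V := (hker (⟨x, hx⟩⁻¹ * y)).1 (by rw [map_mul, map_inv, hy, inv_mul_cancel])
  refine ⟨_, hv, ?_⟩
  rw [mul_inv_cancel_left]
  show (m : G) * B.W w * (m : G)⁻¹ * ((m : G) * B.W w * (m : G)⁻¹) = 1
  rw [conj_mul, W_sq, mul_one, mul_inv_cancel]

include B in
theorem pSum_xor {a b : ℕ} (ha : a < 2048) (hb : b < 2048) : pSum (a ^^^ b) = pSum a ^^^ pSum b := by
  have hab : a ^^^ b < 2048 := Nat.xor_lt_two_pow (n := 11) ha hb
  have hp : ∀ c < 2048, gMap 2 c < 2048 ∧ pSum c = c ^^^ B.act B.X.F.p c ^^^ B.act B.X.F.p (B.act B.X.F.p c) := by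
    intro c hc
    have h := forallLt_elim pSum_fixed hc
    simp only [Bool.and_eq_true, Nat.blt_eq] at h
    refine ⟨h.1.2, ?_⟩
    rw [B.act_of_actsV B.p_actsV hc, B.act_of_actsV B.p_actsV h.1.2]
    rfl
  have hN := B.actsV_norm B.p_actsV
  rw [(hp _ hab).2, (hp _ ha).2, (hp _ hb).2, B.act_xor hN a b, B.act_xor hN]
  refine Nat.eq_of_testBit_eq fun i => ?_
  simp only [Nat.testBit_xor]
  generalize a.testBit i = x1
  generalize b.testBit i = x2
  generalize (B.act B.X.F.p a).testBit i = x3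
  generalize (B.act B.X.F.p b).testBit i = x4
  generalize (B.act B.X.F.p (B.act B.X.F.p a)).testBit i = x5
  generalize (B.act B.X.F.p (B.act B.X.F.p b)).testBit i = x6
  cases x1 <;> cases x2 <;> cases x3 <;> cases x4 <;> cases x5 <;> cases x6 <;> rfl

/-- No element normalizing `P` and `V` squares to `z`. -/
theorem sq_ne_z [IsSimpleGroup G] (hG : ¬ IsMulCommutative G) (hJ : IsOfJankoFourType G) {x : G}
    (hx : x ∈ B.NV) (hn : S.Norm x) : x * x ≠ S.z := by
  intro hxx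
  obtain ⟨v, hv, hsq⟩ := B.exists_inv_coset hG hJ hx (hxx ▸ B.z_mem_V)
  obtain ⟨-, hD, -⟩ := B.duads_spec hG hJ
  set y := x⁻¹ with hy
  have hyN : y ∈ B.NV := inv_mem hx
  have hyn : S.Norm y := hn.inv S
  obtain ⟨m, hm, rfl⟩ := hv
  have hyv := B.vel_act hyN hm
  have h1 : B.act y m ^^^ m = 1 := by
    refine B.vel_inj (Nat.xor_lt_two_pow (n := 11) (B.act_lt _ _) hm) (by norm_num) ?_
    rw [show B.act y m ^^^ m = Nat.xor (B.act y m) m from rfl, ← B.vel_xor, vel_one, hyv]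
    have e : (x * x) * (x⁻¹ * B.vel m * x) * B.vel m = 1 := by rw [← hsq]; group
    rw [hxx, mul_assoc] at e
    rw [hy, inv_inv]
    exact (eq_inv_of_mul_eq_one_right e).trans (inv_eq_of_mul_eq_one_right S.z_sq)
  -- commuting with the powers of `p`
  have hpN := B.actsV_norm B.p_actsV
  have hcomm : ∀ a < 2048, B.act y (pSum a) = pSum (B.act y a) := by
    intro a ha
    have hp : ∀ c < 2048, gMap 2 c < 2048 ∧ B.act B.X.F.p c = gMap 2 c := fun c hc => by
      have h := forallLt_elim pSum_fixed hc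
      simp only [Bool.and_eq_true, Nat.blt_eq] at h
      exact ⟨h.1.2, B.act_of_actsV B.p_actsV hc⟩
    have hp3 : B.X.F.p ^ 3 = 1 := B.X.F.hp3 ▸ pow_orderOf_eq_one _
    have hb := B.act_lt y a
    have e1 := hp a ha
    have e2 := hp _ hb
    show B.act y (a ^^^ gMap 2 a ^^^ gMap 2 (gMap 2 a)) = B.act y a ^^^ gMap 2 (B.act y a) ^^^ gMap 2 (gMap 2 (B.act y a))
    rw [B.act_xor hyN, B.act_xor hyN, ← e1.2, ← e2.2, ← (hp _ (B.act_lt _ _)).2, ← (hp _ (B.act_lt _ _)).2,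
      ← B.act_mul hpN hpN ha, ← B.act_mul hyN hpN ha, ← B.act_mul hyN (mul_mem hpN hpN) ha,
      ← B.act_mul hpN hyN ha, ← B.act_mul hpN (mul_mem hpN hyN) ha]
    obtain ⟨i, hi⟩ := B.X.F.P_eq (hyn.2 _ B.X.F.hpP)
    have hyp : y * B.X.F.p = B.X.F.p ^ i * y := mul_inv_eq_iff_eq_mul.1 hi
    have hyp' : y * (B.X.F.p * B.X.F.p) = B.X.F.p ^ i * B.X.F.p ^ i * y := by
      rw [← mul_assoc, hyp, mul_assoc, hyp, mul_assoc]
    rw [hyp, hyp']
    have hi3 : i % 3 = 1 ∨ i % 3 = 2 := by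
      rcases (show i % 3 = 0 ∨ i % 3 = 1 ∨ i % 3 = 2 by omega) with e | e | e
      · exfalso
        rw [← Nat.div_add_mod i 3, e, pow_add, pow_mul, hp3, one_pow, pow_zero, one_mul] at hi
        exact B.X.F.p_ne (conj_eq_one_iff.1 hi)
      · exact Or.inl e
      · exact Or.inr e
    rw [show B.X.F.p ^ i = B.X.F.p ^ (i % 3) by conv_lhs => rw [← Nat.div_add_mod i 3, pow_add, pow_mul, hp3, one_pow, one_mul]]
    rcases hi3 with e | e <;> rw [e]
    · rw [pow_one, mul_assoc]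
    · rw [pow_two, show B.X.F.p * B.X.F.p * (B.X.F.p * B.X.F.p) = B.X.F.p by
        rw [← mul_assoc, show B.X.F.p * B.X.F.p * B.X.F.p = 1 by rw [← hp3, pow_succ, pow_two], one_mul], mul_assoc]
      exact (Nat.xor_assoc _ _ _).trans ((congrArg _ (Nat.xor_comm _ _)).trans (Nat.xor_assoc _ _ _).symm)
  have hk := forallLt_elim pSum_fixed hm
  simp only [Bool.and_eq_true, Nat.blt_eq, Nat.beq_eq] at hk
  obtain ⟨⟨hfix, -⟩, hklt⟩ := hk
  set k := pSum m with hkdef
  have h2 : B.act y k ^^^ k = 1 := by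
    rw [hkdef, hcomm m hm, ← B.pSum_xor (B.act_lt _ _) hm, h1]
    exact pSum_facts.1
  have hy1 : B.act y 1 = 1 := B.act_eq hyN (by norm_num) (by norm_num) (by
    rw [vel_one, hyn.1.eq, mul_inv_cancel_right])
  have hDact : ∀ n < 2048, dMask.testBit n = true → dMask.testBit (B.act y n) = true := fun n hn h => by
    obtain ⟨a, b⟩ := (hD n hn).1 h
    exact (hD _ (B.act_lt _ _)).2 ⟨fun e => a (B.act_inj hyN hn (by norm_num) (e.trans (B.act_zero hyN).symm)),
      fun c => b ((B.isZc_act hyN hn).1 c)⟩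
  have hbad : dMask.testBit k = true → dMask.testBit (k ^^^ 1) = true → False := fun a b => by
    have := forallLt_elim duad_one hklt
    rw [show Nat.xor k 1 = k ^^^ 1 from rfl, a, b, hfix, Nat.beq_refl] at this
    simp at this
  have hyk : B.act y k = k ^^^ 1 := by rw [← h2, Nat.xor_comm k, Nat.xor_assoc, Nat.xor_self, Nat.xor_zero]
  have h4 := forallLt_elim fixed_codes hklt
  simp only [hfix, Nat.beq_refl, Bool.not_true, Bool.false_or, Bool.or_eq_true, Nat.blt_eq] at h4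
  rcases h4 with (h4 | h4) | h4
  · rcases (show k = 0 ∨ k = 1 by omega) with e | e <;> rw [e] at hyk
    · rw [B.act_zero hyN] at hyk; simp at hyk
    · rw [hy1] at hyk; simp at hyk
  · exact hbad h4 (hyk ▸ hDact k hklt h4)
  · have hk1 : k ^^^ 1 < 2048 := Nat.xor_lt_two_pow (n := 11) hklt (by norm_num)
    have := hDact _ hk1 h4
    rw [B.act_xor hyN, hyk, hy1, Nat.xor_assoc, Nat.xor_self, Nat.xor_zero] at this
    exact hbad this h4

end HexBase

end CfsgLib.JankoFour
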