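import Cfsg.Agent.Lib.JankoFourHexad.Action

/-!
# The 276 codes not conjugate to `z` form one orbit (owner: helper28)
-/

set_option autoImplicit false
set_option linter.unusedSectionVars false
set_option maxRecDepth 100000

namespace CfsgLib.JankoFourHexad

theorem dMask_zero : dMask.testBit 0 = false := by decide +kernel

theorem root_facts : ∀ δ : Fin 16, (δ.1 = 0 ∨ δ.1 = 5) →
    cls δ.1 2 = 1 ∧ cls δ.1 3 = 1 ∧ cls δ.1 160 = 5 ∧ cls δ.1 1 = 0 ∧
    ∀ i : Fin 6, cls δ.1 (repData.getD (baseLab i.1) 0) = i.1 := by decide +kernel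

end CfsgLib.JankoFourHexad

namespace CfsgLib.JankoFour

open Cfsg CfsgLib.ThreeTrans
open CfsgLib.JankoFourHexad

variable {G : Type*} [Group G] [Finite G]

namespace HexBase

variable {S : Setting G} (B : HexBase S)

/-- The orbit of the code `2`. -/
def InOrbit (n : ℕ) : Prop := ∃ g ∈ B.NV, B.vel n = g * B.vel 2 * g⁻¹

theorem inOrbit_invariant : B.Invariant B.InOrbit := by
  intro t f ht n hn
  have htN := B.actsV_norm ht
  have e := (ht.2 n hn).2
  constructor
  · rintro ⟨g, hg, h⟩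
    refine ⟨t⁻¹ * g, mul_mem (inv_mem htN) hg, ?_⟩
    rw [← e] at h
    calc B.vel n = t⁻¹ * (t * B.vel n * t⁻¹) * t := by group
      _ = _ := by rw [h]; group
  · rintro ⟨g, hg, h⟩
    refine ⟨t * g, mul_mem htN hg, ?_⟩
    rw [← e, h]
    group

theorem inOrbit_two : B.InOrbit 2 := ⟨1, one_mem _, by group⟩

/-- The signs, the codes not conjugate to `z`, and their transitivity. -/
theorem duads_spec [IsSimpleGroup G] (hG : ¬ IsMulCommutative G) (hJ : IsOfJankoFourType G) :
    B.csign.1 = 5 ∧ (∀ n < 2048, dMask.testBit n = true ↔ n ≠ 0 ∧ ¬ B.IsZc n) ∧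
      ∀ n < 2048, dMask.testBit n = true → B.InOrbit n := by
  classical
  obtain ⟨-, δ, hδ, s, ⟨hd, hs45⟩, hs⟩ := B.zset_spec hG hJ
  obtain ⟨c2, c3, c160, c1, crep⟩ := root_facts δ hd
  have hP : ∀ {n : ℕ}, n < 2048 → n ≠ 0 → (B.InOrbit n ↔ B.InOrbit (lrep (baseLab (cls δ.1 n)))) := fun {n} hn h0 =>
    hδ ▸ B.class_spec B.inOrbit_invariant hn h0
  have hnot : ∀ n, B.InOrbit n → ¬ B.IsZc n := by
    rintro n ⟨g, -, e⟩ hz
    have h2 : B.IsZc 2 := hz.trans (isConj_iff.2 ⟨g, e.symm⟩).symm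
    have := (hs 2 (by norm_num) (by norm_num)).1 h2
    rw [c2] at this
    rcases hs45 with e' | e' <;> rw [e'] at this <;> exact absurd this (by decide)
  have h6 : ∀ {n : ℕ}, n < 2048 → n ≠ 0 → cls δ.1 n < 6 := fun {n} hn h0 => hδ ▸ B.cls_lt hn h0
  -- the orbit is the complement
  have hall : ∀ n < 2048, n ≠ 0 → ¬ B.IsZc n → B.InOrbit n := by
    intro n hn h0 hz
    have hb : ¬ s.1.testBit (cls δ.1 n) = true := fun h => hz ((hs n hn h0).2 h)
    by_contra hno
    have hcn : cls δ.1 n ≠ 1 := fun e => hno <| (hP hn h0).2 <| by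
      rw [e]
      have := (hP (n := 2) (by norm_num) (by norm_num)).1 B.inOrbit_two
      rwa [c2] at this
    -- the orbit lies in the first fixed space
    have hsmall : ∀ m < 2048, m ≠ 0 → B.InOrbit m → m < 128 := by
      intro m hm m0 hmo
      have hmb : ¬ s.1.testBit (cls δ.1 m) = true := fun h => hnot m hmo ((hs m hm m0).2 h)
      have hne : cls δ.1 m ≠ cls δ.1 n := fun e => hno <| (hP hn h0).2 <| e ▸ (hP hm m0).1 hmo
      obtain ⟨hl, -⟩ := cls_low δ ⟨m, hm⟩ m0
      refine hl.1 ?_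
      have h1 := h6 hn h0
      have h2 := h6 hm m0
      show cls δ.1 m < 3
      generalize cls δ.1 m = i at *
      generalize cls δ.1 n = k at *
      rcases hs45 with e | e <;> rw [e] at hb hmb <;> interval_cases i <;> interval_cases k <;>
        first | omega | exact absurd (by decide) hb | exact absurd (by decide) hmb
    have h3 : B.InOrbit 3 := (hP (by norm_num) (by norm_num)).2 <| by
      have := (hP (n := 2) (by norm_num) (by norm_num)).1 B.inOrbit_two
      rwa [c2, ← c3] at this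
    have h160 : B.IsZc 160 := (hs 160 (by norm_num) (by norm_num)).2 <| by
      rw [c160]; rcases hs45 with e | e <;> rw [e] <;> decide
    obtain ⟨c, hc⟩ := isConj_iff.1 h160
    obtain ⟨g, hg, hgz⟩ := B.fuse hJ (g := c) (hc ▸ B.vel_mem (by norm_num))
    have himg : ∀ m, B.InOrbit m → m < 2048 → m ≠ 0 → B.act g m < 128 := by
      intro m hmo hm m0
      refine hsmall _ (B.act_lt _ _) (fun e => m0 (B.act_inj hg hm (by norm_num) (e.trans (B.act_zero hg).symm))) ?_
      obtain ⟨h, hh, e⟩ := hmo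
      refine ⟨g * h, mul_mem hg hh, ?_⟩
      rw [B.vel_act hg hm, e]
      group
    have e1 : B.act g 1 = 160 := B.act_eq hg (by norm_num) (by norm_num) (by rw [vel_one, hgz, hc])
    have e2 : B.act g 1 = B.act g 2 ^^^ B.act g 3 := by rw [← B.act_xor hg, show (2 : ℕ) ^^^ 3 = 1 from rfl]
    have := Nat.xor_lt_two_pow (n := 7) (himg 2 B.inOrbit_two (by norm_num) (by norm_num))
      (himg 3 h3 (by norm_num) (by norm_num))
    omega
  -- the number of decompositions is constant
  have hbit : ∀ m < 2048, (restBit δ.1 s.1 m = true ↔ m ≠ 0 ∧ ¬ B.IsZc m) := by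
    intro m hm
    unfold restBit
    rw [Bool.and_eq_true, Bool.not_eq_true', Bool.not_eq_true']
    constructor
    · rintro ⟨a, b⟩
      have h0 : m ≠ 0 := by rintro rfl; simp at a
      exact ⟨h0, fun h => by rw [(hs m hm h0).1 h] at b; exact Bool.noConfusion b⟩
    · rintro ⟨h0, hz⟩
      refine ⟨?_, Bool.eq_false_iff.2 fun h => hz ((hs m hm h0).2 h)⟩
      cases hq : Nat.beq m 0
      · rfl
      · exact absurd (Nat.eq_of_beq_eq_true hq) h0
  have hconst : ∀ m < 2048, restBit δ.1 s.1 m = true → restPairs δ.1 s.1 m = restPairs δ.1 s.1 2 := by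
    intro m hm hmb
    obtain ⟨g, hg, e⟩ := hall m hm ((hbit m hm).1 hmb).1 ((hbit m hm).1 hmb).2
    have em : B.act g 2 = m := B.act_eq hg (by norm_num) hm e.symm
    have hinv : ∀ x < 2048, restBit δ.1 s.1 (B.act g x) = restBit δ.1 s.1 x := fun x hx => by
      rw [Bool.eq_iff_iff, hbit x hx, hbit _ (B.act_lt g x), B.isZc_act hg hx]
      refine and_congr_left' ⟨fun h e0 => h (by rw [e0, B.act_zero hg]), fun h e0 => h ?_⟩
      exact B.act_inj hg hx (by norm_num) (e0.trans (B.act_zero hg).symm)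
    rw [restPairs, restPairs, countLt_fin, countLt_fin]
    symm
    have hbij : Function.Bijective fun x : Fin 2048 => (⟨B.act g x.1, B.act_lt g x.1⟩ : Fin 2048) :=
      Finite.injective_iff_bijective.1 fun a b h => Fin.ext (B.act_inj hg a.2 b.2 (congrArg Fin.val h))
    refine Finset.card_equiv (Equiv.ofBijective _ hbij) fun x => ?_
    simp only [Finset.mem_filter, Finset.mem_univ, true_and, Equiv.ofBijective_apply]
    rw [hinv x.1 x.2, show Nat.xor m (B.act g x.1) = B.act g (Nat.xor 2 x.1) by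
      rw [← em]; exact (B.act_xor hg 2 x.1).symm, hinv (Nat.xor 2 x.1) (Nat.xor_lt_two_pow (n := 11) (by norm_num) x.2)]
  have hfin : δ.1 = 5 ∧ s.1 = 53 := by
    obtain ⟨a1, a2, a3, b1, b2, b3, d1, d2, d3⟩ := wrong_choices
    rcases hd with e | e <;> rcases hs45 with e' | e'
    · rw [e, e'] at hconst; exact absurd (hconst 129 (by norm_num) a2).symm a3
    · rw [e, e'] at hconst; exact absurd (hconst 128 (by norm_num) b2).symm b3
    · rw [e, e'] at hconst; exact absurd (hconst 129 (by norm_num) d2).symm d3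
    · exact ⟨e, e'⟩
  have hmask : ∀ m < 2048, (dMask.testBit m = true ↔ m ≠ 0 ∧ ¬ B.IsZc m) := fun m hm => by
    rw [← hbit m hm, hfin.1, hfin.2]
    have := CfsgLib.Sporadic.forallLt_elim dMask_eq hm
    rw [beq_iff_eq] at this
    rw [this]
  exact ⟨hδ ▸ hfin.1, hmask, fun n hn h => hall n hn ((hmask n hn).1 h).1 ((hmask n hn).1 h).2⟩

end HexBase

end CfsgLib.JankoFour
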