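import Mathlib

/-!
# Two involutions which are not conjugate have a common partner (owner: helper28)
-/

set_option autoImplicit false

namespace CfsgLib.JankoFour

variable {G : Type*} [Group G] [Finite G]

/-- Two involutions of `M` which are not conjugate in `M` commute with an involution `i` of `M` such that `a * i` is
conjugate to one of them. -/
theorem exists_mid {M : Subgroup G} {a b : G} (ha : a ∈ M) (hb : b ∈ M) (haa : a * a = 1) (hbb : b * b = 1)
    (hab : ∀ w ∈ M, w * a * w⁻¹ ≠ b) :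
    ∃ i ∈ M, i ≠ 1 ∧ Commute a i ∧ Commute b i ∧ ∃ w ∈ M, a * i = w * a * w⁻¹ ∨ a * i = w * b * w⁻¹ := by
  set c := a * b with hc
  have hcM : c ∈ M := mul_mem ha hb
  have hai : a⁻¹ = a := inv_eq_of_mul_eq_one_right haa
  have hbi : b⁻¹ = b := inv_eq_of_mul_eq_one_right hbb
  have hca : a * c * a⁻¹ = c⁻¹ := by
    rw [hc, mul_inv_rev, hai, hbi, ← mul_assoc, haa, one_mul]
  have hcak : ∀ k : ℕ, a * c ^ k * a⁻¹ = (c ^ k)⁻¹ := fun k => by rw [← conj_pow, hca, inv_pow]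
  have hb' : b = a * c := by rw [hc, ← mul_assoc, haa, one_mul]
  have hsq : ∀ k : ℕ, (c ^ k)⁻¹ * a * c ^ k = a * c ^ (2 * k) := fun k => by
    calc (c ^ k)⁻¹ * a * c ^ k = (a * c ^ k * a⁻¹) * a * c ^ k := by rw [hcak]
      _ = _ := by rw [inv_mul_cancel_right, two_mul, pow_add]; group
  obtain ⟨k, hk⟩ | ⟨k, hk⟩ := Nat.even_or_odd (orderOf c)
  · have hk0 : 0 < k := by have := orderOf_pos c; omega
    have hi1 : c ^ k ≠ 1 := fun e => by
      have := Nat.le_of_dvd hk0 (orderOf_dvd_of_pow_eq_one e); omega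
    have hii : (c ^ k)⁻¹ = c ^ k := inv_eq_of_mul_eq_one_right (by rw [← pow_add, ← hk, pow_orderOf_eq_one])
    have hca' : Commute a (c ^ k) := mul_inv_eq_iff_eq_mul.1 ((hcak k).trans hii)
    refine ⟨c ^ k, pow_mem hcM k, hi1, hca', ?_, ?_⟩
    · rw [hb']; exact hca'.mul_left (Commute.self_pow c k)
    obtain ⟨j, hj⟩ | ⟨j, hj⟩ := Nat.even_or_odd k
    · refine ⟨(c ^ j)⁻¹, inv_mem (pow_mem hcM j), Or.inl ?_⟩
      rw [inv_inv, hsq, hj]; ring_nf
    · refine ⟨(c ^ j)⁻¹, inv_mem (pow_mem hcM j), Or.inr ?_⟩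
      rw [inv_inv, hb', hj]
      calc a * c ^ (2 * j + 1) = (a * c ^ (2 * j)) * c := by rw [pow_succ, mul_assoc]
        _ = (c ^ j)⁻¹ * a * (c ^ j * c) := by rw [← hsq]; group
        _ = _ := by rw [← pow_succ, pow_succ']; group
  · exfalso
    refine hab (a * (c ^ k)⁻¹) (mul_mem ha (inv_mem (pow_mem hcM k))) ?_
    rw [mul_inv_rev, inv_inv, show a * (c ^ k)⁻¹ * a * (c ^ k * a⁻¹) = a * ((c ^ k)⁻¹ * a * c ^ k) * a⁻¹ by group, hsq]
    have h1 : c ^ (2 * k) = c⁻¹ := eq_inv_of_mul_eq_one_left (by rw [← pow_succ, ← hk, pow_orderOf_eq_one])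
    rw [h1, hc, mul_inv_rev, hai, hbi, ← mul_assoc, haa, one_mul, mul_assoc, haa, mul_one]

end CfsgLib.JankoFour
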