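import Cfsg.Agent.Lib.ThreeTrans.M24Inv
import Cfsg.Agent.Lib.Sporadic.M24

/-!
# Elementary abelian subgroups of M24 fixing a point or a pair (owner: helper28)
-/

set_option autoImplicit false

namespace CfsgLib.JankoFour

open Cfsg MulAction

theorem card_fix_eight {σ : Equiv.Perm GolayPt} (hσ : σ ∈ M24) (h2 : σ * σ = 1) (h1 : σ ≠ 1) {p : GolayPt}
    (hp : σ p = p) : (Finset.univ.filter fun x => σ x = x).card = 8 := by
  haveI : Fact (Nat.Prime 2) := ⟨Nat.prime_two⟩
  obtain ⟨hmain, -, -, -⟩ := CfsgLib.ThreeTrans.M24Inv.main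
  rcases hmain σ hσ (orderOf_eq_prime (by rw [pow_two, h2]) h1) with h | h
  · exact h.2
  · exact absurd hp (h p)

/-- A group of involutions fixing a point has order at most `16`. -/
theorem card_point_le {E : Subgroup (Equiv.Perm GolayPt)} (hE : E ≤ M24) (h2 : ∀ σ ∈ E, σ * σ = 1)
    {p : GolayPt} (hp : ∀ σ ∈ E, σ p = p) : Nat.card E ≤ 16 := by
  classical
  haveI : Fintype ↥E := Fintype.ofFinite _
  have h := sum_card_fixedBy_eq_card_orbits_mul_card_group ↥E GolayPt
  have hf : ∀ g : ↥E, Fintype.card (fixedBy GolayPt g) = if g = 1 then 24 else 8 := by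
    intro g
    have e : Fintype.card (fixedBy GolayPt g) = (Finset.univ.filter fun x => (g : Equiv.Perm GolayPt) x = x).card := by
      rw [← Fintype.card_subtype]
      exact Fintype.card_congr (Equiv.refl _)
    rw [e]
    split_ifs with hg
    · subst hg
      simp [GolayPt]
    · exact card_fix_eight (hE g.2) (h2 _ g.2) (fun c => hg (Subtype.ext c)) (hp _ g.2)
  rw [Finset.sum_congr rfl (fun g _ => hf g), ← Finset.sum_erase_add _ _ (Finset.mem_univ (1 : ↥E)), if_pos rfl,
    Finset.sum_congr rfl (g := fun _ => 8) (fun g hg => if_neg (Finset.ne_of_mem_erase hg)), Finset.sum_const,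
    Finset.card_erase_of_mem (Finset.mem_univ _), Finset.card_univ, smul_eq_mul] at h
  have hpos : 0 < Fintype.card ↥E := Fintype.card_pos
  have hd : Fintype.card ↥E ∣ 16 := by
    refine (Nat.dvd_add_right (dvd_mul_right (Fintype.card ↥E) 8)).1 ?_
    rw [show Fintype.card ↥E * 8 + 16 = (Fintype.card ↥E - 1) * 8 + 24 by omega, h]
    exact dvd_mul_left _ _
  rw [Nat.card_eq_fintype_card]
  exact Nat.le_of_dvd (by norm_num) hd

/-- A group of involutions fixing a pair has order at most `32`. -/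
theorem card_pair_le {E : Subgroup (Equiv.Perm GolayPt)} (hE : E ≤ M24) (h2 : ∀ σ ∈ E, σ * σ = 1)
    {p q : GolayPt} (hpq : ∀ σ ∈ E, σ p = p ∨ σ p = q) : Nat.card E ≤ 32 := by
  classical
  set E0 := E ⊓ stabilizer (Equiv.Perm GolayPt) p
  have h0 : Nat.card E0 ≤ 16 := card_point_le (inf_le_left.trans hE) (fun σ hσ => h2 σ hσ.1) fun σ hσ => hσ.2
  by_cases hall : ∀ σ ∈ E, σ p = p
  · exact (card_point_le hE h2 hall).trans (by norm_num)
  push Not at hall
  obtain ⟨τ, hτ, hτp⟩ := hall
  have hτq := (hpq τ hτ).resolve_left hτp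
  let f : ↥E → Bool × ↥E0 := fun σ =>
    if h : (σ : Equiv.Perm GolayPt) p = p then (false, ⟨σ, σ.2, h⟩)
    else (true, ⟨τ⁻¹ * (σ : Equiv.Perm GolayPt), E.mul_mem (E.inv_mem hτ) σ.2, by
      show τ⁻¹ ((σ : Equiv.Perm GolayPt) p) = p
      rw [(hpq _ σ.2).resolve_left h, ← hτq]; simp⟩)
  have hf : Function.Injective f := by
    intro a b e
    by_cases ha : (a : Equiv.Perm GolayPt) p = p <;> by_cases hb : (b : Equiv.Perm GolayPt) p = p <;>
      simp only [f, dif_pos, dif_neg, ha, hb, not_false_eq_true, Prod.mk.injEq, Bool.false_eq_true, Bool.true_eq_false,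
        false_and, true_and] at e
    · exact Subtype.ext (Subtype.mk.inj e)
    · exact Subtype.ext (mul_left_cancel (Subtype.mk.inj e))
  have := Nat.card_le_card_of_injective f hf
  rw [Nat.card_prod, Nat.card_eq_fintype_card (α := Bool), Fintype.card_bool] at this
  omega

end CfsgLib.JankoFour
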