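import Cfsg.Agent.Lib.JankoFourHexad.Hexads
import Cfsg.Agent.Lib.JankoFourHexad.Ranks
import Cfsg.Agent.Lib.JankoFourHexad.Dihedral

/-!
# The centralizer of an element of `V` not conjugate to `z` (owner: helper28)
-/

set_option autoImplicit false
set_option linter.unusedSectionVars false
set_option maxRecDepth 100000

namespace CfsgLib.JankoFour

open Cfsg CfsgLib.ThreeTrans
open CfsgLib.JankoFourHexad
open CfsgLib.Sporadic (Rep pget pt ix ix_pt pt_ix ix_lt forallLt_elim pone exists_mem_M24)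

variable {G : Type*} [Group G] [Finite G]

namespace HexBase

variable {S : Setting G} (B : HexBase S)

/-- A conjugate of `z` in `V`. -/
def IsY (y : G) : Prop := y ∈ B.V ∧ IsConj S.z y

theorem zCentBit_iff [IsSimpleGroup G] (hG : ¬ IsMulCommutative G) (hJ : IsOfJankoFourType G) {n : ℕ} (hn : n < 2048) :
    B.IsY (B.vel n) ↔ zCentBit n = true := by
  obtain ⟨-, hD, -⟩ := B.duads_spec hG hJ
  have h := hD n hn
  simp only [zCentBit, Bool.and_eq_true, Bool.not_eq_true']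
  constructor
  · rintro ⟨-, hz⟩
    refine ⟨?_, Bool.eq_false_iff.2 fun c => (h.1 c).2 hz⟩
    cases hb : Nat.beq n 0
    · rfl
    · exact absurd ((Nat.eq_of_beq_eq_true hb) ▸ hz) B.isZc_zero
  · rintro ⟨h0, hnD⟩
    refine ⟨B.vel_mem hn, ?_⟩
    by_contra hz
    have h0' : n ≠ 0 := by rintro rfl; simp at h0
    rw [h.2 ⟨h0', hz⟩] at hnD
    exact Bool.noConfusion hnD

theorem isY_conj {g y : G} (hg : g ∈ B.NV) (hy : B.IsY y) : B.IsY (g * y * g⁻¹) :=
  ⟨B.conj_mem hg hy.1, hy.2.trans (isConj_iff.2 ⟨g, rfl⟩)⟩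

/-- The centralizer of a conjugate of `z` in `V` and of a code not conjugate to it normalizes `V`. -/
theorem cent_Y_duad [IsSimpleGroup G] (hG : ¬ IsMulCommutative G) (hJ : IsOfJankoFourType G) {y : G} (hy : B.IsY y)
    {d : ℕ} (hd : d < 2048) (hdD : dMask.testBit d = true) {g : G} (hgy : Commute g y) (hgd : Commute g (B.vel d)) :
    g ∈ B.NV := by
  obtain ⟨-, hD, -⟩ := B.duads_spec hG hJ
  obtain ⟨hyV, hc⟩ := hy
  obtain ⟨c, hc⟩ := isConj_iff.1 hc
  obtain ⟨n, hn, hnz⟩ := B.fuse hJ (g := c) (hc ▸ hyV)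
  have hn' : n⁻¹ ∈ B.NV := inv_mem hn
  obtain ⟨h1, h2⟩ := (hD d hd).1 hdD
  have hd' : dMask.testBit (B.act n⁻¹ d) = true := (hD _ (B.act_lt _ _)).2
    ⟨fun e => h1 (B.act_inj hn' hd (by norm_num) (e.trans (B.act_zero hn').symm)), fun c => h2 ((B.isZc_act hn' hd).1 c)⟩
  have key := B.cent_z_duad hG hJ (B.act_lt n⁻¹ d) hd' (g := n⁻¹ * g * n⁻¹⁻¹) ?_ ?_
  · have := mul_mem (mul_mem hn key) hn'
    rwa [inv_inv, show n * (n⁻¹ * g * n) * n⁻¹ = g by group] at this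
  · rw [show S.z = n⁻¹ * y * n⁻¹⁻¹ by rw [← hc, ← hnz]; group]
    exact LargeData.commute_conj_iff'.2 hgy
  · rw [B.vel_act hn' hd]
    exact LargeData.commute_conj_iff'.2 hgd

/-! ### Groups containing `V` in which the conjugates of `z` in `V` have their centralizers in `N(V)` -/

variable {M : Subgroup G}

theorem mem_of_map_le (hJ : IsOfJankoFourType G) {g : G} (h : ∀ v ∈ B.V, g * v * g⁻¹ ∈ B.NV) : g ∈ B.NV := by
  obtain ⟨k, hk, e⟩ := conj_in hJ (elementary_map B.V_elementary g)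
    (by rw [Subgroup.card_map_of_injective (MulAut.conj g).injective, B.card_V]) B.V_elementary B.card_V
    (K := B.NV) (by rintro _ ⟨v, hv, rfl⟩; exact h v hv) Subgroup.le_normalizer
  have hkg : k * g ∈ B.NV := norm_of_map (by
    rw [Subgroup.map_map] at e
    convert e using 2
    ext x
    show k * g * x * (k * g)⁻¹ = k * (g * x * g⁻¹) * k⁻¹
    group)
  simpa using mul_mem (inv_mem hk) hkg

/-- An element of `V` whose centralizer in `M` leaves `N(V)` is common to `V` and such a conjugate. -/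
theorem meet_bad (hJ : IsOfJankoFourType G) (hVM : B.V ≤ M) {g : G} (hg : g ∈ M) (hgN : g ∉ B.NV) {u : G}
    (hu : u ∈ B.V) (hu' : g⁻¹ * u * g ∈ B.V) : ¬ ∀ h ∈ M, Commute h u → h ∈ B.NV := fun hall =>
  hgN <| B.mem_of_map_le hJ fun v hv => hall _ (mul_mem (mul_mem hg (hVM hv)) (inv_mem hg)) <| by
    have := (LargeData.commute_conj_iff' (g := g)).2 (B.commute_V hv hu')
    rwa [show g * (g⁻¹ * u * g) * g⁻¹ = u by group] at this

theorem stay (hJ : IsOfJankoFourType G) (hVM : B.V ≤ M) (hY : ∀ y, B.IsY y → ∀ h ∈ M, Commute h y → h ∈ B.NV)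
    {g : G} (hg : g ∈ M) {y : G} (hy : B.IsY y) (h : g * y * g⁻¹ ∈ B.V) : g ∈ B.NV := by
  by_contra hgN
  exact B.meet_bad hJ hVM hg hgN (u := g * y * g⁻¹) h
    (by rw [show g⁻¹ * (g * y * g⁻¹) * g = y by group]; exact hy.1)
    (hY _ ⟨h, hy.2.trans (isConj_iff.2 ⟨g, rfl⟩)⟩)

theorem closer (hJ : IsOfJankoFourType G) (hVM : B.V ≤ M) (hY : ∀ y, B.IsY y → ∀ h ∈ M, Commute h y → h ∈ B.NV)
    (hweak : ∀ g ∈ M, ∀ y, B.IsY y → g * y * g⁻¹ ∈ B.NV → g * y * g⁻¹ ∈ B.V)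
    {a b : G} (ha : B.IsY a) (hb : B.IsY b) (hab : ∀ n ∈ M, n ∈ B.NV → n * a * n⁻¹ ≠ b)
    (hgood : ∀ x, B.IsY x → x ≠ a → ∀ h ∈ M, Commute h (a * x) → h ∈ B.NV) : M ≤ B.NV := by
  intro g hg
  by_contra hgN
  set b' := g * b * g⁻¹ with hb'
  have hb'N : b' ∉ B.NV := fun h => hgN (B.stay hJ hVM hY hg hb (hweak g hg b hb h))
  have hb'M : b' ∈ M := mul_mem (mul_mem hg (hVM hb.1)) (inv_mem hg)
  have hsq : ∀ {v : G}, v ∈ B.V → v * v = 1 := fun hv => by rw [← pow_two]; exact B.V_elementary.2 _ hv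
  have haM : a ∈ M := hVM ha.1
  obtain ⟨i, hi, hi1, hai, hbi, w, hw, hcase⟩ := exists_mid haM hb'M (hsq ha.1)
    (by rw [hb', conj_mul, hsq hb.1, mul_one, mul_inv_cancel]) (fun w hw e => by
      have e' : g⁻¹ * w * a * (g⁻¹ * w)⁻¹ = b := by
        calc g⁻¹ * w * a * (g⁻¹ * w)⁻¹ = g⁻¹ * (w * a * w⁻¹) * g := by group
          _ = b := by rw [e, hb']; group
      have hu : g⁻¹ * w ∈ M := mul_mem (inv_mem hg) hw
      exact hab _ hu (B.stay hJ hVM hY hu ha (e'.symm ▸ hb.1)) e')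
  have hiN : i ∈ B.NV := hY a ha i hi hai.symm
  have haiN : a * i ∈ B.NV := mul_mem (Subgroup.le_normalizer ha.1) hiN
  have hx : B.IsY (a * i) := by
    rcases hcase with e | e
    · exact ⟨e ▸ hweak w hw a ha (e ▸ haiN), e ▸ ha.2.trans (isConj_iff.2 ⟨w, rfl⟩)⟩
    · have e' : a * i = w * g * b * (w * g)⁻¹ := by rw [e, hb']; group
      exact ⟨e' ▸ hweak _ (mul_mem hw hg) b hb (e' ▸ haiN), e' ▸ hb.2.trans (isConj_iff.2 ⟨_, rfl⟩)⟩
  refine hb'N (hgood _ hx (fun e => hi1 (mul_eq_left.1 e)) b' hb'M ?_)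
  rw [← mul_assoc, hsq ha.1, one_mul]
  exact hbi

/-! ### Conjugates inside `N(V)` outside `V` -/

theorem invol_types [IsSimpleGroup G] (hG : ¬ IsMulCommutative G) (hJ : IsOfJankoFourType G) {x : G}
    (hx : x ∈ B.NV) (hxV : x ∉ B.V) (hxx : x * x = 1) {σ : Equiv.Perm GolayPt} (hσ : B.Moves24 x σ) :
    ((∃ p, σ p = p) → ∃ m ∈ B.NV, (m * B.W 1 * m⁻¹)⁻¹ * x ∈ B.V) ∧
      ((∀ p, σ p ≠ p) → ∃ m ∈ B.NV, (m * B.W 22 * m⁻¹)⁻¹ * x ∈ B.V) := by
  haveI : Fact (Nat.Prime 2) := ⟨Nat.prime_two⟩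
  obtain ⟨Φ, hΦ, hker, hmov⟩ := B.exists_phi hG hJ
  obtain ⟨h8, h0, hfix, hfree, n8, n0⟩ := pt_aut
  obtain ⟨r8, hr8m, hr8⟩ := exists_mem_M24 h8
  obtain ⟨r0, hr0m, hr0⟩ := exists_mem_M24 h0
  have e8 := B.moves24_of_table (w := 1) (by norm_num) hr8 fun i hi j hj => by
    have := forallLt_elim (forallLt_elim pt_moves hi) hj
    rw [Bool.and_eq_true] at this
    exact Nat.eq_of_beq_eq_true this.1
  have e0 := B.moves24_of_table (w := 22) (by norm_num) hr0 fun i hi j hj => by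
    have := forallLt_elim (forallLt_elim pt_moves hi) hj
    rw [Bool.and_eq_true] at this
    exact Nat.eq_of_beq_eq_true this.2
  have key : ∀ {w : ℕ} (hw : w < 64) {r : Equiv.Perm GolayPt}, r ∈ M24 → r ≠ 1 → B.Moves24 (B.W w) r →
      ((∀ p, r p ≠ p) ↔ ∀ p, σ p ≠ p) → ∃ m ∈ B.NV, (m * B.W w * m⁻¹)⁻¹ * x ∈ B.V := by
    intro w hw r hr hr1 hmv hiff
    have hWN : B.W w ∈ B.NV := B.actsV_norm (B.t_actsV hw)
    have hΦw : ((Φ ⟨_, hWN⟩ : ↥M24) : Equiv.Perm GolayPt) = r := B.moves24_unique (hmov _) hmv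
    have hΦx : ((Φ ⟨x, hx⟩ : ↥M24) : Equiv.Perm GolayPt) = σ := B.moves24_unique (hmov _) hσ
    have hσM : σ ∈ M24 := hΦx ▸ (Φ ⟨x, hx⟩).2
    have ho : ∀ {m : ↥B.NV}, m * m = 1 → Φ m ≠ 1 → orderOf ((Φ m : ↥M24) : Equiv.Perm GolayPt) = 2 :=
      fun {m} hm hm1 => orderOf_eq_prime (by rw [pow_two, ← Subgroup.coe_mul, ← map_mul, hm, map_one]; rfl)
        fun e => hm1 (Subtype.ext e)
    have o1 := ho (m := ⟨_, hWN⟩) (Subtype.ext (B.W_sq w))
      (fun e => hr1 (hΦw.symm.trans (congrArg Subtype.val e)))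
    have o2 := ho (m := ⟨x, hx⟩) (Subtype.ext hxx) (fun e => hxV ((hker _).1 e))
    rw [hΦw] at o1
    rw [hΦx] at o2
    obtain ⟨-, -, -, hconj⟩ := CfsgLib.ThreeTrans.M24Inv.main
    obtain ⟨k, hk, e⟩ := hconj r hr σ hσM o1 o2 hiff
    obtain ⟨m, hm⟩ := hΦ ⟨k, hk⟩
    refine ⟨m, m.2, (hker ((m * ⟨_, hWN⟩ * m⁻¹)⁻¹ * ⟨x, hx⟩)).1 ?_⟩
    rw [map_mul, map_inv, inv_mul_eq_one]
    refine Subtype.ext ?_
    simp only [map_mul, map_inv, hm, Subgroup.coe_mul, Subgroup.coe_inv, hΦw, hΦx]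
    exact e
  constructor
  · rintro ⟨p, hp⟩
    refine key (by norm_num) hr8m (fun e => ?_) e8 (iff_of_false (fun h => h (pt 22) ?_) fun h => h p hp)
    · rw [(CfsgLib.ThreeTrans.M24Inv.peq_iff hr8 Rep.one).2 e] at n8; exact Bool.noConfusion n8
    · have := hr8 (pt 22)
      rw [ix_pt (by norm_num), hfix] at this
      rw [← pt_ix (r8 (pt 22)), ← this]
  · intro hall
    refine key (by norm_num) hr0m (fun e => ?_) e0 (iff_of_true (fun p hp => ?_) hall)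
    · rw [(CfsgLib.ThreeTrans.M24Inv.peq_iff hr0 Rep.one).2 e] at n0; exact Bool.noConfusion n0
    · have := forallLt_elim hfree (ix_lt p)
      rw [hr0 p, hp] at this
      simp at this

theorem commute_twist {x m v W : G} (hx : (m * W * m⁻¹)⁻¹ * x ∈ B.V) (hv : v ∈ B.V) (h : Commute W v) (hm : m ∈ B.NV) :
    Commute (m * v * m⁻¹) x := by
  have e : x = (m * W * m⁻¹) * ((m * W * m⁻¹)⁻¹ * x) := (mul_inv_cancel_left _ _).symm
  rw [e]
  exact (LargeData.commute_conj_iff'.2 h.symm).mul_right (B.commute_V (B.conj_mem hm hv) hx)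

theorem commute_of_fixed {w : ℕ} (hw : w < 64) {n : ℕ} (hn : n < 2048) (h : tMap w n = n) :
    Commute (B.W w) (B.vel n) := by
  have := ((B.t_actsV hw).2 n hn).2
  dsimp only at this
  rw [show xfold (fun j => vT w (2 ^ j)) n 11 = tMap w n from rfl, h] at this
  exact mul_inv_eq_iff_eq_mul.1 this

theorem fixed_large_cent {x m : G} (hm : m ∈ B.NV) (hx : (m * B.W 1 * m⁻¹)⁻¹ * x ∈ B.V) :
    128 ≤ Nat.card ↥(B.V ⊓ Subgroup.centralizer ({x} : Set G)) := by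
  have hN : Nat.card {n : Fin 2048 // tMap 1 n.1 = n.1} = 128 := by
    rw [Nat.card_eq_fintype_card, Fintype.card_subtype, ← Nat.eq_of_beq_eq_true fixed_eight, countLt_fin]
    congr 1
  rw [← hN]
  refine Nat.card_le_card_of_injective (fun n => ⟨m * B.vel n.1.1 * m⁻¹, B.conj_mem hm (B.vel_mem n.1.2),
    mem_centralizer_singleton_iff'.2 (B.commute_twist hx (B.vel_mem n.1.2) (B.commute_of_fixed (by norm_num) n.1.2 n.2) hm).eq⟩)
    fun a b e => Subtype.ext (Fin.ext (B.vel_inj a.1.2 b.1.2 (mul_left_cancel (mul_right_cancel (congrArg Subtype.val e)))))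

theorem free_witness [IsSimpleGroup G] (hG : ¬ IsMulCommutative G) (hJ : IsOfJankoFourType G) {x m : G}
    (hm : m ∈ B.NV) (hx : (m * B.W 22 * m⁻¹)⁻¹ * x ∈ B.V) :
    ∃ u w, B.IsY u ∧ B.IsY w ∧ B.IsY (u * w) ∧ Commute u x ∧ Commute w x := by
  obtain ⟨f1, f12, z1, z12, z13, -⟩ := fixed_free
  refine ⟨m * B.vel 1 * m⁻¹, m * B.vel 12 * m⁻¹, B.isY_conj hm ((B.zCentBit_iff hG hJ (by norm_num)).2 z1),
    B.isY_conj hm ((B.zCentBit_iff hG hJ (by norm_num)).2 z12), ?_,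
    B.commute_twist hx (B.vel_mem (by norm_num)) (B.commute_of_fixed (by norm_num) (by norm_num) f1) hm,
    B.commute_twist hx (B.vel_mem (by norm_num)) (B.commute_of_fixed (by norm_num) (by norm_num) f12) hm⟩
  rw [conj_mul, B.vel_xor]
  exact B.isY_conj hm ((B.zCentBit_iff hG hJ (Nat.xor_lt_two_pow (n := 11) (by norm_num) (by norm_num))).2 z13)

theorem cent_codes {s : Set G} {g : G} (hg : g ∈ Subgroup.centralizer s) {n : ℕ} (hn : n < 2048) (hs : B.vel n ∈ s)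
    (hgN : g ∈ B.NV) : B.act g n = n :=
  B.act_eq hgN hn hn (by rw [← Subgroup.mem_centralizer_iff.1 hg _ hs, mul_inv_cancel_right])

theorem pair_fix {g : G} {σ : Equiv.Perm GolayPt} (hσ : B.Moves24 g σ) {p q : GolayPt} (hpq : p ≠ q)
    (h : B.act g (pairCode p q) = pairCode p q) : (σ p = p ∧ σ q = q) ∨ (σ p = q ∧ σ q = p) := by
  have e := hσ p q
  rw [h] at e
  rcases pairCode_eq hpq (σ.injective.ne hpq) e with ⟨h1, h2⟩ | ⟨h1, h2⟩
  · exact Or.inl ⟨h1.symm, h2.symm⟩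
  · exact Or.inr ⟨h2.symm, h1.symm⟩

/-- The elements of `V` centralizing a conjugate `g y g⁻¹` outside `V`. -/
theorem weak_bound [IsSimpleGroup G] (hG : ¬ IsMulCommutative G) (hJ : IsOfJankoFourType G) (hVM : B.V ≤ M)
    (hY : ∀ y, B.IsY y → ∀ h ∈ M, Commute h y → h ∈ B.NV) {J : Finset G}
    (hJbad : ∀ u ∈ B.V, u ∉ J → ∀ h ∈ M, Commute h u → h ∈ B.NV) {r : ℕ}
    (hr : ∀ E : Subgroup (Equiv.Perm GolayPt), E ≤ M24 → (∀ σ ∈ E, σ * σ = 1) →
      (∀ σ ∈ E, ∃ x ∈ M, x ∈ B.NV ∧ B.Moves24 x σ) → Nat.card E ≤ r)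
    {g : G} (hg : g ∈ M) {y : G} (hy : B.IsY y) (hN : g * y * g⁻¹ ∈ B.NV) (hV : g * y * g⁻¹ ∉ B.V) :
    Nat.card ↥(B.V ⊓ Subgroup.centralizer ({g * y * g⁻¹} : Set G)) ≤ J.card * r := by
  classical
  obtain ⟨Φ, -, hker, hmov⟩ := B.exists_phi hG hJ
  set y' := g * y * g⁻¹
  have hgN : g ∉ B.NV := fun h => hV (B.conj_mem h hy.1)
  set A := B.V ⊓ Subgroup.centralizer ({y'} : Set G)
  have hA : ∀ a ∈ A, g⁻¹ * a * g ∈ B.NV := fun a ha => hY y hy _ (mul_mem (mul_mem (inv_mem hg) (hVM ha.1)) hg) (by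
    have := (LargeData.commute_conj_iff' (g := g⁻¹)).2 (show Commute a y' from mem_centralizer_singleton_iff'.1 ha.2)
    rwa [show g⁻¹ * y' * g⁻¹⁻¹ = y by simp only [y']; group, inv_inv] at this)
  let ψ : ↥A →* Equiv.Perm GolayPt := M24.subtype.comp (Φ.comp (MonoidHom.mk'
    (fun a : ↥A => (⟨g⁻¹ * a * g, hA a a.2⟩ : ↥B.NV)) fun a b => Subtype.ext (by
      show g⁻¹ * ((a : G) * b) * g = g⁻¹ * a * g * (g⁻¹ * b * g)
      group)))
  have hk : Nat.card ψ.ker ≤ J.card := by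
    rw [← Fintype.card_coe J, ← Nat.card_eq_fintype_card]
    refine Nat.card_le_card_of_injective (fun a => ⟨((a : ↥A) : G), ?_⟩) fun a b e => Subtype.ext (Subtype.ext (Subtype.mk.inj e))
    by_contra hnJ
    exact B.meet_bad hJ hVM hg hgN (a : ↥A).2.1 ((hker _).1 (Subtype.ext (MonoidHom.mem_ker.1 a.2)))
      (hJbad _ (a : ↥A).2.1 hnJ)
  have hrge : Nat.card ψ.range ≤ r := by
    refine hr _ ?_ ?_ ?_
    · rintro _ ⟨a, rfl⟩; exact (Φ _).2
    · rintro _ ⟨a, rfl⟩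
      rw [← map_mul, show a * a = 1 from Subtype.ext (by
        show (a : G) * a = 1
        rw [← pow_two]; exact B.V_elementary.2 _ a.2.1), map_one]
    · rintro _ ⟨a, rfl⟩
      exact ⟨g⁻¹ * a * g, mul_mem (mul_mem (inv_mem hg) (hVM a.2.1)) hg, hA a a.2, hmov ⟨_, hA a a.2⟩⟩
  rw [Subgroup.card_eq_card_quotient_mul_card_subgroup ψ.ker,
    Nat.card_congr (QuotientGroup.quotientKerEquivRange ψ).toEquiv, mul_comm]
  exact Nat.mul_le_mul hk hrge

/-- The centralizer of two codes whose sum is also not conjugate to `z`. -/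
theorem cent_triangle [IsSimpleGroup G] (hG : ¬ IsMulCommutative G) (hJ : IsOfJankoFourType G) {d : ℕ} (hd : d < 2048)
    (hdD : dMask.testBit d = true) (hd2 : dMask.testBit (Nat.xor d 2) = true) :
    Subgroup.centralizer ({B.vel 2, B.vel d} : Set G) ≤ B.NV := by
  classical
  obtain ⟨-, hD, -⟩ := B.duads_spec hG hJ
  set M := Subgroup.centralizer ({B.vel 2, B.vel d} : Set G) with hM
  have h2D : dMask.testBit 2 = true := fixed_free.2.2.2.2.2
  have hd2lt : Nat.xor d 2 < 2048 := Nat.xor_lt_two_pow (n := 11) hd (by norm_num)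
  have hVM : B.V ≤ M := fun v hv => Subgroup.mem_centralizer_iff.2 fun x hx => by
    rcases hx with rfl | rfl
    · exact (B.commute_V (B.vel_mem (by norm_num)) hv).eq
    · exact (B.commute_V (B.vel_mem hd) hv).eq
  have hM2 : ∀ {h}, h ∈ M → Commute h (B.vel 2) := fun hh =>
    (Subgroup.mem_centralizer_iff.1 hh _ (Or.inl rfl)).symm
  have hMd : ∀ {h}, h ∈ M → Commute h (B.vel d) := fun hh =>
    (Subgroup.mem_centralizer_iff.1 hh _ (Or.inr rfl)).symm
  have hY : ∀ y, B.IsY y → ∀ h ∈ M, Commute h y → h ∈ B.NV := fun y hy h hh hc =>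
    B.cent_Y_duad hG hJ hy (by norm_num) h2D hc (hM2 hh)
  let J : Finset G := {1, B.vel 2, B.vel d, B.vel (Nat.xor d 2)}
  have hJbad : ∀ u ∈ B.V, u ∉ J → ∀ h ∈ M, Commute h u → h ∈ B.NV := by
    rintro _ ⟨n, hn, rfl⟩ hnJ h hh hc
    simp only [J, Finset.mem_insert, Finset.mem_singleton, not_or] at hnJ
    by_cases hz : zCentBit n = true
    · exact hY _ ((B.zCentBit_iff hG hJ hn).2 hz) h hh hc
    have h0 : n ≠ 0 := fun e => hnJ.1 (by rw [e, vel_zero])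
    have hnD : dMask.testBit n = true := by
      rcases Bool.eq_false_or_eq_true (dMask.testBit n) with e | e
      · exact e
      · exfalso
        apply hz
        simp only [zCentBit, e, Bool.not_false, Bool.and_true, Bool.not_eq_true']
        cases hb : Nat.beq n 0
        · rfl
        · exact absurd (Nat.eq_of_beq_eq_true hb) h0
    have hq := forallLt_elim near_closed hd
    simp only [hdD, hd2, Bool.not_true, Bool.false_or] at hq
    have hq := forallLt_elim hq hn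
    simp only [hnD, Bool.not_true, Bool.false_or, Bool.or_eq_true, Nat.beq_eq] at hq
    have go : ∀ j < 2048, Commute h (B.vel j) → zCentBit (Nat.xor n j) = true → h ∈ B.NV := fun j hj hcj hzj =>
      hY _ ((B.zCentBit_iff hG hJ (Nat.xor_lt_two_pow (n := 11) hn hj)).2 hzj) h hh (B.vel_xor n j ▸ hc.mul_right hcj)
    rcases hq with ((((e | e) | e) | e) | e) | e
    · exact absurd (congrArg B.vel e) hnJ.2.1
    · exact absurd (congrArg B.vel e) hnJ.2.2.1
    · exact absurd (congrArg B.vel e) hnJ.2.2.2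
    · exact go 2 (by norm_num) (hM2 hh) e
    · exact go d hd (hMd hh) e
    · exact go _ hd2lt (B.vel_xor d 2 ▸ (hMd hh).mul_right (hM2 hh)) e
  -- a common point of the two duads
  obtain ⟨p, q, hpq, e2⟩ := exists_pairCode (show (2 : ℕ) < 2048 by norm_num) h2D
  obtain ⟨p', q', hpq', ed⟩ := exists_pairCode hd hdD
  obtain ⟨c, hc⟩ : ∃ c, ∀ x ∈ M, x ∈ B.NV → ∀ σ, B.Moves24 x σ → σ c = c := by
    have hax : LargeFischer.axDuads.testBit (LargeFischer.dv p q ^^^ LargeFischer.dv p' q') = true := by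
      rw [← lam_pairCode, ← lam_pairCode, ← lam_xor, e2, ed,
        (lam_spec (Nat.xor_lt_two_pow (n := 11) (by norm_num) hd)).2.2.2.2, Nat.xor_comm]
      exact hd2
    have hne : pairCode p q ≠ pairCode p' q' := fun e => by
      rw [e2, ed] at e
      rw [← e, show Nat.xor 2 2 = 0 from rfl, dMask_zero] at hd2
      exact Bool.noConfusion hd2
    have hmeet := LargeFischer.dv_meet hpq hpq' hax
    have main : ∀ c a a', c ≠ a → c ≠ a' → a ≠ a' → B.vel (pairCode c a) ∈ ({B.vel 2, B.vel d} : Set G) →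
        B.vel (pairCode c a') ∈ ({B.vel 2, B.vel d} : Set G) →
        ∀ x ∈ M, x ∈ B.NV → ∀ σ, B.Moves24 x σ → σ c = c := by
      intro c a a' hca hca' haa' h1 h2 x hx hxN σ hσ
      rcases B.pair_fix hσ hca (B.cent_codes hx (pairCode_lt _ _) h1 hxN) with ⟨u1, -⟩ | ⟨u1, -⟩
      · exact u1
      rcases B.pair_fix hσ hca' (B.cent_codes hx (pairCode_lt _ _) h2 hxN) with ⟨u2, -⟩ | ⟨u2, -⟩
      · exact u2
      · exact absurd (u1.symm.trans u2) haa'
    have hcomm : ∀ a b, pairCode a b = pairCode b a := fun a b => congrArg lamI (LargeFischer.dv_comm a b)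
    have m2 : B.vel 2 ∈ ({B.vel 2, B.vel d} : Set G) := Or.inl rfl
    have md : B.vel d ∈ ({B.vel 2, B.vel d} : Set G) := Or.inr rfl
    rcases hmeet with rfl | rfl | rfl | rfl
    · exact ⟨_, main _ _ _ hpq hpq' (fun e => hne (by rw [e])) (e2.symm ▸ m2) (ed.symm ▸ md)⟩
    · exact ⟨_, main _ _ _ hpq.symm hpq' (fun e => hne (by rw [hcomm, e])) (by rw [hcomm, e2]; exact m2) (ed.symm ▸ md)⟩
    · exact ⟨_, main _ _ _ hpq hpq'.symm (fun e => hne (by rw [e, hcomm])) (e2.symm ▸ m2) (by rw [hcomm, ed]; exact md)⟩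
    · exact ⟨_, main _ _ _ hpq.symm hpq'.symm (fun e => hne (by rw [hcomm, e, hcomm])) (by rw [hcomm, e2]; exact m2)
        (by rw [hcomm, ed]; exact md)⟩
  have hweak : ∀ g ∈ M, ∀ y, B.IsY y → g * y * g⁻¹ ∈ B.NV → g * y * g⁻¹ ∈ B.V := by
    intro g hg y hy hN
    by_contra hV
    obtain ⟨σ, -, hσ⟩ := B.exists_moves24 hG hJ hN
    obtain ⟨m, hm, hx⟩ := (B.invol_types hG hJ hN hV
      (by rw [conj_mul, show y * y = 1 by rw [← pow_two]; exact B.V_elementary.2 _ hy.1, mul_one, mul_inv_cancel]) hσ).1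
      ⟨c, hc _ (mul_mem (mul_mem hg (hVM hy.1)) (inv_mem hg)) hN σ hσ⟩
    have h1 := B.fixed_large_cent hm hx
    have h2 := B.weak_bound hG hJ hVM hY hJbad (r := 16) (fun E hE h2 hfix => card_point_le hE h2 (p := c)
      fun σ hσ => by obtain ⟨x, hx, hxN, hm'⟩ := hfix σ hσ; exact hc x hx hxN σ hm') hg hy hN hV
    have h4 : J.card ≤ 4 := Finset.card_le_four
    have := Nat.mul_le_mul_right 16 h4
    omega
  have hw := forallLt_elim near_witness hd
  simp only [hdD, hd2, Bool.not_true, Bool.false_or] at hw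
  obtain ⟨a, ha, hb⟩ := exists_of_count hw
  simp only [Bool.and_eq_true] at hb
  obtain ⟨⟨⟨haz, ha2⟩, had⟩, had2⟩ := hb
  obtain ⟨-, -, hbz, hb2⟩ := pair_witness
  refine B.closer hJ hVM hY hweak ((B.zCentBit_iff hG hJ ha).2 haz) ((B.zCentBit_iff hG hJ (n := 12) (by norm_num)).2 hbz)
    (fun n hn hnN e => ?_) fun x hx hxa h hh hc' => ?_
  · -- the sum with `2` tells the two apart
    have h2' : n * B.vel (Nat.xor a 2) * n⁻¹ = B.vel (Nat.xor 12 2) := by
      rw [← B.vel_xor, ← B.vel_xor, ← conj_mul, e, (hM2 hn).eq, mul_inv_cancel_right]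
    have halt : Nat.xor a 2 < 2048 := Nat.xor_lt_two_pow (n := 11) ha (by norm_num)
    refine ((hD _ halt).1 ha2).2 ?_
    have hz := (B.zCentBit_iff hG hJ (n := Nat.xor 12 2) (Nat.xor_lt_two_pow (n := 11) (by norm_num) (by norm_num))).2 hb2
    exact hz.2.trans (isConj_iff.2 ⟨n, h2'⟩).symm
  · have haxV : B.vel a * x ∈ B.V := mul_mem (B.vel_mem ha) hx.1
    refine hJbad _ haxV (fun hmem => ?_) h hh hc'
    simp only [J, Finset.mem_insert, Finset.mem_singleton] at hmem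
    have hxx : ∀ {w}, B.vel a * x = w → x = B.vel a * w := fun {w} e => by
      rw [← e, ← mul_assoc, B.vel_sq, one_mul]
    have bad : ∀ j < 2048, dMask.testBit (Nat.xor a j) = true → B.vel a * x ≠ B.vel j := fun j hj hDj e => by
      have hxe := hxx e
      rw [B.vel_xor] at hxe
      exact ((hD _ (Nat.xor_lt_two_pow (n := 11) ha hj)).1 hDj).2 (show IsConj S.z (B.vel (Nat.xor a j)) from hxe ▸ hx.2)
    rcases hmem with e | e | e | e
    · exact hxa (by rw [hxx e, mul_one])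
    · exact bad 2 (by norm_num) ha2 e
    · exact bad d hd had e
    · exact bad _ hd2lt had2 e

/-- The centralizer of an element not conjugate to `z` normalizes `V`. -/
theorem cent_duad [IsSimpleGroup G] (hG : ¬ IsMulCommutative G) (hJ : IsOfJankoFourType G) :
    Subgroup.centralizer ({B.vel 2} : Set G) ≤ B.NV := by
  classical
  obtain ⟨-, hD, -⟩ := B.duads_spec hG hJ
  set M := Subgroup.centralizer ({B.vel 2} : Set G) with hM
  have h2D : dMask.testBit 2 = true := fixed_free.2.2.2.2.2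
  have hVM : B.V ≤ M := fun v hv => mem_centralizer_singleton_iff'.2 (B.commute_V hv (B.vel_mem (by norm_num))).eq
  have hM2 : ∀ {h}, h ∈ M → Commute h (B.vel 2) := fun hh => mem_centralizer_singleton_iff'.1 hh
  have hY : ∀ y, B.IsY y → ∀ h ∈ M, Commute h y → h ∈ B.NV := fun y hy h hh hc =>
    B.cent_Y_duad hG hJ hy (by norm_num) h2D hc (hM2 hh)
  let J : Finset G := {1, B.vel 2}
  have hJbad : ∀ u ∈ B.V, u ∉ J → ∀ h ∈ M, Commute h u → h ∈ B.NV := by
    rintro _ ⟨n, hn, rfl⟩ hnJ h hh hc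
    simp only [J, Finset.mem_insert, Finset.mem_singleton, not_or] at hnJ
    have h0 : n ≠ 0 := fun e => hnJ.1 (by rw [e, vel_zero])
    have hn2 : Nat.xor n 2 < 2048 := Nat.xor_lt_two_pow (n := 11) hn (by norm_num)
    have h20 : Nat.xor n 2 ≠ 0 := fun e => hnJ.2 (by rw [Nat.xor_eq_zero_iff.1 e])
    by_cases hz : B.IsZc n
    · exact hY _ ⟨B.vel_mem hn, hz⟩ h hh hc
    by_cases hz2 : B.IsZc (Nat.xor n 2)
    · exact hY _ ⟨B.vel_mem hn2, hz2⟩ h hh (B.vel_xor n 2 ▸ hc.mul_right (hM2 hh))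
    refine B.cent_triangle hG hJ hn ((hD n hn).2 ⟨h0, hz⟩) ((hD _ hn2).2 ⟨h20, hz2⟩) (Subgroup.mem_centralizer_iff.2 ?_)
    rintro x (rfl | rfl)
    · exact (hM2 hh).eq.symm
    · exact hc.eq.symm
  obtain ⟨p, q, hpq, e2⟩ := exists_pairCode (show (2 : ℕ) < 2048 by norm_num) h2D
  have hswap : ∀ x ∈ M, x ∈ B.NV → ∀ σ, B.Moves24 x σ → (σ p = p ∧ σ q = q) ∨ (σ p = q ∧ σ q = p) :=
    fun x hx hxN σ hσ => B.pair_fix hσ hpq (B.cent_codes hx (pairCode_lt _ _) (by rw [e2]; exact Set.mem_singleton _) hxN)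
  have hbound := fun {g : G} (hg : g ∈ M) {y : G} (hy : B.IsY y) (hN : g * y * g⁻¹ ∈ B.NV) (hV : g * y * g⁻¹ ∉ B.V) =>
    B.weak_bound hG hJ hVM hY hJbad (r := 32) (fun E hE h2 hfix => card_pair_le hE h2 (p := p) (q := q)
      fun σ hσ => by
        obtain ⟨x, hx, hxN, hm'⟩ := hfix σ hσ
        exact (hswap x hx hxN σ hm').imp And.left And.left) hg hy hN hV
  have hfree : ∀ {g : G}, g ∈ M → ∀ {y : G}, B.IsY y → g * y * g⁻¹ ∈ B.NV → g * y * g⁻¹ ∉ B.V →
      ∀ σ, B.Moves24 (g * y * g⁻¹) σ → ∀ c, σ c ≠ c := by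
    intro g hg y hy hN hV σ hσ c hc
    obtain ⟨m, hm, hx⟩ := (B.invol_types hG hJ hN hV
      (by rw [conj_mul, show y * y = 1 by rw [← pow_two]; exact B.V_elementary.2 _ hy.1, mul_one, mul_inv_cancel]) hσ).1
      ⟨c, hc⟩
    have h1 := B.fixed_large_cent hm hx
    have h2 := hbound hg hy hN hV
    have h3 : J.card ≤ 2 := Finset.card_le_two
    have := Nat.mul_le_mul_right 32 h3
    omega
  have hweak : ∀ g ∈ M, ∀ y, B.IsY y → g * y * g⁻¹ ∈ B.NV → g * y * g⁻¹ ∈ B.V := by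
    intro g hg y hy hN
    by_contra hV
    obtain ⟨σ, -, hσ⟩ := B.exists_moves24 hG hJ hN
    have hgN : g ∉ B.NV := fun h => hV (B.conj_mem h hy.1)
    obtain ⟨m, hm, hx⟩ := (B.invol_types hG hJ hN hV
      (by rw [conj_mul, show y * y = 1 by rw [← pow_two]; exact B.V_elementary.2 _ hy.1, mul_one, mul_inv_cancel]) hσ).2
      (hfree hg hy hN hV σ hσ)
    obtain ⟨u, w, hu, hw, huw, hcu, hcw⟩ := B.free_witness hG hJ hm hx
    have himg : ∀ {v : G}, B.IsY v → Commute v (g * y * g⁻¹) →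
        g⁻¹ * v * g⁻¹⁻¹ ∈ B.NV ∧ g⁻¹ * v * g⁻¹⁻¹ ∉ B.V ∧ g⁻¹ * v * g⁻¹⁻¹ ∈ M := by
      intro v hv hcv
      have hM' : g⁻¹ * v * g⁻¹⁻¹ ∈ M := mul_mem (mul_mem (inv_mem hg) (hVM hv.1)) (inv_mem (inv_mem hg))
      refine ⟨hY y hy _ hM' ?_, fun hV' => ?_, hM'⟩
      · have := (LargeData.commute_conj_iff' (g := g⁻¹)).2 hcv
        rwa [show g⁻¹ * (g * y * g⁻¹) * g⁻¹⁻¹ = y by group] at this
      · rw [inv_inv] at hV'
        exact B.meet_bad hJ hVM hg hgN hv.1 hV' (hY v hv)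
    have hmove : ∀ {v : G}, B.IsY v → Commute v (g * y * g⁻¹) →
        ∀ σ', B.Moves24 (g⁻¹ * v * g⁻¹⁻¹) σ' → σ' p = q ∧ σ' q = p := fun {v} hv hcv σ' hσ' => by
      obtain ⟨h1, h2, h3⟩ := himg hv hcv
      rcases hswap _ h3 h1 σ' hσ' with ⟨e, -⟩ | h
      · exact absurd e (hfree (inv_mem hg) hv h1 h2 σ' hσ' p)
      · exact h
    obtain ⟨σu, -, hσu⟩ := B.exists_moves24 hG hJ (himg hu hcu).1
    obtain ⟨σw, -, hσw⟩ := B.exists_moves24 hG hJ (himg hw hcw).1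
    have hprod : B.Moves24 (g⁻¹ * (u * w) * g⁻¹⁻¹) (σu * σw) := by
      rw [show g⁻¹ * (u * w) * g⁻¹⁻¹ = (g⁻¹ * u * g⁻¹⁻¹) * (g⁻¹ * w * g⁻¹⁻¹) by group]
      exact B.moves24_mul (himg hu hcu).1 (himg hw hcw).1 hσu hσw
    have h := hmove huw (hcu.mul_left hcw) _ hprod
    rw [Equiv.Perm.mul_apply, (hmove hw hcw σw hσw).1, (hmove hu hcu σu hσu).2] at h
    exact hpq h.1
  obtain ⟨haz, ha2, hbz, hb2⟩ := pair_witness
  have ha : B.IsY (B.vel 1) := (B.zCentBit_iff hG hJ (by norm_num)).2 haz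
  have hb : B.IsY (B.vel 12) := (B.zCentBit_iff hG hJ (by norm_num)).2 hbz
  refine B.closer hJ hVM hY hweak ha hb (fun n hn hnN e => ?_) fun x hx hxa h hh hc' => ?_
  · have h2' : n * B.vel (Nat.xor 1 2) * n⁻¹ = B.vel (Nat.xor 12 2) := by
      rw [← B.vel_xor, ← B.vel_xor, ← conj_mul, e, (hM2 hn).eq, mul_inv_cancel_right]
    have h12 : Nat.xor 1 2 < 2048 := Nat.xor_lt_two_pow (n := 11) (by norm_num) (by norm_num)
    refine ((hD _ h12).1 ha2).2 ?_
    have hz := (B.zCentBit_iff hG hJ (n := Nat.xor 12 2) (Nat.xor_lt_two_pow (n := 11) (by norm_num) (by norm_num))).2 hb2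
    exact hz.2.trans (isConj_iff.2 ⟨n, h2'⟩).symm
  · refine hJbad _ (mul_mem ha.1 hx.1) (fun hmem => ?_) h hh hc'
    simp only [J, Finset.mem_insert, Finset.mem_singleton] at hmem
    have hxx : ∀ {w}, B.vel 1 * x = w → x = B.vel 1 * w := fun {w} e => by
      rw [← e, ← mul_assoc, B.vel_sq, one_mul]
    rcases hmem with e | e
    · exact hxa (by rw [hxx e, mul_one])
    · have hxe := hxx e
      rw [B.vel_xor] at hxe
      exact ((hD _ (Nat.xor_lt_two_pow (n := 11) (by norm_num) (by norm_num))).1 ha2).2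
        (show IsConj S.z (B.vel (Nat.xor 1 2)) from hxe ▸ hx.2)

end HexBase

end CfsgLib.JankoFour
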