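import Cfsg.Agent.Lib.JankoFourHexad.Split

/-!
# Transport to an arbitrary elementary abelian subgroup of order `2 ^ 11` (owner: helper28)
-/

set_option autoImplicit false
set_option linter.unusedSectionVars false

namespace CfsgLib.JankoFour

open Cfsg CfsgLib.ThreeTrans

variable {G : Type*} [Group G] [Finite G]

/-- Any two such subgroups are conjugate; a frame exists. -/
theorem exists_frame_conj {z : G} (hJ : IsOfJankoFourTypeAt z) {V : Subgroup G} (hV : IsElementaryAbelian 2 V)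
    (hcard : Nat.card V = 2 ^ 11) : ∃ S : Setting G, S.z = z ∧ ∃ B : HexBase S, ∃ g : G,
      B.V.map (MulAut.conj g).toMonoidHom = V := by
  obtain ⟨P, hP⟩ := hJ
  obtain ⟨S, hz, -⟩ := exists_setting hP
  obtain ⟨B⟩ := S.exists_hexBase
  obtain ⟨g, -, e⟩ := conj_in ⟨z, P, hP⟩ B.V_elementary B.card_V hV hcard (K := ⊤) le_top le_top
  exact ⟨S, hz, B, g, e⟩

theorem mem_map_conj_iff' {H : Subgroup G} {g x : G} :
    x ∈ H.map (MulAut.conj g).toMonoidHom ↔ g⁻¹ * x * g ∈ H := by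
  constructor
  · rintro ⟨y, hy, rfl⟩
    show g⁻¹ * (g * y * g⁻¹) * g ∈ H
    rwa [show g⁻¹ * (g * y * g⁻¹) * g = y by group]
  · exact fun h => ⟨_, h, show g * (g⁻¹ * x * g) * g⁻¹ = x by group⟩

theorem mem_norm_conj {H : Subgroup G} {g x : G} :
    x ∈ Subgroup.normalizer ((H.map (MulAut.conj g).toMonoidHom : Subgroup G) : Set G) ↔
      g⁻¹ * x * g ∈ Subgroup.normalizer (H : Set G) := by
  simp only [Subgroup.mem_normalizer_iff, SetLike.mem_coe, mem_map_conj_iff']
  constructor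
  · intro h y
    have := h (g * y * g⁻¹)
    rwa [show g⁻¹ * (g * y * g⁻¹) * g = y by group,
      show g⁻¹ * (x * (g * y * g⁻¹) * x⁻¹) * g = g⁻¹ * x * g * y * (g⁻¹ * x * g)⁻¹ by group] at this
  · intro h y
    have := h (g⁻¹ * y * g)
    rwa [show g⁻¹ * x * g * (g⁻¹ * y * g) * (g⁻¹ * x * g)⁻¹ = g⁻¹ * (x * y * x⁻¹) * g by group] at this

theorem norm_map_conj (H : Subgroup G) (g : G) :
    Subgroup.normalizer ((H.map (MulAut.conj g).toMonoidHom : Subgroup G) : Set G) =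
      (Subgroup.normalizer (H : Set G)).map (MulAut.conj g).toMonoidHom := by
  ext x
  rw [mem_norm_conj, mem_map_conj_iff']

/-- Centralizer and split normalizer of any elementary abelian subgroup of order `2 ^ 11`. -/
theorem normalizer_split [IsSimpleGroup G] (hG : ¬ IsMulCommutative G) (hJ : IsOfJankoFourType G) {V : Subgroup G}
    (hV : IsElementaryAbelian 2 V) (hcard : Nat.card V = 2 ^ 11) :
    Subgroup.centralizer (V : Set G) ≤ V ∧ ∃ K : Subgroup G, K ≤ Subgroup.normalizer (V : Set G) ∧ K ⊓ V = ⊥ ∧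
      K ⊔ V = Subgroup.normalizer (V : Set G) ∧ Cfsg.Spor.IsoM24 ↥K := by
  obtain ⟨z, hz⟩ := hJ
  obtain ⟨S, -, B, g, rfl⟩ := exists_frame_conj hz hV hcard
  obtain ⟨K, hKN, hKV, hKV', ⟨e⟩⟩ := B.exists_complement hG ⟨z, hz⟩
  have hinj : Function.Injective (MulAut.conj g).toMonoidHom := (MulAut.conj g).injective
  refine ⟨fun x hx => mem_map_conj_iff'.2 (B.centralizer_V (Subgroup.mem_centralizer_iff.2 fun v hv => ?_)),
    K.map (MulAut.conj g).toMonoidHom, ?_, ?_, ?_, ⟨(K.equivMapOfInjective _ hinj).symm.trans e⟩⟩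
  · have h := Subgroup.mem_centralizer_iff.1 hx (g * v * g⁻¹) ⟨v, hv, rfl⟩
    calc v * (g⁻¹ * x * g) = g⁻¹ * ((g * v * g⁻¹) * x) * g := by group
      _ = g⁻¹ * (x * (g * v * g⁻¹)) * g := by rw [h]
      _ = _ := by group
  · rw [norm_map_conj]; exact Subgroup.map_mono hKN
  · rw [← Subgroup.map_inf _ _ _ hinj, hKV, Subgroup.map_bot]
  · rw [norm_map_conj, ← Subgroup.map_sup, hKV']

end CfsgLib.JankoFour
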