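import Mathlib

/-!
# Packed elements of the Mathieu group on 22 points for the two hexads (owner: helper28)

`pn1`, `pn2` permute the four subgroups of order three of the Sylow 3-subgroup, `pc` is an involution
normalizing both four-dimensional 2-subgroups.
-/

set_option autoImplicit false

namespace CfsgLib.JankoFourHexad

def pn1 : ℕ := 976280372515949150171239634345173024
def pn2 : ℕ := 972515619904835386187749575489826848
def pc : ℕ := 984814124769027251138997644368843264

/-- Images of the four basis elements of the first group under `r`. -/
def tabR (i : ℕ) : ℕ := [1, 2, 12, 4].getD i 0
/-- Images of the four basis elements of the first group under `s`. -/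
def tabS (i : ℕ) : ℕ := [2, 3, 4, 8].getD i 0
/-- Images of the four basis elements of the first group under `c`. -/
def tabC (i : ℕ) : ℕ := [9, 2, 14, 8].getD i 0
/-- Images of the four basis elements of the first group under `n1`. -/
def tabN1 (i : ℕ) : ℕ := [4, 8, 1, 3].getD i 0
/-- Images of the four basis elements of the first group under the square of `n2`. -/
def tabN2 (i : ℕ) : ℕ := [2, 1, 4, 12].getD i 0
/-- Images of the four basis elements of the second group under `r`. -/
def tabR' (i : ℕ) : ℕ := [3, 1, 8, 12].getD i 0
/-- Images of the four basis elements of the second group under `s`. -/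
def tabS' (i : ℕ) : ℕ := [2, 3, 8, 12].getD i 0
/-- Images of the four basis elements of the second group under `c`. -/
def tabC' (i : ℕ) : ℕ := [7, 15, 9, 3].getD i 0
/-- Images of the four basis elements of the second group under `n1`. -/
def tabN1' (i : ℕ) : ℕ := [8, 4, 3, 1].getD i 0

end CfsgLib.JankoFourHexad
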