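import Cfsg.Agent.Lib.JankoFour.M22Facts
import Cfsg.Agent.Lib.JankoFourHexad.MathieuData

/-!
# Two hexads of the Mathieu group on 22 points through a Sylow 3-subgroup (owner: helper28)
-/

set_option autoImplicit false
set_option maxRecDepth 100000

namespace CfsgLib.JankoFourHexad

open Cfsg CfsgLib.Sporadic
open CfsgLib.JankoFour.M22

local notation "M" => CfsgLib.JankoFour.M22.Grp

/-- The product of some of four elements. -/
def prod4 {A : Type*} [Monoid A] (k : ℕ → A) (n : ℕ) : A :=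
  (if n.testBit 0 then k 0 else 1) * (if n.testBit 1 then k 1 else 1) *
    (if n.testBit 2 then k 2 else 1) * (if n.testBit 3 then k 3 else 1)

/-- Elements of the Mathieu group for two hexads. -/
structure Hex (r s v w n1 n2 c : M) : Prop where
  cfg : Config r s v w
  n1r : n1 * r * n1⁻¹ = s
  n1s : n1 * s * n1⁻¹ = r * r
  n2r : n2 * r * n2⁻¹ = r * s
  n2s : n2 * s * n2⁻¹ = r * (s * s)
  hc2 : c * c = 1
  comm : ∀ a ∈ [v, w, n1 * v * n1⁻¹, n1 * w * n1⁻¹], ∀ b ∈ [v, w, n1 * v * n1⁻¹, n1 * w * n1⁻¹], Commute a b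
  indep : ∀ n < 16, prod4 (fun i => [v, w, n1 * v * n1⁻¹, n1 * w * n1⁻¹].getD i 1) n = 1 → n = 0
  other : ¬ Commute v (n2 * (n1 * v * n1⁻¹) * n2⁻¹)

/-- The four elements. -/
def kEl (v w n1 : M) (i : ℕ) : M := [v, w, n1 * v * n1⁻¹, n1 * w * n1⁻¹].getD i 1

/-- The tables of the action on the first group. -/
structure HexTables (r s v w n1 n2 c : M) : Prop where
  hR : ∀ i < 4, r * kEl v w n1 i * r⁻¹ = prod4 (kEl v w n1) (tabR i)
  hS : ∀ i < 4, s * kEl v w n1 i * s⁻¹ = prod4 (kEl v w n1) (tabS i)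
  hC : ∀ i < 4, c * kEl v w n1 i * c⁻¹ = prod4 (kEl v w n1) (tabC i)
  hN1 : ∀ i < 4, n1 * kEl v w n1 i * n1⁻¹ = prod4 (kEl v w n1) (tabN1 i)
  hN2 : ∀ i < 4, n2 * (n2 * kEl v w n1 i * n2⁻¹) * n2⁻¹ = prod4 (kEl v w n1) (tabN2 i)
  hR' : ∀ i < 4, r * (n2 * kEl v w n1 i * n2⁻¹) * r⁻¹ = n2 * prod4 (kEl v w n1) (tabR' i) * n2⁻¹
  hS' : ∀ i < 4, s * (n2 * kEl v w n1 i * n2⁻¹) * s⁻¹ = n2 * prod4 (kEl v w n1) (tabS' i) * n2⁻¹
  hC' : ∀ i < 4, c * (n2 * kEl v w n1 i * n2⁻¹) * c⁻¹ = n2 * prod4 (kEl v w n1) (tabC' i) * n2⁻¹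
  hN1' : ∀ i < 4, n1 * (n2 * kEl v w n1 i * n2⁻¹) * n1⁻¹ = n2 * prod4 (kEl v w n1) (tabN1' i) * n2⁻¹

/-- The packed conjugate, given a packed inverse. -/
noncomputable def pconj (g gi x : ℕ) : ℕ := pmul g (pmul x gi)

/-- The packed inverse of an element of order four. -/
noncomputable def pinv4 (g : ℕ) : ℕ := pmul g (pmul g g)

/-- The packed four elements. -/
noncomputable def pk4 (i : ℕ) : ℕ :=
  [pv, pw, pconj pn1 (pinv4 pn1) pv, pconj pn1 (pinv4 pn1) pw].getD i pone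

/-- The packed products of the four elements. -/
noncomputable def pprod (n : ℕ) : ℕ :=
  pmul (pmul (pmul (if n.testBit 0 then pk4 0 else pone) (if n.testBit 1 then pk4 1 else pone))
    (if n.testBit 2 then pk4 2 else pone)) (if n.testBit 3 then pk4 3 else pone)

/-- The thirty six products centralizing `r`. -/
noncomputable def pcent : List ℕ :=
  (List.range 2).flatMap fun i => (List.range 2).flatMap fun j => (List.range 3).flatMap fun k =>
    (List.range 3).map fun l =>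
      pmul (pmul (pmul (if i = 1 then pv else pone) (if j = 1 then pw else pone))
        (if k = 1 then ps else if k = 2 then pmul ps ps else pone))
        (if l = 1 then pr else if l = 2 then pmul pr pr else pone)

theorem hex_gens_ok : [pr, ps, pv, pw, pn1, pn2, pc].all Fusion.in22 = true ∧
    Nat.beq (pmul pn1 (pinv4 pn1)) pone = true ∧ Nat.beq (pmul pn2 (pinv4 pn2)) pone = true := by
  decide +kernel

theorem hex_rel_ok :
    Nat.beq (pconj pn1 (pinv4 pn1) pr) ps = true ∧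
    Nat.beq (pconj pn1 (pinv4 pn1) ps) (pmul pr pr) = true ∧
    Nat.beq (pconj pn2 (pinv4 pn2) pr) (pmul pr ps) = true ∧
    Nat.beq (pconj pn2 (pinv4 pn2) ps) (pmul pr (pmul ps ps)) = true ∧
    Nat.beq (pmul pc pc) pone = true ∧
    (∀ i : Fin 4, ∀ j : Fin 4, Nat.beq (pmul (pk4 i.1) (pk4 j.1)) (pmul (pk4 j.1) (pk4 i.1)) = true) ∧
    (∀ n : Fin 16, Nat.beq (pmul (pprod n.1) pone) pone = true → n.1 = 0) ∧
    Nat.beq (pmul pv (pconj pn2 (pinv4 pn2) (pk4 2))) (pmul (pconj pn2 (pinv4 pn2) (pk4 2)) pv) = false := by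
  decide +kernel

theorem hex_tab_ok : ∀ i : Fin 4,
    Nat.beq (pconj pr (pmul pr pr) (pk4 i.1)) (pprod (tabR i.1)) = true ∧
    Nat.beq (pconj ps (pmul ps ps) (pk4 i.1)) (pprod (tabS i.1)) = true ∧
    Nat.beq (pconj pc pc (pk4 i.1)) (pprod (tabC i.1)) = true ∧
    Nat.beq (pconj pn1 (pinv4 pn1) (pk4 i.1)) (pprod (tabN1 i.1)) = true ∧
    Nat.beq (pconj pn2 (pinv4 pn2) (pconj pn2 (pinv4 pn2) (pk4 i.1))) (pprod (tabN2 i.1)) = true ∧
    Nat.beq (pconj pr (pmul pr pr) (pconj pn2 (pinv4 pn2) (pk4 i.1)))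
      (pconj pn2 (pinv4 pn2) (pprod (tabR' i.1))) = true ∧
    Nat.beq (pconj ps (pmul ps ps) (pconj pn2 (pinv4 pn2) (pk4 i.1)))
      (pconj pn2 (pinv4 pn2) (pprod (tabS' i.1))) = true ∧
    Nat.beq (pconj pc pc (pconj pn2 (pinv4 pn2) (pk4 i.1)))
      (pconj pn2 (pinv4 pn2) (pprod (tabC' i.1))) = true ∧
    Nat.beq (pconj pn1 (pinv4 pn1) (pconj pn2 (pinv4 pn2) (pk4 i.1)))
      (pconj pn2 (pinv4 pn2) (pprod (tabN1' i.1))) = true := by
  decide +kernel

theorem hex_cent_ok : (pcent.map fun p => pmul p pone).Nodup := by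
  decide +kernel

theorem rep_eq {g h : M} {p q : ℕ} (a : RepM g p) (b : RepM h q) (e : Nat.beq p q = true) : g = h := by
  rw [Nat.eq_of_beq_eq_true e] at a
  exact Subtype.ext (Sporadic.Rep.unique a b)

theorem repM_one : RepM 1 pone := Rep.one

theorem exists_hex : ∃ r s v w n1 n2 c : M, Hex r s v w n1 n2 c ∧ HexTables r s v w n1 n2 c := by
  classical
  haveI : Fact (Nat.Prime 3) := ⟨Nat.prime_three⟩
  obtain ⟨hin, i1, i2⟩ := hex_gens_ok
  rw [List.all_eq_true] at hin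
  obtain ⟨r, hr⟩ := exists_repM (hin pr (by simp))
  obtain ⟨s, hs⟩ := exists_repM (hin ps (by simp))
  obtain ⟨v, hv⟩ := exists_repM (hin pv (by simp))
  obtain ⟨w, hw⟩ := exists_repM (hin pw (by simp))
  obtain ⟨n1, hn1⟩ := exists_repM (hin pn1 (by simp))
  obtain ⟨n2, hn2⟩ := exists_repM (hin pn2 (by simp))
  obtain ⟨c, hc⟩ := exists_repM (hin pc (by simp))
  obtain ⟨-, er, er1, es, ers, erv, erw, evw, ev, ew, esv, esw, ev1, ew1, evne, -⟩ := three_gens_ok
  obtain ⟨g1r, g1s, g2r, g2s, ec, ecomm, eind, eoth⟩ := hex_rel_ok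
  have inv_of : ∀ {g : M} {p q : ℕ}, RepM g p → (hq : ∃ h : M, RepM h q) →
      Nat.beq (pmul p q) pone = true → RepM g⁻¹ q := by
    rintro g p q hp ⟨h, hh⟩ e
    have h1 : g * h = 1 := rep_eq (repM_mul hp hh) repM_one e
    rwa [inv_eq_of_mul_eq_one_right h1]
  have hn1i : RepM n1⁻¹ (pinv4 pn1) := inv_of hn1 ⟨_, repM_mul hn1 (repM_mul hn1 hn1)⟩ i1
  have hn2i : RepM n2⁻¹ (pinv4 pn2) := inv_of hn2 ⟨_, repM_mul hn2 (repM_mul hn2 hn2)⟩ i2
  have hr3 : r ^ 3 = 1 := by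
    rw [pow_succ', pow_two]; exact rep_eq (repM_mul hr (repM_mul hr hr)) repM_one er
  have hs3 : s ^ 3 = 1 := by
    rw [pow_succ', pow_two]; exact rep_eq (repM_mul hs (repM_mul hs hs)) repM_one es
  have hri : RepM r⁻¹ (pmul pr pr) := by
    rw [inv_eq_of_mul_eq_one_right (show r * (r * r) = 1 by rw [← hr3, pow_succ', pow_two])]
    exact repM_mul hr hr
  have hsi : RepM s⁻¹ (pmul ps ps) := by
    rw [inv_eq_of_mul_eq_one_right (show s * (s * s) = 1 by rw [← hs3, pow_succ', pow_two])]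
    exact repM_mul hs hs
  have hcc : c * c = 1 := rep_eq (repM_mul hc hc) repM_one ec
  have hci : RepM c⁻¹ pc := by rw [inv_eq_of_mul_eq_one_right hcc]; exact hc
  have cj : ∀ {g x : M} {p q t : ℕ}, RepM g p → RepM g⁻¹ q → RepM x t →
      RepM (g * x * g⁻¹) (pconj p q t) := fun a b d => by
    rw [mul_assoc]; exact repM_mul a (repM_mul d b)
  have hk : ∀ i, RepM (kEl v w n1 i) (pk4 i) := by
    intro i
    rcases i with _ | _ | _ | _ | i
    · exact hv
    · exact hw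
    · exact cj hn1 hn1i hv
    · exact cj hn1 hn1i hw
    · simpa [kEl, pk4] using repM_one
  have hp : ∀ n, RepM (prod4 (kEl v w n1) n) (pprod n) := by
    intro n
    have hif : ∀ i j, RepM (if n.testBit j then kEl v w n1 i else 1) (if n.testBit j then pk4 i else pone) :=
      fun i j => by split_ifs; exacts [hk i, repM_one]
    exact repM_mul (repM_mul (repM_mul (hif 0 0) (hif 1 1)) (hif 2 2)) (hif 3 3)
  have eq1 : ∀ {g : M} {p : ℕ}, RepM g p → Nat.beq p pone = false → Nat.beq (pmul p pone) p = true → g ≠ 1 := by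
    intro g p hg e hc' h1
    rw [Bool.eq_false_iff] at e
    refine e ?_
    rw [Fusion.Cert.eq_of_rep (h1 ▸ hg : RepM 1 p) Rep.one (Nat.eq_of_beq_eq_true hc') Fusion.Cert.canon_pone]
    simp
  have crs : Commute r s := rep_eq (repM_mul hr hs) (repM_mul hs hr) ers
  have crv : Commute r v := rep_eq (repM_mul hr hv) (repM_mul hv hr) erv
  have crw : Commute r w := rep_eq (repM_mul hr hw) (repM_mul hw hr) erw
  have cvw : Commute v w := rep_eq (repM_mul hv hw) (repM_mul hw hv) evw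
  have hvv : v * v = 1 := rep_eq (repM_mul hv hv) repM_one ev
  have hww : w * w = 1 := rep_eq (repM_mul hw hw) repM_one ew
  have hsv : s * v * s⁻¹ = w := mul_inv_eq_iff_eq_mul.2 (rep_eq (repM_mul hs hv) (repM_mul hw hs) esv)
  have hsw : s * w * s⁻¹ = v * w :=
    mul_inv_eq_iff_eq_mul.2 (rep_eq (repM_mul hs hw) (repM_mul (repM_mul hv hw) hs) esw)
  have hcanon : Nat.beq (pmul pr pone) pr = true ∧ Nat.beq (pmul pv pone) pv = true ∧
      Nat.beq (pmul pw pone) pw = true := by decide +kernel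
  have hr1 : r ≠ 1 := eq1 hr er1 hcanon.1
  have hv1 : v ≠ 1 := eq1 hv ev1 hcanon.2.1
  have hw1 : w ≠ 1 := eq1 hw ew1 hcanon.2.2
  have hne : v ≠ w := fun e => by
    rw [Fusion.Cert.eq_of_rep (e ▸ hv : RepM w pv) hw (Nat.eq_of_beq_eq_true hcanon.2.1)
      (Nat.eq_of_beq_eq_true hcanon.2.2)] at evne
    simp at evne
  obtain ⟨r0, s0, v0, w0, h0⟩ := exists_config
  have htwo : ∀ t : M, orderOf t = 2 → IsConj t v := fun t ht =>
    (h0.htwo t ht).trans (h0.htwo v (orderOf_eq_prime (by rw [pow_two, hvv]) hv1)).symm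
  have hr30 : IsConj r r0 := h0.hthree r (orderOf_eq_prime hr3 hr1)
  have hthree : ∀ x : M, orderOf x = 3 → IsConj x r := fun x hx => (h0.hthree x hx).trans hr30.symm
  -- the centralizer of `r` has at most thirty six elements
  obtain ⟨g, hg⟩ := isConj_iff.1 hr30
  have hle : Nat.card {u : M // Commute u r} ≤ 36 := by
    let f : {u : M // Commute u r} → {u : M // Commute u r0} := fun u =>
      ⟨g * u.1 * g⁻¹, by
        rw [← hg, Commute.conj_iff]; exact u.2⟩
    have hf : Function.Injective f := fun a b e => Subtype.ext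
      (mul_left_cancel (mul_right_cancel (congrArg Subtype.val e)))
    refine (Nat.card_le_card_of_injective f hf).trans ?_
    let q : Fin 2 × Fin 2 × Fin 3 × Fin 3 → M := fun i =>
      v0 ^ i.1.1 * w0 ^ i.2.1.1 * s0 ^ i.2.2.1.1 * r0 ^ i.2.2.2.1
    have hsur : ∀ u : {u : M // Commute u r0}, ∃ i, q i = u.1 := fun u => by
      obtain ⟨i, j, k, l, e⟩ := h0.hcent u.1 u.2
      refine ⟨(⟨i % 2, Nat.mod_lt _ two_pos⟩, ⟨j % 2, Nat.mod_lt _ two_pos⟩, ⟨k % 3, Nat.mod_lt _ three_pos⟩,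
        ⟨l % 3, Nat.mod_lt _ three_pos⟩), ?_⟩
      show v0 ^ (i % 2) * w0 ^ (j % 2) * s0 ^ (k % 3) * r0 ^ (l % 3) = _
      rw [← pow_eq_pow_mod i (by rw [pow_two, h0.hv]), ← pow_eq_pow_mod j (by rw [pow_two, h0.hw]),
        ← pow_eq_pow_mod k h0.hs, ← pow_eq_pow_mod l h0.hr, e]
    choose idx hidx using hsur
    exact (Nat.card_le_card_of_injective idx (fun a b e => Subtype.ext (by rw [← hidx a, ← hidx b, e]))).trans
      (by simp)
  let el : Fin 2 × Fin 2 × Fin 3 × Fin 3 → {u : M // Commute u r} := fun i =>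
    ⟨v ^ i.1.1 * w ^ i.2.1.1 * s ^ i.2.2.1.1 * r ^ i.2.2.2.1,
      (((crv.symm.pow_left _).mul_left (crw.symm.pow_left _)).mul_left (crs.symm.pow_left _)).mul_left
        ((Commute.refl r).pow_left _)⟩
  have hel : ∀ i, RepM (el i).1 (pmul (pmul (pmul (if i.1.1 = 1 then pv else pone) (if i.2.1.1 = 1 then pw else pone))
        (if i.2.2.1.1 = 1 then ps else if i.2.2.1.1 = 2 then pmul ps ps else pone))
        (if i.2.2.2.1 = 1 then pr else if i.2.2.2.1 = 2 then pmul pr pr else pone)) := by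
    rintro ⟨i, j, k, l⟩
    refine repM_mul (repM_mul (repM_mul ?_ ?_) ?_) ?_
    · fin_cases i
      exacts [by simpa using repM_one, by simpa using hv]
    · fin_cases j
      exacts [by simpa using repM_one, by simpa using hw]
    · fin_cases k
      exacts [by simpa using repM_one, by simpa using hs, by simpa [pow_two] using repM_mul hs hs]
    · fin_cases l
      exacts [by simpa using repM_one, by simpa using hr, by simpa [pow_two] using repM_mul hr hr]
  have helinj : Function.Injective el := by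
    intro a b e
    have hkey : ∀ a b : Fin 2 × Fin 2 × Fin 3 × Fin 3,
        Nat.beq (pmul (pmul (pmul (pmul (if a.1.1 = 1 then pv else pone) (if a.2.1.1 = 1 then pw else pone))
          (if a.2.2.1.1 = 1 then ps else if a.2.2.1.1 = 2 then pmul ps ps else pone))
          (if a.2.2.2.1 = 1 then pr else if a.2.2.2.1 = 2 then pmul pr pr else pone)) pone)
        (pmul (pmul (pmul (pmul (if b.1.1 = 1 then pv else pone) (if b.2.1.1 = 1 then pw else pone))
          (if b.2.2.1.1 = 1 then ps else if b.2.2.1.1 = 2 then pmul ps ps else pone))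
          (if b.2.2.2.1 = 1 then pr else if b.2.2.2.1 = 2 then pmul pr pr else pone)) pone) = true → a = b := by
      decide +kernel
    refine hkey a b ?_
    have h1 := congrArg Subtype.val e
    rw [(Fusion.Cert.beq_pmul_iff (hel a) repM_one (hel b) repM_one)]
    exact congrArg Subtype.val (by rw [h1] : (el a).1 * 1 = (el b).1 * 1)
  have hbij : Function.Bijective el := by
    refine (Nat.bijective_iff_injective_and_card el).2 ⟨helinj, ?_⟩
    exact le_antisymm (Nat.card_le_card_of_injective el helinj) (hle.trans (by simp))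
  have hcent : ∀ u : M, Commute u r → ∃ i j k l : ℕ, u = v ^ i * w ^ j * s ^ k * r ^ l := fun u hu => by
    obtain ⟨i, hi⟩ := hbij.2 ⟨u, hu⟩
    exact ⟨_, _, _, _, (congrArg Subtype.val hi).symm⟩
  refine ⟨r, s, v, w, n1, n2, c,
    ⟨⟨hr3, hr1, hs3, crs, crv, crw, cvw, hvv, hww, hsv, hsw, hv1, hw1, hne, hcent, hthree, htwo⟩,
      rep_eq (cj hn1 hn1i hr) hs g1r, rep_eq (cj hn1 hn1i hs) (repM_mul hr hr) g1s,
      rep_eq (cj hn2 hn2i hr) (repM_mul hr hs) g2r, rep_eq (cj hn2 hn2i hs) (repM_mul hr (repM_mul hs hs)) g2s,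
      hcc, ?_, fun n hn h => ?_, fun h => ?_⟩, ?_⟩
  · intro a ha b hb
    obtain ⟨i, hi, rfl⟩ := List.getElem_of_mem ha
    obtain ⟨j, hj, rfl⟩ := List.getElem_of_mem hb
    have hi' : i < 4 := hi
    have hj' : j < 4 := hj
    have e : ∀ (l : ℕ) (hl : l < [v, w, n1 * v * n1⁻¹, n1 * w * n1⁻¹].length),
        [v, w, n1 * v * n1⁻¹, n1 * w * n1⁻¹][l] = kEl v w n1 l := fun l hl => by
      rw [kEl, List.getD_eq_getElem _ _ hl]
    rw [e, e]
    exact rep_eq (repM_mul (hk i) (hk j)) (repM_mul (hk j) (hk i)) (ecomm ⟨i, hi'⟩ ⟨j, hj'⟩)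
  · refine eind ⟨n, hn⟩ ?_
    rw [← Fusion.Cert.canon_pone]
    refine (Fusion.Cert.beq_pmul_iff (hp n) repM_one repM_one repM_one).2 ?_
    exact congrArg Subtype.val (by rw [show prod4 (kEl v w n1) n = 1 from h] : prod4 (kEl v w n1) n * 1 = (1 : M) * 1)
  · have e := (Fusion.Cert.beq_pmul_iff hv (cj hn2 hn2i (hk 2)) (cj hn2 hn2i (hk 2)) hv).2 (congrArg Subtype.val h.eq)
    rw [show pk4 2 = pk4 2 from rfl, eoth] at e
    simp at e
  · refine ⟨?_, ?_, ?_, ?_, ?_, ?_, ?_, ?_, ?_⟩ <;> intro i hi <;>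
      obtain ⟨t1, t2, t3, t4, t5, t6, t7, t8, t9⟩ := hex_tab_ok ⟨i, hi⟩
    · exact rep_eq (cj hr hri (hk i)) (hp _) t1
    · exact rep_eq (cj hs hsi (hk i)) (hp _) t2
    · exact rep_eq (cj hc hci (hk i)) (hp _) t3
    · exact rep_eq (cj hn1 hn1i (hk i)) (hp _) t4
    · exact rep_eq (cj hn2 hn2i (cj hn2 hn2i (hk i))) (hp _) t5
    · exact rep_eq (cj hr hri (cj hn2 hn2i (hk i))) (cj hn2 hn2i (hp _)) t6
    · exact rep_eq (cj hs hsi (cj hn2 hn2i (hk i))) (cj hn2 hn2i (hp _)) t7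
    · exact rep_eq (cj hc hci (cj hn2 hn2i (hk i))) (cj hn2 hn2i (hp _)) t8
    · exact rep_eq (cj hn1 hn1i (cj hn2 hn2i (hk i))) (cj hn2 hn2i (hp _)) t9

end CfsgLib.JankoFourHexad
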