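import Cfsg.Agent.Lib.JankoFour.Frame
import Cfsg.Agent.Lib.JankoFourHexad.MathieuFacts

/-!
# Involutions in the centralizer of `P` (owner: helper28)

Every involution of the Mathieu group lifts to an involution, and lifts of commuting involutions commute.
-/

set_option autoImplicit false

namespace CfsgLib.JankoFour

open Cfsg CfsgLib.ThreeTrans
open CfsgLib.JankoFour.M22 (Grp)
open CfsgLib.JankoFourHexad

variable {G : Type*} [Group G] [Finite G]

namespace Setting

variable (S : Setting G)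

/-- Two lifts of 2-power order differ by a power of the involution. -/
theorem lift_eq {x y : G} (hx : x ∈ S.C) (hy : y ∈ S.C) (hx4 : x ^ 4 = 1) (hy4 : y ^ 4 = 1)
    (h : S.f x = S.f y) : y = x ∨ y = x * S.z := by
  set k := x⁻¹ * y with hk
  have hkC : k ∈ S.C := mul_mem (inv_mem hx) hy
  have hk1 : S.f k = 1 := by rw [hk, S.f_mul_C (inv_mem hx) hy, S.f_inv_C hx, h, inv_mul_cancel]
  have hc : Commute k x := S.ker_central hkC hk1 hx
  have e : y = x * k := by rw [hk, mul_inv_cancel_left]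
  have h4 : k ^ 2 ^ 2 = 1 := by
    have h' := hy4
    rw [e, hc.symm.mul_pow, hx4, one_mul] at h'
    exact h'
  rcases S.ker_two hkC hk1 h4 with h' | h'
  · exact Or.inl (by rw [e, h', mul_one])
  · exact Or.inr (by rw [e, h'])

theorem sq_eq {x : G} (hx : x ∈ S.C) (hx4 : x ^ 4 = 1) (h : S.f x * S.f x = 1) :
    x * x = 1 ∨ x * x = S.z := by
  refine S.ker_two (mul_mem hx hx) (by rw [S.f_mul_C hx hx, h]) (n := 1) ?_
  rw [pow_one, ← pow_two, ← pow_mul]
  exact hx4

theorem z_sq : S.z * S.z = 1 := S.hE.mul_self_z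

/-- Some lift of a nontrivial involution of the configuration is an involution. -/
theorem exists_one_inv_lift : ∃ x ∈ S.C, x * x = 1 ∧ S.f x ≠ 1 := by
  obtain ⟨r, s, v, w, n1, n2, c, H, -⟩ := exists_hex
  by_contra hno
  simp only [not_exists, not_and, not_not] at hno
  let k := kEl v w n1
  have hkk : ∀ i, i < 4 → k i * k i = 1 := by
    intro i hi
    interval_cases i
    · exact H.cfg.hv
    · exact H.cfg.hw
    · show n1 * v * n1⁻¹ * (n1 * v * n1⁻¹) = 1
      rw [conj_mul, H.cfg.hv, mul_one, mul_inv_cancel]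
    · show n1 * w * n1⁻¹ * (n1 * w * n1⁻¹) = 1
      rw [conj_mul, H.cfg.hw, mul_one, mul_inv_cancel]
  obtain ⟨g, hg, hg4, eg⟩ := S.exists_lift_two (hkk 0 (by norm_num))
  obtain ⟨h, hh, hh4, eh⟩ := S.exists_lift_two (hkk 1 (by norm_num))
  obtain ⟨l, hl, hl4, el⟩ := S.exists_lift_two (hkk 2 (by norm_num))
  have c01 : Commute (k 0) (k 1) := H.cfg.hvw
  have c02 : Commute (k 0) (k 2) := H.comm v (by simp) (n1 * v * n1⁻¹) (by simp)
  have c12 : Commute (k 1) (k 2) := H.comm w (by simp) (n1 * v * n1⁻¹) (by simp)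
  have ne_of : ∀ n, n < 16 → n ≠ 0 → prod4 k n ≠ 1 := fun n hn h0 e => h0 (H.indep n hn e)
  have sq : ∀ {x : G}, x ∈ S.C → x ^ 4 = 1 → S.f x * S.f x = 1 → S.f x ≠ 1 → x * x = S.z := fun hx h4 h2 h1 =>
    (S.sq_eq hx h4 h2).resolve_left fun e => h1 (hno _ hx e)
  have hkne : ∀ {n : ℕ} {m : Grp}, n < 16 → n ≠ 0 → prod4 k n = m → m ≠ 1 := fun hn h0 e => e ▸ ne_of _ hn h0
  have sg := sq hg hg4 (by rw [eg]; exact hkk 0 (by norm_num)) (eg ▸ hkne (n := 1) (by norm_num) (by norm_num)
    (by simp [prod4, Nat.testBit_succ]))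
  have sh := sq hh hh4 (by rw [eh]; exact hkk 1 (by norm_num)) (eh ▸ hkne (n := 2) (by norm_num) (by norm_num)
    (by simp [prod4, Nat.testBit_succ]))
  have sl := sq hl hl4 (by rw [el]; exact hkk 2 (by norm_num)) (el ▸ hkne (n := 4) (by norm_num) (by norm_num)
    (by simp [prod4, Nat.testBit_succ]))
  -- the commutator of two lifts with squares `z` whose product has square `z` is `z`
  have step : ∀ {x y : G}, x ∈ S.C → y ∈ S.C → x * x = S.z → y * y = S.z → Commute (S.f x) (S.f y) →
      S.f x * S.f y ≠ 1 → x * y * x⁻¹ = y * S.z ∧ (x * y) * (x * y) = S.z := by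
    intro x y hx hy hxx hyy hc hne
    have hy4 : y ^ 2 ^ 2 = 1 := by
      rw [show 2 ^ 2 = 2 * 2 from rfl, pow_mul, pow_two y, hyy, pow_two, S.z_sq]
    have hxz : Commute x S.z := (S.mem_C.1 hx).1
    have hyz : Commute y S.z := (S.mem_C.1 hy).1
    have hfx : S.f x * S.f x = 1 := by
      rw [← S.f_mul_C hx hx, hxx]
      exact (S.f_eq_one_iff (S.C_le_H0 S.z_mem_C)).2 (Subgroup.mem_sup_left S.hE.z_mem)
    have hfy : S.f y * S.f y = 1 := by
      rw [← S.f_mul_C hy hy, hyy]
      exact (S.f_eq_one_iff (S.C_le_H0 S.z_mem_C)).2 (Subgroup.mem_sup_left S.hE.z_mem)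
    have hcases := S.two_comm hx hy hy4 hc
    have key : ∀ c : G, c = 1 ∨ c = S.z → x * y * x⁻¹ = y * c → (x * y) * (x * y) = c := by
      intro c hc' e
      have e' : x * y = y * c * x := mul_inv_eq_iff_eq_mul.1 e
      have ecx : Commute c x := by rcases hc' with rfl | rfl <;> [exact Commute.one_left x; exact hxz.symm]
      have ecy : Commute c y := by rcases hc' with rfl | rfl <;> [exact Commute.one_left y; exact hyz.symm]
      calc x * y * (x * y) = y * c * x * (x * y) := by rw [← e']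
        _ = y * c * (x * x) * y := by group
        _ = y * (c * S.z * y) := by rw [hxx]; group
        _ = y * (y * (c * S.z)) := by rw [(ecy.mul_left hyz.symm).eq]
        _ = y * y * (c * S.z) := by group
        _ = c := by
          rw [hyy]
          rcases hc' with rfl | rfl
          · rw [one_mul, S.z_sq]
          · rw [S.z_sq, mul_one]
    rcases hcases with e | e
    · exfalso
      have e2 := key 1 (Or.inl rfl) (by rw [mul_one]; exact e)
      exact hne (by rw [← S.f_mul_C hx hy]; exact hno _ (mul_mem hx hy) e2)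
    · exact ⟨e, key S.z (Or.inr rfl) e⟩
  have s01 := step hg hh sg sh (by rw [eg, eh]; exact c01)
    (by rw [eg, eh]; exact hkne (n := 3) (by norm_num) (by norm_num) (by simp [prod4, Nat.testBit_succ]))
  have s02 := step hg hl sg sl (by rw [eg, el]; exact c02)
    (by rw [eg, el]; exact hkne (n := 5) (by norm_num) (by norm_num) (by simp [prod4, Nat.testBit_succ]))
  have s12 := step hh hl sh sl (by rw [eh, el]; exact c12)
    (by rw [eh, el]; exact hkne (n := 6) (by norm_num) (by norm_num) (by simp [prod4, Nat.testBit_succ]))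
  have s012 := step hg (mul_mem hh hl) sg s12.2 (by rw [S.f_mul_C hh hl, eg, eh, el]; exact c01.mul_right c02)
    (by rw [S.f_mul_C hh hl, eg, eh, el]; exact hkne (n := 7) (by norm_num) (by norm_num) (by simp [prod4, Nat.testBit_succ, mul_assoc]))
  have e := s012.1
  rw [show g * (h * l) * g⁻¹ = (g * h * g⁻¹) * (g * l * g⁻¹) by group, s01.1, s02.1] at e
  have hlz : Commute S.z l := ((S.mem_C.1 hl).1).symm
  rw [show h * S.z * (l * S.z) = h * (S.z * l) * S.z by group, hlz.eq,
    show h * (l * S.z) * S.z = h * l * (S.z * S.z) by group, S.z_sq] at e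
  exact S.hE.z_ne_one (mul_left_cancel e).symm

/-- Every involution lifts to an involution. -/
theorem exists_inv_lift {t : Grp} (ht : t * t = 1) : ∃ x ∈ S.C, x * x = 1 ∧ S.f x = t := by
  by_cases h1 : t = 1
  · exact ⟨1, one_mem _, mul_one 1, by rw [S.f_one, h1]⟩
  haveI : Fact (Nat.Prime 2) := ⟨Nat.prime_two⟩
  obtain ⟨r, s, v, w, hcfg⟩ := M22.exists_config
  obtain ⟨x, hx, hxx, hne⟩ := S.exists_one_inv_lift
  have o1 : orderOf (S.f x) = 2 := orderOf_eq_prime (by rw [pow_two, ← S.f_mul_C hx hx, hxx, S.f_one]) hne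
  have o2 : orderOf t = 2 := orderOf_eq_prime (by rw [pow_two, ht]) h1
  obtain ⟨g, hg⟩ := isConj_iff.1 ((hcfg.htwo _ o1).trans (hcfg.htwo _ o2).symm)
  obtain ⟨c, hc, rfl⟩ := S.exists_C g
  exact ⟨c * x * c⁻¹, mul_mem (mul_mem hc hx) (inv_mem hc), by rw [conj_mul, hxx, mul_one, mul_inv_cancel],
    by rw [S.f_conj_C hc hx, hg]⟩

/-- A 2-element over an involution is an involution. -/
theorem inv_of_four {x : G} (hx : x ∈ S.C) (h4 : x ^ 4 = 1) (h : S.f x * S.f x = 1) : x * x = 1 := by
  obtain ⟨i, hi, hii, e⟩ := S.exists_inv_lift h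
  have hi4 : i ^ 4 = 1 := by rw [show 4 = 2 * 2 from rfl, pow_mul, pow_two i, hii, one_pow]
  rcases S.lift_eq hi hx hi4 h4 e with rfl | rfl
  · exact hii
  · rw [mul_assoc, ← mul_assoc S.z, ← ((S.mem_C.1 hi).1).eq, mul_assoc, S.z_sq, mul_one, hii]

/-- Involutions over commuting involutions commute. -/
theorem inv_commute {x y : G} (hx : x ∈ S.C) (hy : y ∈ S.C) (hxx : x * x = 1) (hyy : y * y = 1)
    (h : Commute (S.f x) (S.f y)) : Commute x y := by
  have hfx : S.f x * S.f x = 1 := by rw [← S.f_mul_C hx hx, hxx, S.f_one]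
  have hfy : S.f y * S.f y = 1 := by rw [← S.f_mul_C hy hy, hyy, S.f_one]
  have hxy := mul_mem hx hy
  have hf : S.f (x * y) * S.f (x * y) = 1 := by
    rw [S.f_mul_C hx hy, mul_assoc, ← mul_assoc (S.f y), ← h.eq, mul_assoc, hfy, mul_one, hfx]
  set k := x * y * (x * y) with hk
  have hk1 : S.f k = 1 := by rw [hk, S.f_mul_C hxy hxy, hf]
  have hkx : Commute k x := S.ker_central (mul_mem hxy hxy) hk1 hx
  have hix : x⁻¹ = x := inv_eq_of_mul_eq_one_left hxx
  have hiy : y⁻¹ = y := inv_eq_of_mul_eq_one_left hyy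
  have hinv : k⁻¹ = k := by
    calc k⁻¹ = y * x * (y * x) := by rw [hk, mul_inv_rev, mul_inv_rev, hix, hiy]
      _ = x * k * x⁻¹ := by
        rw [hk, hix, show x * (x * y * (x * y)) * x = (x * x) * (y * x) * (y * x) by group, hxx, one_mul]
      _ = k := by rw [← hkx.eq, mul_inv_cancel_right]
  have h4 : (x * y) ^ 4 = 1 := by
    rw [show 4 = 2 * 2 from rfl, pow_mul, pow_two (x * y), ← hk, pow_two]
    nth_rewrite 1 [← hinv]
    exact inv_mul_cancel k
  have h2 := S.inv_of_four hxy h4 hf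
  show x * y = y * x
  calc x * y = (x * y)⁻¹ := (inv_eq_of_mul_eq_one_left h2).symm
    _ = y * x := by rw [mul_inv_rev, hix, hiy]

/-- An involution commutes with an element of order three when their images do. -/
theorem inv_commute_three {x y : G} (hx : x ∈ S.C) (hy : y ∈ S.C) (hx3 : x ^ 3 = 1) (hyy : y * y = 1)
    (h : Commute (S.f x) (S.f y)) : Commute x y := by
  have hxz : Commute x S.z := (S.mem_C.1 hx).1
  have hyz : Commute y S.z := (S.mem_C.1 hy).1
  have h1 := S.two_comm hx hy (n := 1) (by rw [pow_one, pow_two, hyy]) h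
  refine (S.z_commute_three hx3 hyz ?_ hxz).symm
  rcases h1 with e | e
  · exact Or.inl (mul_inv_eq_iff_eq_mul.2 (mul_inv_eq_iff_eq_mul.1 e).symm)
  · refine Or.inr ?_
    have e' := mul_inv_eq_iff_eq_mul.1 e
    refine mul_inv_eq_iff_eq_mul.2 ?_
    calc y * x = y * x * (S.z * S.z) := by rw [S.z_sq, mul_one]
      _ = y * (x * S.z) * S.z := by group
      _ = y * (S.z * x) * S.z := by rw [hxz.eq]
      _ = x * y * S.z := by rw [e']; group
      _ = x * S.z * y := by rw [mul_assoc, hyz.eq, ← mul_assoc]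

end Setting

end CfsgLib.JankoFour
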