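import Cfsg.Agent.Lib.JankoFourHexad.ZClass

/-!
# The action of the normalizer of `V` on the codes (owner: helper28)
-/

set_option autoImplicit false
set_option linter.unusedSectionVars false

namespace CfsgLib.JankoFour

open Cfsg CfsgLib.ThreeTrans
open CfsgLib.JankoFourHexad

variable {G : Type*} [Group G] [Finite G]

namespace HexBase

variable {S : Setting G} (B : HexBase S)

/-- The normalizer of `V`. -/
abbrev NV : Subgroup G := Subgroup.normalizer (B.V : Set G)

/-- The code of an element of `V`. -/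
noncomputable def code (x : G) : ℕ := @dite _ (x ∈ B.V) (Classical.dec _) (fun h => h.choose) fun _ => 0

theorem code_spec {x : G} (h : x ∈ B.V) : B.code x < 2048 ∧ B.vel (B.code x) = x := by
  rw [code, dif_pos h]
  exact h.choose_spec

theorem code_lt (x : G) : B.code x < 2048 := by
  by_cases h : x ∈ B.V
  · exact (B.code_spec h).1
  · rw [code, dif_neg h]; norm_num

theorem code_vel {n : ℕ} (hn : n < 2048) : B.code (B.vel n) = n :=
  B.vel_inj (B.code_lt _) hn (B.code_spec (B.vel_mem hn)).2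

/-- The action on codes. -/
noncomputable def act (g : G) (n : ℕ) : ℕ := B.code (g * B.vel (n % 2048) * g⁻¹)

theorem act_lt (g : G) (n : ℕ) : B.act g n < 2048 := B.code_lt _

theorem conj_mem {g : G} (hg : g ∈ B.NV) {x : G} (hx : x ∈ B.V) : g * x * g⁻¹ ∈ B.V :=
  (Subgroup.mem_normalizer_iff.1 hg x).1 hx

theorem vel_act {g : G} (hg : g ∈ B.NV) {n : ℕ} (hn : n < 2048) : B.vel (B.act g n) = g * B.vel n * g⁻¹ := by
  rw [act, Nat.mod_eq_of_lt hn]
  exact (B.code_spec (B.conj_mem hg (B.vel_mem hn))).2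

theorem act_eq {g : G} (hg : g ∈ B.NV) {n m : ℕ} (hn : n < 2048) (hm : m < 2048)
    (h : g * B.vel n * g⁻¹ = B.vel m) : B.act g n = m :=
  B.vel_inj (B.act_lt g n) hm ((B.vel_act hg hn).trans h)

theorem act_xor {g : G} (hg : g ∈ B.NV) (a b : ℕ) : B.act g (a ^^^ b) = B.act g a ^^^ B.act g b := by
  have e : (a ^^^ b) % 2048 = a % 2048 ^^^ b % 2048 := by
    rw [show (2048 : ℕ) = 2 ^ 11 from rfl, Nat.xor_mod_two_pow]
  have hm : ∀ c, B.act g c = B.act g (c % 2048) := fun c => by rw [act, act, Nat.mod_mod]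
  rw [hm (a ^^^ b), e, hm a, hm b]
  have ha : a % 2048 < 2048 := Nat.mod_lt _ (by norm_num)
  have hb : b % 2048 < 2048 := Nat.mod_lt _ (by norm_num)
  refine B.act_eq hg (Nat.xor_lt_two_pow (n := 11) ha hb) (Nat.xor_lt_two_pow (n := 11) (B.act_lt _ _) (B.act_lt _ _)) ?_
  rw [show a % 2048 ^^^ b % 2048 = Nat.xor (a % 2048) (b % 2048) from rfl,
    show B.act g (a % 2048) ^^^ B.act g (b % 2048) = Nat.xor (B.act g (a % 2048)) (B.act g (b % 2048)) from rfl,
    ← B.vel_xor, ← B.vel_xor, B.vel_act hg ha, B.vel_act hg hb]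
  group

theorem act_zero {g : G} (hg : g ∈ B.NV) : B.act g 0 = 0 :=
  B.act_eq hg (by norm_num) (by norm_num) (by rw [vel_zero]; group)

theorem act_inj {g : G} (hg : g ∈ B.NV) {a b : ℕ} (ha : a < 2048) (hb : b < 2048) (h : B.act g a = B.act g b) :
    a = b := by
  refine B.vel_inj ha hb ?_
  have e := congrArg B.vel h
  rw [B.vel_act hg ha, B.vel_act hg hb] at e
  exact mul_left_cancel (mul_right_cancel e)

theorem act_mul {g h : G} (hg : g ∈ B.NV) (hh : h ∈ B.NV) {n : ℕ} (hn : n < 2048) :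
    B.act (g * h) n = B.act g (B.act h n) := by
  refine B.act_eq (mul_mem hg hh) hn (B.act_lt _ _) ?_
  rw [B.vel_act hg (B.act_lt _ _), B.vel_act hh hn]
  group

theorem act_of_actsV {t : G} {f : ℕ → ℕ} (h : B.ActsV t f) {n : ℕ} (hn : n < 2048) : B.act t n = f n :=
  B.act_eq (B.actsV_norm h) hn (h.2 n hn).1 (h.2 n hn).2

theorem isZc_act {g : G} (hg : g ∈ B.NV) {n : ℕ} (hn : n < 2048) : B.IsZc (B.act g n) ↔ B.IsZc n := by
  have hc : IsConj (B.vel n) (B.vel (B.act g n)) := isConj_iff.2 ⟨g, (B.vel_act hg hn).symm⟩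
  exact ⟨fun h => h.trans hc.symm, fun h => h.trans hc⟩

end HexBase

end CfsgLib.JankoFour
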