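import Cfsg.Agent.Lib.JankoFourHexad.CodeChecks

/-!
# Linear maps of the two fixed spaces (owner: helper28)
-/

set_option autoImplicit false
set_option maxRecDepth 100000

namespace CfsgLib.JankoFourHexad

/-- A power of `ω`. -/
def pw (k : ℕ) : ℕ := [1, 2, 3].getD (k % 3) 0

/-- The action of `p`. -/
def mP (u : ℕ) : ℕ := sm 2 u

/-- The action of a power of `p`. -/
def mPow (m u : ℕ) : ℕ := sm (pw m) u

/-- The action of `a`. -/
def mA (u : ℕ) : ℕ := vec (co u 0) (fm 3 (co u 1)) (fm 2 (co u 2))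

/-- The action of `b`. -/
def mB (u : ℕ) : ℕ := vec (co u 2) (co u 0) (co u 1)

/-- The action of `a⁻¹ p ^ m`. -/
def mA' (m u : ℕ) : ℕ := mA (mA (mPow m u))

/-- The action of `a b p ^ m`. -/
def mAB (m u : ℕ) : ℕ := mPow m (mA (mB u))

/-- The action of `a b ^ 2 p ^ m`. -/
def mAB2 (m u : ℕ) : ℕ := mPow m (mA (mB (mB u)))

/-- A linear map from the image of the first basis vector and the map replacing `b`. -/
def mLin (h : ℕ → ℕ) (e u : ℕ) : ℕ :=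
  Nat.xor (sm (co u 0) e) (Nat.xor (sm (co u 1) (h e)) (sm (co u 2) (h (h e))))

/-- The action of `n1`. -/
def mN (x m u : ℕ) : ℕ := mLin (mA' m) (vec x x x) u

/-- The action of `n2` between the two fixed spaces. -/
def mT (e l u : ℕ) : ℕ := mLin (mAB2 l) e u

/-- A code conjugated by `n1`. -/
def nCode (x m n : ℕ) : ℕ :=
  Nat.lor (Nat.land n 1) (Nat.lor (Nat.shiftLeft (mN x m (eU n)) 1) (Nat.shiftLeft (mN x m (eW n)) 7))

/-- A map of 6-bit vectors respects sums of basis vectors. -/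
def linOK (f : ℕ → ℕ) : Prop := ∀ u : Fin 64, xfold (fun j => f (2 ^ j)) u.1 6 = f u.1 ∧ f u.1 < 64

theorem linOK_P : linOK mP := by unfold linOK; decide +kernel
theorem linOK_A : linOK mA := by unfold linOK; decide +kernel
theorem linOK_B : linOK mB := by unfold linOK; decide +kernel
theorem linOK_N : ∀ x : Fin 3, ∀ m : Fin 3, linOK (mN (x.1 + 1) m.1) := by unfold linOK; decide +kernel
theorem linOK_T : ∀ l : Fin 3, ∀ e : Fin 64, linOK (mT e.1 l.1) := by unfold linOK; decide +kernel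

theorem pow_tab : ∀ u : Fin 64, mPow 0 u.1 = u.1 ∧ mPow 1 u.1 = mP u.1 ∧ mPow 2 u.1 = mP (mP u.1) := by
  decide +kernel

theorem mP_basis : ∀ i : Fin 3, mP (2 ^ (2 * i.1)) = 2 ^ (2 * i.1 + 1) ∧
    mP (2 ^ (2 * i.1 + 1)) = 3 * 2 ^ (2 * i.1) := by decide +kernel

theorem mA_basis : ∀ j : Fin 6, mA (2 ^ j.1) = mPow (2 * (j.1 / 2)) (2 ^ j.1) := by decide +kernel

theorem mB_basis : ∀ j : Fin 6, mB (2 ^ j.1) = 2 ^ ((j.1 + 2) % 6) := by decide +kernel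

theorem mB_fixed : ∀ u : Fin 64, mB u.1 = u.1 → u.1 = 0 ∨ ∃ x : Fin 3, u.1 = vec (x.1 + 1) (x.1 + 1) (x.1 + 1) := by
  decide +kernel

theorem vec_pair : ∀ x : Fin 3, ∀ y : Fin 3,
    pairB (vec (x.1 + 1) (x.1 + 1) (x.1 + 1)) (vec (y.1 + 1) (y.1 + 1) (y.1 + 1)) = 0 →
    pairB (mP (vec (x.1 + 1) (x.1 + 1) (x.1 + 1))) (vec (y.1 + 1) (y.1 + 1) (y.1 + 1)) ≠ 0 → x = y := by
  decide +kernel

theorem mAB_pair : ∀ m : Fin 3, ∀ x : Fin 64, ∀ y : Fin 64, mAB m.1 x.1 = x.1 → mAB m.1 y.1 = y.1 →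
    pairB x.1 y.1 = 0 → pairB x.1 (mP y.1) ≠ 0 → x.1 = y.1 := by decide +kernel

theorem mAB_gen : ∀ m : Fin 3, ∀ e : Fin 64, ∀ l : Fin 3, mAB m.1 e.1 = e.1 → e.1 ≠ 0 → ∀ g : Fin 4,
    ∃ n : Fin 16, ∀ u : Fin 64,
      mT e.1 l.1 (Nat.shiftRight (phiS n.1 u.1) 1) = phiB g.1 (mT e.1 l.1 u.1) := by decide +kernel

theorem mN_surj : ∀ x : Fin 3, ∀ m : Fin 3, ∀ w : Fin 64, ∃ v : Fin 64, mN (x.1 + 1) m.1 v.1 = w.1 := by
  decide +kernel

theorem mT_surj : ∀ m : Fin 3, ∀ e : Fin 64, ∀ l : Fin 3, mAB m.1 e.1 = e.1 → e.1 ≠ 0 →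
    ∀ w : Fin 64, ∃ v : Fin 64, mT e.1 l.1 v.1 = w.1 := by decide +kernel

theorem n1_conj : ∀ x : Fin 3, ∀ m : Fin 3, ∀ w : Fin 64, ∀ k : Fin 2,
    nCode (x.1 + 1) m.1 (eV k.1 (Nat.shiftLeft w.1 7)) =
      eV (2 + k.1) (Nat.shiftLeft (mN (x.1 + 1) m.1 w.1) 7) := by decide +kernel

theorem eV_split (k : Fin 4) (n : Fin 8192) :
    emul (emul (Nat.land n.1 1) (Nat.shiftLeft (eU n.1) 1)) (eV k.1 (Nat.shiftLeft (eW n.1) 7)) = eV k.1 n.1 := by
  fin_cases k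
  · exact Nat.eq_of_beq_eq_true (forall_code (f := fun n => Nat.beq
      (emul (emul (Nat.land n 1) (Nat.shiftLeft (eU n) 1)) (eV 0 (Nat.shiftLeft (eW n) 7))) (eV 0 n))
      (by decide +kernel) n)
  · exact Nat.eq_of_beq_eq_true (forall_code (f := fun n => Nat.beq
      (emul (emul (Nat.land n 1) (Nat.shiftLeft (eU n) 1)) (eV 1 (Nat.shiftLeft (eW n) 7))) (eV 1 n))
      (by decide +kernel) n)
  · exact Nat.eq_of_beq_eq_true (forall_code (f := fun n => Nat.beq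
      (emul (emul (Nat.land n 1) (Nat.shiftLeft (eU n) 1)) (eV 2 (Nat.shiftLeft (eW n) 7))) (eV 2 n))
      (by decide +kernel) n)
  · exact Nat.eq_of_beq_eq_true (forall_code (f := fun n => Nat.beq
      (emul (emul (Nat.land n 1) (Nat.shiftLeft (eU n) 1)) (eV 3 (Nat.shiftLeft (eW n) 7))) (eV 3 n))
      (by decide +kernel) n)

end CfsgLib.JankoFourHexad
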