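import Cfsg.Agent.Lib.JankoFourHexad.Coord
import Cfsg.Agent.Lib.JankoFourHexad.ActionChecks

/-!
# The actions of the frame on the two fixed spaces (owner: helper28)
-/

set_option autoImplicit false

namespace CfsgLib.JankoFour

open Cfsg CfsgLib.ThreeTrans
open CfsgLib.JankoFourHexad

variable {G : Type*} [Group G] [Finite G]

namespace HexBase

variable {S : Setting G} (B : HexBase S)

theorem gprod_hom {H : ℕ → G} (h0 : H 0 = 1) (hadd : ∀ a b, H a * H b = H (Nat.xor a b)) (φ : ℕ → ℕ) (m : ℕ) :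
    ∀ n, gprod (fun j => H (φ j)) m n = H (xfold φ m n)
  | 0 => h0.symm
  | n + 1 => by
    rw [gprod_succ, xfold_succ, gprod_hom h0 hadd φ m n]
    split_ifs
    · exact hadd _ _
    · rw [mul_one, show Nat.xor (xfold φ m n) 0 = _ from Nat.xor_zero _]

/-- A linear map given on a basis. -/
theorem conj_lin {g : G} {K : ℕ → G} {H : ℕ → G} (h0 : H 0 = 1) (hadd : ∀ a b, H a * H b = H (Nat.xor a b))
    {f : ℕ → ℕ} (hf : linOK f) (h : ∀ j < 6, g * K j * g⁻¹ = H (f (2 ^ j))) {u : ℕ} (hu : u < 64) :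
    g * gprod K u 6 * g⁻¹ = H (f u) := by
  rw [show g * gprod K u 6 * g⁻¹ = gprod (fun j => g * K j * g⁻¹) u 6 from
      gprod_map (MulAut.conj g).toMonoidHom K u 6, gprod_congr h, gprod_hom h0 hadd, (hf ⟨u, hu⟩).1]

/-- `g` acts on both fixed spaces by `f`. -/
def Acts2 (g : G) (f : ℕ → ℕ) : Prop :=
  ∀ u < 64, f u < 64 ∧ g * B.U u * g⁻¹ = B.U (f u) ∧ g * B.W u * g⁻¹ = B.W (f u)

theorem acts2_of_basis {g : G} {f : ℕ → ℕ} (hf : linOK f) (hU : ∀ j < 6, g * B.cU j * g⁻¹ = B.U (f (2 ^ j)))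
    (hW : ∀ j < 6, g * B.dW j * g⁻¹ = B.W (f (2 ^ j))) : B.Acts2 g f := fun u hu =>
  ⟨(hf ⟨u, hu⟩).2, conj_lin B.U_zero B.U_xor hf hU hu, conj_lin B.W_zero B.W_xor hf hW hu⟩

theorem acts2_one : B.Acts2 1 id := fun u hu => ⟨hu, by simp, by simp⟩

theorem acts2_mul {g h : G} {f k : ℕ → ℕ} (hg : B.Acts2 g f) (hh : B.Acts2 h k) :
    B.Acts2 (g * h) (fun u => f (k u)) := fun u hu => by
  obtain ⟨h1, h2, h3⟩ := hh u hu
  obtain ⟨g1, g2, g3⟩ := hg (k u) h1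
  exact ⟨g1, by rw [← g2, ← h2]; group, by rw [← g3, ← h3]; group⟩

theorem acts2_congr {g : G} {f k : ℕ → ℕ} (hg : B.Acts2 g f) (h : ∀ u < 64, f u = k u) : B.Acts2 g k :=
  fun u hu => h u hu ▸ hg u hu

theorem acts2_central {g c : G} {f : ℕ → ℕ} (hg : B.Acts2 g f) (hc : c ∈ Subgroup.zpowers S.z) :
    B.Acts2 (g * c) f := fun u hu => by
  obtain ⟨g1, g2, g3⟩ := hg u hu
  have key : ∀ {x : G}, x ∈ S.E → g * c * x * (g * c)⁻¹ = g * x * g⁻¹ := fun {x} hx => by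
    have := Frame.commute_z_zpowers (S := S) (S.hE.commute_z hx) hc
    calc g * c * x * (g * c)⁻¹ = g * (c * x * c⁻¹) * g⁻¹ := by group
      _ = _ := by rw [← this.eq, mul_inv_cancel_right]
  exact ⟨g1, by rw [key (B.X.F1_le_E (B.U_mem u)), g2], by rw [key (B.X.F2_le_E (B.W_mem u)), g3]⟩

theorem three_pow {i : ℕ} (hi : i < 3) : 3 * 2 ^ (2 * i) = Nat.xor (2 ^ (2 * i)) (2 ^ (2 * i + 1)) := by
  interval_cases i <;> rfl

theorem p_acts : B.Acts2 B.X.F.p mP := by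
  refine B.acts2_of_basis linOK_P (fun j hj => ?_) (fun j hj => ?_)
  all_goals
    first | unfold cU | unfold dW
    rw [B.bc_p]
    obtain ⟨h1, h2⟩ := mP_basis ⟨j / 2, by omega⟩
    rcases Nat.mod_two_eq_zero_or_one j with e | e
  · rw [if_pos e, show j = 2 * (j / 2) by omega, h1, B.U_single (by omega), cU, if_neg (by omega),
      show (2 * (j / 2) + 1) / 2 = j / 2 by omega, show 2 * (j / 2) / 2 = j / 2 by omega]
  · rw [if_neg (by omega), B.p_c1, B.bc_mul, show j = 2 * (j / 2) + 1 by omega, h2,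
      three_pow (show j / 2 < 3 by omega),
      ← B.U_xor, B.U_single (by omega), B.U_single (by omega), cU, cU, if_pos (by omega), if_neg (by omega),
      show (2 * (j / 2) + 1) / 2 = j / 2 by omega, show 2 * (j / 2) / 2 = j / 2 by omega]
  · rw [if_pos e, show j = 2 * (j / 2) by omega, h1, B.W_single (by omega), dW, if_neg (by omega),
      show (2 * (j / 2) + 1) / 2 = j / 2 by omega, show 2 * (j / 2) / 2 = j / 2 by omega]
  · rw [if_neg (by omega), B.p_d1, B.bc_mul, show j = 2 * (j / 2) + 1 by omega, h2,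
      three_pow (show j / 2 < 3 by omega),
      ← B.W_xor, B.W_single (by omega), B.W_single (by omega), dW, dW, if_pos (by omega), if_neg (by omega),
      show (2 * (j / 2) + 1) / 2 = j / 2 by omega, show 2 * (j / 2) / 2 = j / 2 by omega]

theorem pPow_acts (k : ℕ) : B.Acts2 (B.X.F.p ^ k) (mPow k) := by
  have hk : B.X.F.p ^ k = B.X.F.p ^ (k % 3) := pow_eq_pow_mod k B.X.F.p_pow
  have hm : ∀ u, mPow k u = mPow (k % 3) u := fun u => by simp [mPow, pw]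
  rw [hk]
  refine B.acts2_congr (f := mPow (k % 3)) ?_ fun u _ => (hm u).symm
  have h3 : k % 3 = 0 ∨ k % 3 = 1 ∨ k % 3 = 2 := by omega
  rcases h3 with e | e | e <;> rw [e]
  · rw [pow_zero]; exact B.acts2_congr B.acts2_one fun u hu => (pow_tab ⟨u, hu⟩).1.symm
  · rw [pow_one]; exact B.acts2_congr B.p_acts fun u hu => (pow_tab ⟨u, hu⟩).2.1.symm
  · rw [pow_two]; exact B.acts2_congr (B.acts2_mul B.p_acts B.p_acts) fun u hu => (pow_tab ⟨u, hu⟩).2.2.symm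

theorem a_conj {i : ℕ} {x : G} (hx : x ∈ B.X.F.W i) :
    B.X.F.a * x * B.X.F.a⁻¹ = B.X.F.p ^ (2 * i) * x * (B.X.F.p ^ (2 * i))⁻¹ := by
  have h3 : B.X.F.p ^ i * B.X.F.p ^ (2 * i) = 1 := by
    rw [← pow_add, show i + 2 * i = 3 * i by ring, pow_mul, B.X.F.p_pow, one_pow]
  have hel : B.X.F.a = B.X.F.el i * B.X.F.p ^ (2 * i) := by
    rw [Frame.el, mul_assoc, h3, mul_one]
  have hy : B.X.F.p ^ (2 * i) * x * (B.X.F.p ^ (2 * i))⁻¹ ∈ B.X.F.W i :=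
    S.commute_fixE ((B.X.F.commute_p (B.X.F.el_mem i)).symm.pow_left _)
      ((Frame.commute_z B.X.F.hpC).pow_left _) hx
  have hc := (S.mem_fixE.1 hy).2
  conv_lhs => rw [hel]
  calc B.X.F.el i * B.X.F.p ^ (2 * i) * x * (B.X.F.el i * B.X.F.p ^ (2 * i))⁻¹
      = B.X.F.el i * (B.X.F.p ^ (2 * i) * x * (B.X.F.p ^ (2 * i))⁻¹) * (B.X.F.el i)⁻¹ := by group
    _ = _ := by rw [← hc.eq, mul_inv_cancel_right]

theorem a_acts : B.Acts2 B.X.F.a mA := by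
  refine B.acts2_of_basis linOK_A (fun j hj => ?_) (fun j hj => ?_)
  · rw [B.a_conj (B.cU_mem j).2, ← B.U_single hj,
      (B.pPow_acts _ (2 ^ j) (Nat.pow_lt_pow_right (by norm_num) hj)).2.1, mA_basis ⟨j, hj⟩]
  · rw [B.a_conj (B.dW_mem j).2, ← B.W_single hj,
      (B.pPow_acts _ (2 ^ j) (Nat.pow_lt_pow_right (by norm_num) hj)).2.2, mA_basis ⟨j, hj⟩]

theorem b_acts : B.Acts2 B.X.F.b mB := by
  have hb : ∀ x, B.X.F.b * B.bc 2 x * B.X.F.b⁻¹ = B.bc 0 x := fun x => by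
    rw [← B.bc_succ, bc_zero, bc, B.X.F.hb]; simp
  refine B.acts2_of_basis linOK_B (fun j hj => ?_) (fun j hj => ?_)
  · rw [mB_basis ⟨j, hj⟩, B.U_single (Nat.mod_lt _ (by norm_num)), cU, cU,
      show (j + 2) % 6 % 2 = j % 2 by omega]
    rcases (show j / 2 < 2 ∨ j / 2 = 2 by omega) with e | e
    · rw [← B.bc_succ, show (j + 2) % 6 / 2 = j / 2 + 1 by omega]
    · rw [e, hb, show (j + 2) % 6 / 2 = 0 by omega]
  · rw [mB_basis ⟨j, hj⟩, B.W_single (Nat.mod_lt _ (by norm_num)), dW, dW,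
      show (j + 2) % 6 % 2 = j % 2 by omega]
    rcases (show j / 2 < 2 ∨ j / 2 = 2 by omega) with e | e
    · rw [← B.bc_succ, show (j + 2) % 6 / 2 = j / 2 + 1 by omega]
    · rw [e, hb, show (j + 2) % 6 / 2 = 0 by omega]

theorem U_inj {u u' : ℕ} (hu : u < 64) (hu' : u' < 64) (h : B.U u = B.U u') : u = u' := by
  have h2 : B.U (Nat.xor u u') * B.W 0 = 1 := by rw [← B.U_xor, W_zero, mul_one, h, U_sq]
  have := (B.U_mul_W_eq (Nat.xor_lt_two_pow (n := 6) hu hu') (by norm_num) (one_mem _) h2).1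
  exact Nat.xor_eq_zero_iff.1 this

theorem W_inj {u u' : ℕ} (hu : u < 64) (hu' : u' < 64) (h : B.W u = B.W u') : u = u' := by
  have h2 : B.U 0 * B.W (Nat.xor u u') = 1 := by rw [← B.W_xor, U_zero, one_mul, h, W_sq]
  have := (B.U_mul_W_eq (by norm_num) (Nat.xor_lt_two_pow (n := 6) hu hu') (one_mem _) h2).2.1
  exact Nat.xor_eq_zero_iff.1 this

theorem pair_zero_iff {u w : ℕ} (hu : u < 64) (hw : w < 64) : Commute (B.U u) (B.W w) ↔ pairB u w = 0 := by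
  constructor
  · intro hc
    by_contra hne
    have h2 := B.UW_rel hu hw
    have hlt : pairB u w < 2 := pairB_lt ⟨u, hu⟩ ⟨w, hw⟩
    rw [show pairB u w = 1 by omega, zpar_one, hc.eq] at h2
    exact S.hE.z_ne_one (mul_eq_left.1 h2.symm)
  · intro h
    have h2 := B.UW_rel hu hw
    rw [h, zpar_zero, mul_one] at h2
    exact h2

theorem mem_F1_code {x : G} (hx : x ∈ B.X.F1) : ∃ u < 64, ∃ c ∈ Subgroup.zpowers S.z, x = c * B.U u := by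
  obtain ⟨n, hn, rfl⟩ := B.el_surjective (B.X.F1_le_E hx)
  have hz : zpar S.z n ∈ Subgroup.zpowers S.z := by
    rcases zpar_mem (c := S.z) n with e | e <;> rw [e]
    exacts [one_mem _, Subgroup.mem_zpowers _]
  have hw0 : eW n = 0 := by
    refine pairB_right ⟨eW n, eW_lt hn⟩ fun u => (B.pair_zero_iff u.2 (eW_lt hn)).1 ?_
    have hW : B.W (eW n) = (zpar S.z n * B.U (eU n))⁻¹ * B.el n := by rw [el]; group
    rw [hW]
    exact B.X.F1_comm (B.U_mem _) (mul_mem (inv_mem (mul_mem (Subgroup.zpowers_le.2 B.X.z_F1 hz) (B.U_mem _))) hx)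
  exact ⟨eU n, eU_lt n, _, hz, by rw [el, hw0, W_zero, mul_one]⟩

theorem mem_F2_code {x : G} (hx : x ∈ B.X.F2) : ∃ w < 64, ∃ c ∈ Subgroup.zpowers S.z, x = c * B.W w := by
  obtain ⟨n, hn, rfl⟩ := B.el_surjective (B.X.F2_le_E hx)
  have hz : zpar S.z n ∈ Subgroup.zpowers S.z := by
    rcases zpar_mem (c := S.z) n with e | e <;> rw [e]
    exacts [one_mem _, Subgroup.mem_zpowers _]
  have hu0 : eU n = 0 := by
    refine pairB_left ⟨eU n, eU_lt n⟩ fun w => (B.pair_zero_iff (eU_lt n) w.2).1 ?_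
    have hU : B.U (eU n) = (zpar S.z n)⁻¹ * B.el n * (B.W (eW n))⁻¹ := by rw [el]; group
    rw [hU]
    exact B.X.F2_comm (mul_mem (mul_mem (inv_mem (Subgroup.zpowers_le.2 B.X.z_F2 hz)) hx)
      (inv_mem (B.W_mem _))) (B.W_mem _)
  exact ⟨eW n, eW_lt hn, _, hz, by rw [el, hu0, U_zero, mul_one]⟩

theorem xor_orbit : ∀ u : Fin 64, Nat.xor (Nat.xor u.1 (mP u.1)) (mP (mP u.1)) = 0 := by decide +kernel

/-- The sign is determined by the orbit product. -/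
theorem orbit_sign {c : G} (hc : c ∈ Subgroup.zpowers S.z) {H : ℕ → G} (hH : ∀ u, H u ∈ S.E)
    (h0 : H 0 = 1) (hadd : ∀ a b, H a * H b = H (Nat.xor a b))
    (hp : ∀ u < 64, B.X.F.p * H u * B.X.F.p⁻¹ = H (mP u)) {u : ℕ} (hu : u < 64)
    (h : c * H u * (B.X.F.p * (c * H u) * B.X.F.p⁻¹) *
      (B.X.F.p * (B.X.F.p * (c * H u) * B.X.F.p⁻¹) * B.X.F.p⁻¹) = 1) : c = 1 := by
  have hpc : B.X.F.p * c * B.X.F.p⁻¹ = c := by
    rw [(Frame.commute_z_zpowers (S := S) (Frame.commute_z B.X.F.hpC) hc).eq, mul_inv_cancel_right]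
  have e1 : ∀ v < 64, B.X.F.p * (c * H v) * B.X.F.p⁻¹ = c * H (mP v) := fun v hv => by
    calc B.X.F.p * (c * H v) * B.X.F.p⁻¹ = (B.X.F.p * c * B.X.F.p⁻¹) * (B.X.F.p * H v * B.X.F.p⁻¹) := by group
      _ = _ := by rw [hpc, hp v hv]
  have hmP : mP u < 64 := (linOK_P ⟨u, hu⟩).2
  rw [e1 u hu, e1 _ hmP] at h
  have hcH : ∀ v, Commute c (H v) := fun v => (Frame.commute_z_zpowers (S := S) (S.hE.commute_z (hH v)) hc).symm
  have hc2 : c * c = 1 := by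
    rcases S.hE.eq_or hc with e | e <;> rw [e]
    exacts [one_mul 1, S.z_sq]
  have : c * (c * (c * (H u * H (mP u) * H (mP (mP u))))) = 1 := by
    calc c * (c * (c * (H u * H (mP u) * H (mP (mP u)))))
        = c * (c * ((c * H u) * H (mP u))) * H (mP (mP u)) := by group
      _ = c * ((c * H u) * (c * H (mP u))) * H (mP (mP u)) := by
          rw [show c * ((c * H u) * H (mP u)) = (c * (c * H u)) * H (mP u) by group,
            ((Commute.refl c).mul_right (hcH u)).eq]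
          group
      _ = ((c * H u) * (c * H (mP u))) * (c * H (mP (mP u))) := by
          rw [(((Commute.refl c).mul_right (hcH u)).mul_right ((Commute.refl c).mul_right (hcH (mP u)))).eq]
          group
      _ = 1 := h
  rwa [hadd, hadd, xor_orbit ⟨u, hu⟩, h0, mul_one, ← mul_assoc, hc2, one_mul] at this

theorem orbit_conj {g x : G} (hg : g ∈ S.C)
    (h : x * (B.X.F.p * x * B.X.F.p⁻¹) * (B.X.F.p * (B.X.F.p * x * B.X.F.p⁻¹) * B.X.F.p⁻¹) = 1) :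
    g * x * g⁻¹ * (B.X.F.p * (g * x * g⁻¹) * B.X.F.p⁻¹) *
      (B.X.F.p * (B.X.F.p * (g * x * g⁻¹) * B.X.F.p⁻¹) * B.X.F.p⁻¹) = 1 := by
  have hc := B.X.F.commute_p hg
  have e : ∀ y, B.X.F.p * (g * y * g⁻¹) * B.X.F.p⁻¹ = g * (B.X.F.p * y * B.X.F.p⁻¹) * g⁻¹ := fun y => by
    calc B.X.F.p * (g * y * g⁻¹) * B.X.F.p⁻¹ = (B.X.F.p * g) * y * (B.X.F.p * g)⁻¹ := by group
      _ = _ := by rw [← hc.eq]; group
  rw [e, e, show ∀ s t r : G, g * s * g⁻¹ * (g * t * g⁻¹) * (g * r * g⁻¹) = g * (s * t * r) * g⁻¹ from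
    fun s t r => by group, h]
  simp

theorem exists_lift_form {x y : G} (hx : x ∈ S.C) (hy : y ∈ S.C) (h : S.f x = S.f y) :
    ∃ m : ℕ, ∃ c ∈ Subgroup.zpowers S.z, x = y * B.X.F.p ^ m * c := by
  have hk : y⁻¹ * x ∈ S.E ⊔ S.P := (S.f_eq_one_iff (S.C_le_H0 (mul_mem (inv_mem hy) hx))).1
    (by rw [S.f_mul_C (inv_mem hy) hx, S.f_inv_C hy, h, inv_mul_cancel])
  obtain ⟨q, hq, c, hc, e⟩ := S.C_inf_EP (mul_mem (inv_mem hy) hx) hk
  obtain ⟨m, rfl⟩ := B.X.F.P_eq hq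
  exact ⟨m, c, hc, by rw [mul_assoc, ← e, mul_inv_cancel_left]⟩

theorem mem_base_ne {x : G} (h : ¬ Commute x B.d0) : x ≠ 1 := fun e => h (e ▸ Commute.one_left _)

theorem bc_iter {g gb : G} {H : ℕ → G} {f : ℕ → ℕ} {y : G} {u : ℕ} (hu : u < 64)
    (hgb : g * B.X.F.b * g⁻¹ = gb) (hf : ∀ v < 64, f v < 64 ∧ gb * H v * gb⁻¹ = H (f v))
    (hy : g * y * g⁻¹ = H u) : ∀ i : ℕ, (f^[i]) u < 64 ∧ g * B.bc i y * g⁻¹ = H ((f^[i]) u)
  | 0 => ⟨hu, by rw [bc_zero]; exact hy⟩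
  | i + 1 => by
    obtain ⟨h1, h2⟩ := bc_iter hu hgb hf hy i
    rw [Function.iterate_succ_apply', bc_succ]
    refine ⟨(hf _ h1).1, ?_⟩
    rw [← (hf _ h1).2, ← h2, ← hgb]
    group

theorem mN_basis : ∀ x : Fin 3, ∀ m : Fin 3, ∀ j : Fin 6, mN (x.1 + 1) m.1 (2 ^ j.1) =
    (mA' m.1)^[j.1 / 2] (if j.1 % 2 = 0 then vec (x.1 + 1) (x.1 + 1) (x.1 + 1)
      else mP (vec (x.1 + 1) (x.1 + 1) (x.1 + 1))) := by decide +kernel

theorem mT_basis : ∀ l : Fin 3, ∀ e : Fin 64, ∀ j : Fin 6, mT e.1 l.1 (2 ^ j.1) =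
    (mAB2 l.1)^[j.1 / 2] (if j.1 % 2 = 0 then e.1 else mP e.1) := by decide +kernel

theorem mPow_mod (m u : ℕ) : mPow (m % 3) u = mPow m u := by simp [mPow, pw]

/-- The action of `n1`. -/
theorem exists_n1 : ∃ x : Fin 3, ∃ m : Fin 3, B.Acts2 B.X.n1 (mN (x.1 + 1) m.1) := by
  have hn := B.X.hn1
  have hcom := B.X.F.commute_p hn
  have hfb : S.f (B.X.n1 * B.X.F.b * B.X.n1⁻¹) = S.f (B.X.F.a * B.X.F.a) := by
    rw [S.f_conj_C hn B.X.F.hbC, S.f_mul_C B.X.F.haC B.X.F.haC, B.X.hex.n1s]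
  obtain ⟨m, c, hc, hgb⟩ := B.exists_lift_form (mul_mem (mul_mem hn B.X.F.hbC) (inv_mem hn))
    (mul_mem B.X.F.haC B.X.F.haC) hfb
  have hact : B.Acts2 (B.X.n1 * B.X.F.b * B.X.n1⁻¹) (mA' (m % 3)) := by
    rw [hgb]
    exact B.acts2_central (B.acts2_congr
      (B.acts2_mul (B.acts2_mul B.a_acts B.a_acts) (B.pPow_acts m)) fun u _ => by rw [mA', mPow_mod]) hc
  have hba : ∀ {y : G}, y ∈ B.X.F.W 0 → Commute (B.X.n1 * y * B.X.n1⁻¹) B.X.F.b := fun {y} hy => by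
    rw [← B.X.hab]
    refine LargeData.commute_conj_iff'.2 ?_
    have := (S.mem_fixE.1 hy).2
    rwa [Frame.el, pow_zero, mul_one] at this
  -- the image of `c0`
  obtain ⟨u, hu, cu, hcu, eu⟩ := B.mem_F1_code (B.X.conj_F1 hn B.X.norm_n1 B.hc1)
  have hu1 := B.orbit_conj hn B.hcp
  rw [eu] at hu1
  obtain rfl := B.orbit_sign hcu (fun v => B.X.F1_le_E (B.U_mem v)) B.U_zero B.U_xor
    (fun v hv => (B.p_acts v hv).2.1) hu hu1
  rw [one_mul] at eu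
  -- the image of `d0`
  obtain ⟨w, hw, cw, hcw, ew⟩ := B.mem_F2_code (B.X.conj_F2 hn B.X.norm2_n1 B.hd2)
  have hw1 := B.orbit_conj hn B.hdp
  rw [ew] at hw1
  obtain rfl := B.orbit_sign hcw (fun v => B.X.F2_le_E (B.W_mem v)) B.W_zero B.W_xor
    (fun v hv => (B.p_acts v hv).2.2) hw hw1
  rw [one_mul] at ew
  have hbu : mB u = u := by
    have h := hba B.hcW
    rw [eu] at h
    refine B.U_inj (B.b_acts u hu).1 hu ?_
    rw [← (B.b_acts u hu).2.1, ← h.eq, mul_inv_cancel_right]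
  have hbw : mB w = w := by
    have h := hba B.hdW
    rw [ew] at h
    refine B.W_inj (B.b_acts w hw).1 hw ?_
    rw [← (B.b_acts w hw).2.2, ← h.eq, mul_inv_cancel_right]
  have eu' : B.X.n1 * B.c1 * B.X.n1⁻¹ = B.U (mP u) := by
    rw [← (B.p_acts u hu).2.1, ← eu]
    calc B.X.n1 * B.c1 * B.X.n1⁻¹ = (B.X.n1 * B.X.F.p) * B.c0 * (B.X.n1 * B.X.F.p)⁻¹ := by group
      _ = _ := by rw [hcom.eq]; group
  have ew' : B.X.n1 * B.d1 * B.X.n1⁻¹ = B.W (mP w) := by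
    rw [← (B.p_acts w hw).2.2, ← ew]
    calc B.X.n1 * B.d1 * B.X.n1⁻¹ = (B.X.n1 * B.X.F.p) * B.d0 * (B.X.n1 * B.X.F.p)⁻¹ := by group
      _ = _ := by rw [hcom.eq]; group
  have hmPu : mP u < 64 := (linOK_P ⟨u, hu⟩).2
  have hmPw : mP w < 64 := (linOK_P ⟨w, hw⟩).2
  have hp0 : pairB u w = 0 := by
    rw [← B.pair_zero_iff hu hw, ← eu, ← ew]
    exact LargeData.commute_conj_iff'.2 B.hcd
  have hp1 : pairB (mP u) w ≠ 0 := by
    rw [Ne, ← B.pair_zero_iff hmPu hw, ← eu', ← ew]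
    exact fun h => B.hncd (LargeData.commute_conj_iff'.1 h)
  have hz : ∀ {v : Fin 64}, (∀ k, pairB v.1 k = 0 ∨ 64 ≤ k) → v.1 = 0 := fun {v} h =>
    pairB_left v fun k => (h k.1).resolve_right (by omega)
  obtain hu0 | ⟨x, hx⟩ := mB_fixed ⟨u, hu⟩ hbu
  · refine absurd ?_ hp1
    simp only at hu0
    rw [hu0]; exact (pairB_zero ⟨w, hw⟩).2
  obtain hw0 | ⟨y, hy⟩ := mB_fixed ⟨w, hw⟩ hbw
  · refine absurd ?_ hp1
    simp only at hw0
    rw [hw0]; exact (pairB_zero ⟨mP u, hmPu⟩).1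
  simp only at hx hy
  obtain rfl : x = y := vec_pair x y (by rw [← hx, ← hy]; exact hp0) (by rw [← hx, ← hy]; exact hp1)
  refine ⟨x, ⟨m % 3, Nat.mod_lt _ (by norm_num)⟩, B.acts2_of_basis (linOK_N x _) (fun j hj => ?_) (fun j hj => ?_)⟩
  · rw [mN_basis x ⟨m % 3, Nat.mod_lt _ (by norm_num)⟩ ⟨j, hj⟩]
    dsimp only
    rw [← hx, cU]
    split_ifs
    · exact (B.bc_iter hu rfl (fun v hv => ⟨(hact v hv).1, (hact v hv).2.1⟩) eu _).2
    · exact (B.bc_iter hmPu rfl (fun v hv => ⟨(hact v hv).1, (hact v hv).2.1⟩) eu' _).2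
  · rw [mN_basis x ⟨m % 3, Nat.mod_lt _ (by norm_num)⟩ ⟨j, hj⟩]
    dsimp only
    rw [← hy, dW]
    split_ifs
    · exact (B.bc_iter hw rfl (fun v hv => ⟨(hact v hv).1, (hact v hv).2.2⟩) ew _).2
    · exact (B.bc_iter hmPw rfl (fun v hv => ⟨(hact v hv).1, (hact v hv).2.2⟩) ew' _).2

theorem el_zW (n : ℕ) : B.el n = zpar S.z n * B.U (eU n) * B.W (eW n) := rfl

theorem eV_basis : ∀ j : Fin 6, eU (vImgW j.1) = (if j.1 < 4 then 2 ^ j.1 else 0) ∧ eW (vImgW j.1) = 2 ^ j.1 ∧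
    (vImgW j.1).testBit 0 = decide (j.1 < 4) ∧
    eU (wImgW j.1) = (if 2 ≤ j.1 then 2 ^ j.1 else 0) ∧ eW (wImgW j.1) = 2 ^ j.1 ∧
    (wImgW j.1).testBit 0 = decide (2 ≤ j.1) ∧ vImgW j.1 < 8192 ∧ wImgW j.1 < 8192 := by decide +kernel

theorem b_inv_v : B.X.F.b⁻¹ * B.X.F.v * B.X.F.b = B.X.F.v * B.X.F.w := by
  have hc : Commute B.X.F.v B.X.F.w := B.X.kl_commute 0 1
  have h : B.X.F.b * (B.X.F.v * B.X.F.w) * B.X.F.b⁻¹ = B.X.F.v := by
    rw [show B.X.F.b * (B.X.F.v * B.X.F.w) * B.X.F.b⁻¹ =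
      (B.X.F.b * B.X.F.v * B.X.F.b⁻¹) * (B.X.F.b * B.X.F.w * B.X.F.b⁻¹) by group, B.X.F.hw, B.X.hvw,
      ← mul_assoc, ← hc.eq, mul_assoc, B.X.hww, mul_one]
  conv_lhs => rw [← h]
  group

theorem v_base {y : G} {k : ℕ} (hk : k < 2) (hy : y = if k = 0 then B.d0 else B.d1) :
    B.X.F.v * y * B.X.F.v⁻¹ = (if k = 0 then B.c0 else B.c1) * y * S.z := by
  subst hy
  interval_cases k
  · simp only [if_true]; exact B.hvd
  · simp only [one_ne_zero, if_false]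
    have hc := B.X.F.commute_p B.X.F.hvC
    calc B.X.F.v * B.d1 * B.X.F.v⁻¹ = (B.X.F.v * B.X.F.p) * B.d0 * (B.X.F.v * B.X.F.p)⁻¹ := by group
      _ = B.X.F.p * (B.X.F.v * B.d0 * B.X.F.v⁻¹) * B.X.F.p⁻¹ := by rw [hc.eq]; group
      _ = B.c1 * B.d1 * (B.X.F.p * S.z * B.X.F.p⁻¹) := by rw [B.hvd]; simp only [c1, d1]; group
      _ = _ := by rw [(Frame.commute_z B.X.F.hpC).eq, mul_inv_cancel_right]

theorem vw_dW {j : ℕ} (hj : j < 6) :
    B.X.F.v * B.dW j * B.X.F.v⁻¹ = B.el (vImgW j) ∧ B.X.F.w * B.dW j * B.X.F.w⁻¹ = B.el (wImgW j) := by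
  obtain ⟨a1, a2, a3, b1, b2, b3, -, -⟩ := eV_basis ⟨j, hj⟩
  dsimp only at a1 a2 a3 b1 b2 b3
  set y := if j % 2 = 0 then B.d0 else B.d1 with hy
  set x := if j % 2 = 0 then B.c0 else B.c1 with hx
  have hyW : y ∈ B.X.F.W 0 := by rw [hy]; split_ifs; exacts [B.hdW, B.d1_mem.2]
  have hvy : B.X.F.v * y * B.X.F.v⁻¹ = x * y * S.z := B.v_base (Nat.mod_lt j (by norm_num)) hy
  have hwy : B.X.F.w * y * B.X.F.w⁻¹ = y := mul_inv_eq_iff_eq_mul.2 (B.X.w_trivial y hyW).eq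
  have hvwy : (B.X.F.v * B.X.F.w) * y * (B.X.F.v * B.X.F.w)⁻¹ = x * y * S.z := by
    calc (B.X.F.v * B.X.F.w) * y * (B.X.F.v * B.X.F.w)⁻¹
        = B.X.F.v * (B.X.F.w * y * B.X.F.w⁻¹) * B.X.F.v⁻¹ := by group
      _ = _ := by rw [hwy, hvy]
  have hsh : ∀ (t : G) (i : ℕ), t * B.bc i y * t⁻¹ =
      B.bc i (((B.X.F.b ^ i)⁻¹ * t * B.X.F.b ^ i) * y * ((B.X.F.b ^ i)⁻¹ * t * B.X.F.b ^ i)⁻¹) := fun t i => by
    simp only [bc]; group
  have hval : B.bc (j / 2) (x * y * S.z) = zpar S.z 1 * B.cU j * B.dW j := by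
    rw [B.bc_mul, B.bc_mul, B.bc_z, zpar_one, mul_assoc S.z]
    exact (S.hE.commute_z (mul_mem (B.cU_E j) (B.dW_E j))).eq
  have hfix : B.bc (j / 2) y = zpar S.z 0 * B.U 0 * B.dW j := by
    rw [zpar_zero, U_zero, one_mul, one_mul]; rfl
  have hzp : ∀ {n : ℕ} {d : Bool}, n.testBit 0 = d → zpar S.z n = zpar S.z (if d then 1 else 0) := fun {n d} h => by
    unfold zpar; rw [h]; cases d <;> simp
  have hi : j / 2 = 0 ∨ j / 2 = 1 ∨ j / 2 = 2 := by omega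
  have hv1 : (B.X.F.b ^ 1)⁻¹ * B.X.F.v * B.X.F.b ^ 1 = B.X.F.v * B.X.F.w := by rw [pow_one]; exact B.b_inv_v
  have hw1 : (B.X.F.b ^ 1)⁻¹ * B.X.F.w * B.X.F.b ^ 1 = B.X.F.v := by rw [pow_one, ← B.X.F.hw]; group
  have hw2 : (B.X.F.b ^ 2)⁻¹ * B.X.F.w * B.X.F.b ^ 2 = B.X.F.v * B.X.F.w := by
    rw [← B.b_inv_v, ← B.X.F.hw]; group
  constructor
  · rw [el_zW, a1, a2, hzp a3, B.W_single hj]
    rcases hi with e | e | e
    · rw [if_pos (by omega : j < 4), decide_eq_true (by omega : j < 4), B.U_single hj, if_pos rfl, ← hval]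
      change B.X.F.v * B.bc (j / 2) y * B.X.F.v⁻¹ = _
      rw [e, B.bc_zero, B.bc_zero, hvy]
    · rw [if_pos (by omega : j < 4), decide_eq_true (by omega : j < 4), B.U_single hj, if_pos rfl, ← hval]
      change B.X.F.v * B.bc (j / 2) y * B.X.F.v⁻¹ = _
      rw [e, hsh, hv1, hvwy]
    · rw [if_neg (by omega : ¬ j < 4), decide_eq_false (by omega : ¬ j < 4), if_neg (by decide), ← hfix]
      have hW : B.bc (j / 2) y ∈ B.X.F.W 2 := by rw [e]; exact B.bc_W hyW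
      exact mul_inv_eq_iff_eq_mul.2 (B.X.hvW _ hW).eq
  · rw [el_zW, b1, b2, hzp b3, B.W_single hj]
    rcases hi with e | e | e
    · rw [if_neg (by omega : ¬ 2 ≤ j), decide_eq_false (by omega : ¬ 2 ≤ j), if_neg (by decide), ← hfix]
      change B.X.F.w * B.bc (j / 2) y * B.X.F.w⁻¹ = _
      rw [e, B.bc_zero, hwy]
    · rw [if_pos (by omega : 2 ≤ j), decide_eq_true (by omega : 2 ≤ j), B.U_single hj, if_pos rfl, ← hval]
      change B.X.F.w * B.bc (j / 2) y * B.X.F.w⁻¹ = _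
      rw [e, hsh, hw1, hvy]
    · rw [if_pos (by omega : 2 ≤ j), decide_eq_true (by omega : 2 ≤ j), B.U_single hj, if_pos rfl, ← hval]
      change B.X.F.w * B.bc (j / 2) y * B.X.F.w⁻¹ = _
      rw [e, hsh, hw2, hvwy]

theorem kl_U (k : Fin 4) (u : ℕ) : B.X.kl k.1 * B.U u * (B.X.kl k.1)⁻¹ = B.U u :=
  mul_inv_eq_iff_eq_mul.2 ((B.X.mem_F1_iff.1 (B.U_mem u)).2 k.1 k.2).eq

theorem kl_W_low {w : ℕ} (hw : w < 64) (k : Fin 2) :
    B.X.kl k.1 * B.W w * (B.X.kl k.1)⁻¹ = B.el (eV k.1 (Nat.shiftLeft w 7)) := by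
  obtain ⟨-, -, hv, hw'⟩ := efold_v ⟨w, hw⟩
  fin_cases k
  · show B.X.F.v * gprod B.dW w 6 * B.X.F.v⁻¹ = _
    rw [← hv, show B.X.F.v * gprod B.dW w 6 * B.X.F.v⁻¹ = gprod (fun j => B.X.F.v * B.dW j * B.X.F.v⁻¹) w 6 from
      gprod_map (MulAut.conj B.X.F.v).toMonoidHom B.dW w 6]
    exact B.el_efold (fun j hj => (eV_basis ⟨j, hj⟩).2.2.2.2.2.2.1) (fun j hj => (B.vw_dW hj).1) _
  · show B.X.F.w * gprod B.dW w 6 * B.X.F.w⁻¹ = _
    rw [← hw', show B.X.F.w * gprod B.dW w 6 * B.X.F.w⁻¹ = gprod (fun j => B.X.F.w * B.dW j * B.X.F.w⁻¹) w 6 from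
      gprod_map (MulAut.conj B.X.F.w).toMonoidHom B.dW w 6]
    exact B.el_efold (fun j hj => (eV_basis ⟨j, hj⟩).2.2.2.2.2.2.2) (fun j hj => (B.vw_dW hj).2) _

theorem nCode_parts : ∀ x : Fin 3, ∀ m : Fin 3, ∀ w : Fin 64, ∀ k : Fin 2,
    (nCode (x.1 + 1) m.1 (eV k.1 (Nat.shiftLeft w.1 7))).testBit 0 = (eV k.1 (Nat.shiftLeft w.1 7)).testBit 0 ∧
    eU (nCode (x.1 + 1) m.1 (eV k.1 (Nat.shiftLeft w.1 7))) = mN (x.1 + 1) m.1 (eU (eV k.1 (Nat.shiftLeft w.1 7))) ∧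
    eW (nCode (x.1 + 1) m.1 (eV k.1 (Nat.shiftLeft w.1 7))) = mN (x.1 + 1) m.1 (eW (eV k.1 (Nat.shiftLeft w.1 7))) ∧
    eU (eV k.1 (Nat.shiftLeft w.1 7)) < 64 ∧ eW (eV k.1 (Nat.shiftLeft w.1 7)) < 64 := by decide +kernel

theorem kl_W (k : Fin 4) {w : ℕ} (hw : w < 64) :
    B.X.kl k.1 * B.W w * (B.X.kl k.1)⁻¹ = B.el (eV k.1 (Nat.shiftLeft w 7)) := by
  rcases (show k.1 < 2 ∨ ∃ i < 2, k.1 = 2 + i from
    (lt_or_ge k.1 2).imp id fun h => ⟨k.1 - 2, by omega, by omega⟩) with h | ⟨i, hi, e⟩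
  · exact B.kl_W_low hw ⟨k.1, h⟩
  obtain ⟨x, m, hN⟩ := B.exists_n1
  obtain ⟨v, hv⟩ := mN_surj x m ⟨w, hw⟩
  dsimp only at hv
  have hk : B.X.kl k.1 = B.X.n1 * B.X.kl i * B.X.n1⁻¹ := by
    rw [e]; interval_cases i <;> rfl
  obtain ⟨hz, hU, hW, hu', hw''⟩ := nCode_parts x m v ⟨i, hi⟩
  dsimp only at hz hU hW hu' hw''
  have hnc := n1_conj x m v ⟨i, hi⟩
  dsimp only at hnc
  rw [e, ← hv, ← hnc, el_zW, hU, hW, show zpar S.z (nCode (x.1 + 1) m.1 (eV i (Nat.shiftLeft v.1 7))) =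
    zpar S.z (eV i (Nat.shiftLeft v.1 7)) by unfold zpar; rw [hz], ← (hN _ hu').2.1, ← (hN _ hw'').2.2,
    ← (hN v.1 v.2).2.2]
  have hcz := zpar_commute (c := S.z) (Frame.commute_z B.X.hn1).symm (eV i (Nat.shiftLeft v.1 7))
  have h0 := B.kl_W_low v.2 ⟨i, hi⟩
  dsimp only at h0
  rw [← e, hk]
  calc B.X.n1 * B.X.kl i * B.X.n1⁻¹ * (B.X.n1 * B.W v.1 * B.X.n1⁻¹) * (B.X.n1 * B.X.kl i * B.X.n1⁻¹)⁻¹
      = B.X.n1 * (B.X.kl i * B.W v.1 * (B.X.kl i)⁻¹) * B.X.n1⁻¹ := by group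
    _ = (B.X.n1 * zpar S.z (eV i (Nat.shiftLeft v.1 7)) * B.X.n1⁻¹) *
        (B.X.n1 * B.U (eU (eV i (Nat.shiftLeft v.1 7))) * B.X.n1⁻¹) *
        (B.X.n1 * B.W (eW (eV i (Nat.shiftLeft v.1 7))) * B.X.n1⁻¹) := by rw [h0, el_zW]; group
    _ = _ := by rw [← hcz.eq, mul_inv_cancel_right]

theorem eW_shift (w : ℕ) : eW (Nat.shiftLeft w 7) = w := by
  show (w <<< 7) >>> 7 = w
  rw [Nat.shiftRight_eq_div_pow, Nat.shiftLeft_eq]; omega

/-- The exact action of the four lifts. -/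
theorem kl_el (k : Fin 4) {n : ℕ} (hn : n < 8192) : B.X.kl k.1 * B.el n * (B.X.kl k.1)⁻¹ = B.el (eV k.1 n) := by
  have hzl := zpar_commute (c := S.z) (Frame.commute_z (B.X.kl_mem k.1)).symm n
  have hb : Nat.land n 1 < 8192 := Nat.lt_of_le_of_lt Nat.and_le_right (by norm_num)
  have hU : Nat.shiftLeft (eU n) 1 < 8192 := by
    show eU n <<< 1 < 8192
    rw [Nat.shiftLeft_eq]; have := eU_lt n; omega
  rw [← eV_split k ⟨n, hn⟩, ← B.el_mul (emul_lt hb hU), ← B.el_mul hb, B.el_land, B.el_U (eU_lt n),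
    ← B.kl_W k (eW_lt hn)]
  calc B.X.kl k.1 * B.el n * (B.X.kl k.1)⁻¹
      = (B.X.kl k.1 * zpar S.z n * (B.X.kl k.1)⁻¹) * (B.X.kl k.1 * B.U (eU n) * (B.X.kl k.1)⁻¹) *
        (B.X.kl k.1 * B.W (eW n) * (B.X.kl k.1)⁻¹) := by rw [el_zW]; group
    _ = _ := by rw [← hzl.eq, mul_inv_cancel_right, kl_U]

end HexBase

end CfsgLib.JankoFour
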