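import Cfsg.Agent.Lib.JankoFourHexad.Fixed

/-!
# A symplectic basis adapted to the two fixed spaces (owner: helper28)

`c0` lies in the first fixed space, `d0` in the second, both on the first plane; with their conjugates under
`p` and `b` they and the involution generate the extraspecial group, and `v` sends `d0` to `c0 * d0 * z`.
-/

set_option autoImplicit false

namespace CfsgLib.JankoFour

open Cfsg CfsgLib.ThreeTrans

variable {G : Type*} [Group G] [Finite G]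

namespace Frame

variable {S : Setting G} (F : Frame S)

/-- The commutator with `p` lands in a complement of the centre. -/
theorem p_commutator {e : G} (he : e ∈ S.E) (hc : ∀ a b : G, (a = e ∨ a = F.p * e * F.p⁻¹) →
    (b = e ∨ b = F.p * e * F.p⁻¹) → Commute a b) :
    (F.p * e * F.p⁻¹ * e⁻¹) * (F.p * (F.p * e * F.p⁻¹ * e⁻¹) * F.p⁻¹) *
      (F.p * (F.p * (F.p * e * F.p⁻¹ * e⁻¹) * F.p⁻¹) * F.p⁻¹) = 1 ∧
    (F.p * e * F.p⁻¹ * e⁻¹) * (F.p * e * F.p⁻¹ * e⁻¹) = 1 := by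
  set e1 := F.p * e * F.p⁻¹ with he1
  set e2 := F.p * e1 * F.p⁻¹ with he2
  have he1E : e1 ∈ S.E := S.hE.conj_mem (commute_z F.hpC) he
  have h3 : F.p * e2 * F.p⁻¹ = e := by
    rw [he2, he1, show F.p * (F.p * (F.p * e * F.p⁻¹) * F.p⁻¹) * F.p⁻¹ = F.p ^ 3 * e * (F.p ^ 3)⁻¹ by
      rw [pow_succ, pow_two]; group, F.p_pow]
    simp
  have c01 : Commute e1 e := hc _ _ (Or.inr rfl) (Or.inl rfl)
  have c12 : Commute e2 e1 := LargeData.commute_conj_iff'.2 c01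
  have c20 : Commute e e2 := by
    have h' : Commute (F.p * e2 * F.p⁻¹) (F.p * e1 * F.p⁻¹) := LargeData.commute_conj_iff'.2 c12
    rwa [h3] at h'
  constructor
  · rw [show F.p * (e1 * e⁻¹) * F.p⁻¹ = e2 * e1⁻¹ by rw [he2, he1]; group,
      show F.p * (e2 * e1⁻¹) * F.p⁻¹ = (F.p * e2 * F.p⁻¹) * (F.p * e1 * F.p⁻¹)⁻¹ by group, h3, ← he2]
    calc e1 * e⁻¹ * (e2 * e1⁻¹) * (e * e2⁻¹) = e1 * (e⁻¹ * e2) * e1⁻¹ * e * e2⁻¹ := by group
      _ = e1 * (e2 * e⁻¹) * e1⁻¹ * e * e2⁻¹ := by rw [c20.inv_left.eq]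
      _ = (e1 * e2) * (e⁻¹ * e1⁻¹) * e * e2⁻¹ := by group
      _ = (e2 * e1) * (e1⁻¹ * e⁻¹) * e * e2⁻¹ := by rw [← c12.eq, (c01.inv_inv).eq]
      _ = 1 := by group
  · have hsq0 := S.hE.sq_mem he
    have hfix : F.p * (e * e) * F.p⁻¹ = e * e := by
      rw [(commute_z_zpowers (S := S) (commute_z F.hpC) hsq0).eq, mul_inv_cancel_right]
    calc e1 * e⁻¹ * (e1 * e⁻¹) = e1 * (e⁻¹ * e1) * e⁻¹ := by group
      _ = e1 * (e1 * e⁻¹) * e⁻¹ := by rw [(c01.inv_right).eq]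
      _ = (e1 * e1) * (e * e)⁻¹ := by group
      _ = 1 := by
        rw [show e1 * e1 = F.p * (e * e) * F.p⁻¹ by rw [he1]; group, hfix, mul_inv_cancel]

end Frame

namespace HexFrame

variable {S : Setting G} (X : HexFrame S)

theorem el_conj_F1 (i : ℕ) {e : G} (he : e ∈ X.F1) : X.F.el i * e * (X.F.el i)⁻¹ ∈ X.F1 :=
  X.conj_F1 (X.F.el_mem i) (mul_mem X.norm_a (pow_mem X.p_norm i)) he

theorem norm2_a : X.n2⁻¹ * X.F.a * X.n2 ∈ Subgroup.normalizer (X.Kt : Set G) :=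
  X.norm_conj X.F.haC CfsgLib.JankoFourHexad.tabR' X.tab.hR'

theorem norm2_b : X.n2⁻¹ * X.F.b * X.n2 ∈ Subgroup.normalizer (X.Kt : Set G) :=
  X.norm_conj X.F.hbC CfsgLib.JankoFourHexad.tabS' X.tab.hS'

theorem norm2_n1 : X.n2⁻¹ * X.n1 * X.n2 ∈ Subgroup.normalizer (X.Kt : Set G) :=
  X.norm_conj X.hn1 CfsgLib.JankoFourHexad.tabN1' X.tab.hN1'

theorem norm2_c : X.n2⁻¹ * X.c * X.n2 ∈ Subgroup.normalizer (X.Kt : Set G) :=
  X.norm_conj X.hc CfsgLib.JankoFourHexad.tabC' X.tab.hC'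

theorem el_conj_F2 (i : ℕ) {e : G} (he : e ∈ X.F2) : X.F.el i * e * (X.F.el i)⁻¹ ∈ X.F2 := by
  refine X.conj_F2 (X.F.el_mem i) ?_ he
  rw [Frame.el, show X.n2⁻¹ * (X.F.a * X.F.p ^ i) * X.n2 = (X.n2⁻¹ * X.F.a * X.n2) * (X.n2⁻¹ * X.F.p ^ i * X.n2) by
    group]
  refine mul_mem X.norm2_a ?_
  rw [show X.n2⁻¹ * X.F.p ^ i * X.n2 = X.n2⁻¹ * (X.F.p ^ i * X.n2) by group,
    ← ((X.F.commute_p X.hn2).pow_right i).eq, inv_mul_cancel_left]
  exact pow_mem X.p_norm i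

theorem z_F1 : S.z ∈ X.F1 := X.mem_F1_iff.2 ⟨S.hE.z_mem, fun i _ => (S.mem_C.1 (X.kl_mem i)).1⟩

theorem z_F2 : S.z ∈ X.F2 := X.mem_F2_iff.2 (by
  rw [mul_assoc, ← ((S.mem_C.1 X.hn2).1).eq, inv_mul_cancel_left]; exact X.z_F1)

theorem F1_le_E : X.F1 ≤ S.E := inf_le_left

theorem F2_le_E : X.F2 ≤ S.E := fun e he => by
  have := S.hE.conj_mem (S.mem_C.1 X.hn2).1 (X.F1_le_E (X.mem_F2_iff.1 he))
  rwa [show X.n2 * (X.n2⁻¹ * e * X.n2) * X.n2⁻¹ = e by group] at this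

/-- The first piece lies in the first fixed space. -/
theorem piece0_le : X.F.fixMod 0 (X.actsV 0) ≤ X.F1 := by
  intro c hc
  refine X.mem_F1_iff.2 ⟨X.F.W_le_E hc.1, fun i hi => ?_⟩
  rcases (show i < 2 ∨ i = 2 ∨ i = 3 by omega) with h | h | h
  · exact X.kl_trivial h (Or.inl hc)
  all_goals
    subst h
    exact X.fix_piece0 (X.kl_mem _) (X.kl_sq _) (X.kl_commute _ 0) (X.kl_commute _ 1) hc

theorem piece0_eq : X.F1 ⊓ X.F.W 0 = X.F.fixMod 0 (X.actsV 0) := by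
  refine le_antisymm (fun e he => ⟨he.2, ?_⟩) (le_inf X.piece0_le (X.F.fixMod_le _))
  have hc : Commute (X.kl 0) e := (X.mem_F1_iff.1 he.1).2 0 (by norm_num)
  change Commute X.F.v e at hc
  rw [delta, hc.eq]
  simp

theorem b_W_iff {i : ℕ} {e : G} : X.F.b * e * X.F.b⁻¹ ∈ X.F.W (i + 1) ↔ e ∈ X.F.W i := by
  refine ⟨fun h => ?_, X.F.b_W⟩
  have := S.conj_fixE (x := X.F.el (i + 1)) ((Frame.commute_z X.F.hbC).inv_left) h
  rwa [show X.F.b⁻¹ * X.F.el (i + 1) * X.F.b⁻¹⁻¹ = X.F.el i by rw [← X.F.b_el i]; group,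
    show X.F.b⁻¹ * (X.F.b * e * X.F.b⁻¹) * X.F.b⁻¹⁻¹ = e by group] at this

theorem b_conj_F1 {e : G} : X.F.b * e * X.F.b⁻¹ ∈ X.F1 ↔ e ∈ X.F1 := by
  refine ⟨fun h => ?_, X.conj_F1 X.F.hbC X.norm_b⟩
  have := X.conj_F1 (inv_mem X.F.hbC) (inv_mem X.norm_b) h
  rwa [show X.F.b⁻¹ * (X.F.b * e * X.F.b⁻¹) * X.F.b⁻¹⁻¹ = e by group] at this

theorem b_conj_F2 {e : G} : X.F.b * e * X.F.b⁻¹ ∈ X.F2 ↔ e ∈ X.F2 := by
  refine ⟨fun h => ?_, X.conj_F2 X.F.hbC X.norm2_b⟩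
  have := X.conj_F2 (inv_mem X.F.hbC)
    (by rw [show X.n2⁻¹ * X.F.b⁻¹ * X.n2 = (X.n2⁻¹ * X.F.b * X.n2)⁻¹ by group]; exact inv_mem X.norm2_b) h
  rwa [show X.F.b⁻¹ * (X.F.b * e * X.F.b⁻¹) * X.F.b⁻¹⁻¹ = e by group] at this

theorem card_slice {M : Subgroup G} (hM : ∀ e, X.F.b * e * X.F.b⁻¹ ∈ M ↔ e ∈ M) (i : ℕ) :
    Nat.card ↥(M ⊓ X.F.W i) = Nat.card ↥(M ⊓ X.F.W 0) := by
  induction i with
  | zero => rfl
  | succ i ih =>
    rw [← ih]
    refine (Nat.card_congr (Equiv.ofBijective (fun e : ↥(M ⊓ X.F.W i) =>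
      (⟨X.F.b * e * X.F.b⁻¹, (hM _).2 e.2.1, X.F.b_W e.2.2⟩ : ↥(M ⊓ X.F.W (i + 1)))) ⟨fun a b h => ?_,
        fun e => ?_⟩)).symm
    · exact Subtype.ext (mul_left_cancel (mul_right_cancel (congrArg Subtype.val h)))
    · have e1 : X.F.b * (X.F.b⁻¹ * e * X.F.b) * X.F.b⁻¹ = (e : G) := by group
      refine ⟨⟨X.F.b⁻¹ * e * X.F.b, (hM _).1 (e1.symm ▸ e.2.1), (X.b_W_iff).1 (e1.symm ▸ e.2.2)⟩, Subtype.ext e1⟩

theorem piece1_eq : X.F1 ⊓ X.F.W 1 = X.F.fixMod 1 (X.actsV 1) := by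
  refine Subgroup.eq_of_le_of_card_ge (fun e he => ⟨he.2, ?_⟩) ?_
  · have hc : Commute (X.kl 0) e := (X.mem_F1_iff.1 he.1).2 0 (by norm_num)
    change Commute X.F.v e at hc
    rw [delta, hc.eq]
    simp
  · rw [X.card_slice (fun e => X.b_conj_F1) 1, X.piece0_eq, X.card_fix_v0, X.card_fix_v1]

theorem piece2_eq : X.F1 ⊓ X.F.W 2 = X.F.fixMod 2 (X.actsW 2) := by
  refine Subgroup.eq_of_le_of_card_ge (fun e he => ⟨he.2, ?_⟩) ?_
  · have hc : Commute (X.kl 1) e := (X.mem_F1_iff.1 he.1).2 1 (by norm_num)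
    change Commute X.F.w e at hc
    rw [delta, hc.eq]
    simp
  · rw [X.card_slice (fun e => X.b_conj_F1) 2, X.piece0_eq, X.card_fix_v0, X.card_fix_w2]

/-- Elements of a group invariant under all `a * p ^ i` decompose inside it. -/
theorem decomp_mem {M : Subgroup G} (hME : M ≤ S.E) (hzM : S.z ∈ M)
    (hinv : ∀ i, ∀ e ∈ M, X.F.el i * e * (X.F.el i)⁻¹ ∈ M) {e : G} (he : e ∈ M) :
    ∃ x ∈ M ⊓ X.F.W 0, ∃ y ∈ M ⊓ X.F.W 1, ∃ t ∈ M ⊓ X.F.W 2, e = x * y * t := by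
  obtain ⟨x, hx, y, hy, t, ht, rfl⟩ := X.F.decomp (hME he)
  have cxy : Commute x y := X.F.commute_W (by decide) hx hy
  have cxt : Commute x t := X.F.commute_W (by decide) hx ht
  have cyt : Commute y t := X.F.commute_W (by decide) hy ht
  have hxM := X.F.component_mem hzM (hinv 0) (by decide) (by decide) (by decide) hx hy ht he
  have hyM := X.F.component_mem hzM (hinv 1) (i := 1) (j := 0) (k := 2) (by decide) (by decide) (by decide) hy hx ht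
    (by rw [← cxy.eq]; exact he)
  have htM := X.F.component_mem hzM (hinv 2) (i := 2) (j := 0) (k := 1) (by decide) (by decide) (by decide) ht hx hy
    (by rw [← cxt.eq, mul_assoc, ← cyt.eq, ← mul_assoc]; exact he)
  exact ⟨x, ⟨hxM, hx⟩, y, ⟨hyM, hy⟩, t, ⟨htM, ht⟩, rfl⟩

/-- The first piece is commutative. -/
theorem piece0_comm {e f : G} (he : e ∈ X.F.fixMod 0 (X.actsV 0)) (hf : f ∈ X.F.fixMod 0 (X.actsV 0)) :
    Commute e f := by
  set h := X.actsV 0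
  have hKW : X.F.fixMod 0 h < X.F.W 0 := lt_of_le_of_ne (X.F.fixMod_le h) fun e => by
    have := X.card_fix_v0
    rw [e, X.F.card_W_all] at this
    omega
  obtain ⟨d, hd, hdK⟩ := SetLike.exists_of_lt hKW
  set c := delta X.F.v d with hc
  have hcK := X.F.delta_fixMod h hd
  have hcz : c ∉ Subgroup.zpowers S.z := fun e' => hdK ⟨hd, e'⟩
  have hall : ∀ d' ∈ X.F.W 0, ∀ k ∈ X.F.fixMod 0 h, Commute k (delta X.F.v d') :=
    fun d' hd' k hk => X.F.commute_fixed_delta h hk hd'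
  have hmain : ∀ {r : G}, f * r⁻¹ ∈ Subgroup.zpowers S.z → Commute e r → Commute e f := fun {r} h1 h2 => by
    have := (Frame.commute_z_zpowers (S := S) (S.hE.commute_z (X.F.W_le_E he.1)) h1).mul_right h2
    rwa [inv_mul_cancel_right] at this
  rcases X.F.fixMod_classes h X.card_fix_v0 hcK hcz hf with e' | e' | e' | e'
  · exact Frame.commute_z_zpowers (S := S) (S.hE.commute_z (X.F.W_le_E he.1)) e'
  · exact hmain e' (hall d hd e he)
  · exact hmain e' (by rw [← X.F.delta_p h]; exact hall _ (X.F.p_conj_W hd) e he)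
  · exact hmain e' (by
      rw [← X.F.delta_p h, ← X.F.delta_p h]; exact hall _ (X.F.p_conj_W (X.F.p_conj_W hd)) e he)

theorem F1_comm {e f : G} (he : e ∈ X.F1) (hf : f ∈ X.F1) : Commute e f := by
  obtain ⟨x, hx, y, hy, t, ht, rfl⟩ := X.decomp_mem X.F1_le_E X.z_F1 (fun i e => X.el_conj_F1 i) he
  obtain ⟨x', hx', y', hy', t', ht', rfl⟩ := X.decomp_mem X.F1_le_E X.z_F1 (fun i e => X.el_conj_F1 i) hf
  have h00 : Commute x x' := X.piece0_comm (X.piece0_eq ▸ hx) (X.piece0_eq ▸ hx')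
  have hstep : ∀ i, (∀ {a b : G}, a ∈ X.F1 ⊓ X.F.W i → b ∈ X.F1 ⊓ X.F.W i → Commute a b) →
      ∀ {a b : G}, a ∈ X.F1 ⊓ X.F.W (i + 1) → b ∈ X.F1 ⊓ X.F.W (i + 1) → Commute a b := by
    intro i ih a b ha hb
    have hpull : ∀ {a : G}, a ∈ X.F1 ⊓ X.F.W (i + 1) → X.F.b⁻¹ * a * X.F.b ∈ X.F1 ⊓ X.F.W i := fun {a} ha => by
      have e1 : X.F.b * (X.F.b⁻¹ * a * X.F.b) * X.F.b⁻¹ = a := by group
      exact ⟨X.b_conj_F1.1 (e1.symm ▸ ha.1), X.b_W_iff.1 (e1.symm ▸ ha.2)⟩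
    have := LargeData.commute_conj_iff' (g := X.F.b).2 (ih (hpull ha) (hpull hb))
    rwa [show X.F.b * (X.F.b⁻¹ * a * X.F.b) * X.F.b⁻¹ = a by group,
      show X.F.b * (X.F.b⁻¹ * b * X.F.b) * X.F.b⁻¹ = b by group] at this
  have h0 : ∀ {a b : G}, a ∈ X.F1 ⊓ X.F.W 0 → b ∈ X.F1 ⊓ X.F.W 0 → Commute a b :=
    fun ha hb => X.piece0_comm (X.piece0_eq ▸ ha) (X.piece0_eq ▸ hb)
  have h1 := @hstep 0 h0
  have h11 : Commute y y' := h1 hy hy'
  have h22 : Commute t t' := @hstep 1 h1 _ _ ht ht'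
  have cW : ∀ {i j : ℕ} {a b : G}, i % 3 ≠ j % 3 → a ∈ X.F.W i → b ∈ X.F.W j → Commute a b :=
    fun h ha hb => X.F.commute_W h ha hb
  have e0 : Commute x (x' * y' * t') :=
    (h00.mul_right (cW (by decide) hx.2 hy'.2)).mul_right (cW (by decide) hx.2 ht'.2)
  have e1 : Commute y (x' * y' * t') :=
    ((cW (by decide) hy.2 hx'.2).mul_right h11).mul_right (cW (by decide) hy.2 ht'.2)
  have e2 : Commute t (x' * y' * t') :=
    ((cW (by decide) ht.2 hx'.2).mul_right (cW (by decide) ht.2 hy'.2)).mul_right h22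
  exact (e0.mul_left e1).mul_left e2

theorem F2_comm {e f : G} (he : e ∈ X.F2) (hf : f ∈ X.F2) : Commute e f := by
  have := LargeData.commute_conj_iff' (g := X.n2).2 (X.F1_comm (X.mem_F2_iff.1 he) (X.mem_F2_iff.1 hf))
  rwa [show X.n2 * (X.n2⁻¹ * e * X.n2) * X.n2⁻¹ = e by group,
    show X.n2 * (X.n2⁻¹ * f * X.n2) * X.n2⁻¹ = f by group] at this

theorem v_delta {e : G} (he : e ∈ S.E) : delta X.F.v e ∈ X.F1 := by
  obtain ⟨x, hx, y, hy, t, ht, rfl⟩ := X.F.decomp he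
  rw [X.F.delta_prod X.actsV hx hy ht, show delta X.F.v t = 1 by rw [delta, (X.hvW t ht).eq]; group, mul_one]
  exact mul_mem (X.piece0_le (X.F.delta_fixMod _ hx))
    ((X.piece1_eq ▸ X.F.delta_fixMod (X.actsV 1) hy : delta X.F.v y ∈ X.F1 ⊓ X.F.W 1).1)

theorem F2_ne_F1 : X.F2 ≠ X.F1 := by
  intro heq
  set u' := X.kl 2 with hu'
  set u := X.n2 * u' * X.n2⁻¹ with hu
  have huC : u ∈ S.C := mul_mem (mul_mem X.hn2 (X.kl_mem 2)) (inv_mem X.hn2)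
  have hd' : ∀ e ∈ S.E, delta u' e ∈ X.F1 := fun e he => by
    have h1 := X.conj_F1 X.hn1 X.norm_n1 (X.v_delta (S.hE.conj_mem (S.mem_C.1 X.hn1).1.inv_left he))
    rwa [show X.n1 * delta X.F.v (X.n1⁻¹ * e * X.n1⁻¹⁻¹) * X.n1⁻¹ = delta u' e by
      show _ = delta (X.n1 * X.F.v * X.n1⁻¹) e
      simp only [delta]; group] at h1
  have hd : ∀ e ∈ S.E, delta u e ∈ X.F1 := fun e he => by
    rw [← heq, X.mem_F2_iff, show X.n2⁻¹ * delta u e * X.n2 = delta u' (X.n2⁻¹ * e * X.n2⁻¹⁻¹) by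
      simp only [hu, delta]; group]
    exact hd' _ (S.hE.conj_mem (S.mem_C.1 X.hn2).1.inv_left he)
  have hv : ∀ e ∈ X.F1, X.F.v * e * X.F.v⁻¹ = e := fun e he => by
    have hc : Commute (X.kl 0) e := (X.mem_F1_iff.1 he).2 0 (by norm_num)
    exact mul_inv_eq_iff_eq_mul.2 hc.eq
  have hu2 : ∀ e ∈ X.F1, u * e * u⁻¹ = e := fun e he => by
    have h' := (X.mem_F1_iff.1 (X.mem_F2_iff.1 (heq.symm ▸ he : e ∈ X.F2))).2 2 (by norm_num)
    calc u * e * u⁻¹ = X.n2 * (u' * (X.n2⁻¹ * e * X.n2) * u'⁻¹) * X.n2⁻¹ := by rw [hu]; group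
      _ = e := by rw [hu', h'.eq]; group
  have hcent : (X.F.v * u)⁻¹ * (u * X.F.v) ∈ Subgroup.centralizer (S.E : Set G) := by
    refine Subgroup.mem_centralizer_iff.2 fun e he => ?_
    have e1 : (u * X.F.v) * e * (u * X.F.v)⁻¹ = (X.F.v * u) * e * (X.F.v * u)⁻¹ := by
      calc (u * X.F.v) * e * (u * X.F.v)⁻¹ = (u * delta X.F.v e * u⁻¹) * (delta u e * e) := by
            simp only [delta]; group
        _ = delta X.F.v e * delta u e * e := by rw [hu2 _ (X.v_delta he), mul_assoc]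
        _ = delta u e * delta X.F.v e * e := by rw [(X.F1_comm (X.v_delta he) (hd e he)).eq]
        _ = (X.F.v * delta u e * X.F.v⁻¹) * (delta X.F.v e * e) := by rw [hv _ (hd e he), mul_assoc]
        _ = _ := by simp only [delta]; group
    calc e * ((X.F.v * u)⁻¹ * (u * X.F.v))
        = (X.F.v * u)⁻¹ * ((X.F.v * u) * e * (X.F.v * u)⁻¹) * (u * X.F.v) := by group
      _ = (X.F.v * u)⁻¹ * ((u * X.F.v) * e * (u * X.F.v)⁻¹) * (u * X.F.v) := by rw [e1]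
      _ = _ := by group
  rw [S.hE.hcent] at hcent
  have hC1 := mul_mem X.F.hvC huC
  have hC2 := mul_mem huC X.F.hvC
  have h1 : S.f ((X.F.v * u)⁻¹ * (u * X.F.v)) = 1 :=
    (S.f_eq_one_iff (S.C_le_H0 (mul_mem (inv_mem hC1) hC2))).2
      (Subgroup.mem_sup_left (S.mem_E_of_zpowers hcent))
  rw [S.f_mul_C (inv_mem hC1) hC2, S.f_inv_C hC1, S.f_mul_C X.F.hvC huC, S.f_mul_C huC X.F.hvC, hu,
    S.f_conj_C X.hn2 (X.kl_mem 2), X.f_kl, inv_mul_eq_one] at h1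
  exact X.hex.other h1

theorem piece_meet : X.F1 ⊓ X.F2 ⊓ X.F.W 0 ≤ Subgroup.zpowers S.z := by
  have hcases : ¬ X.F1 ⊓ X.F.W 0 ≤ X.F2 := fun hle => by
    refine X.F2_ne_F1 (Subgroup.eq_of_le_of_card_ge ?_ ?_).symm
    · intro e he
      obtain ⟨x, hx, y, hy, t, ht, rfl⟩ := X.decomp_mem X.F1_le_E X.z_F1 (fun i e => X.el_conj_F1 i) he
      have hi : ∀ i, X.F1 ⊓ X.F.W i ≤ X.F2 := by
        intro i
        induction i with
        | zero => exact hle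
        | succ i ih =>
          intro a ha
          have e1 : X.F.b * (X.F.b⁻¹ * a * X.F.b) * X.F.b⁻¹ = a := by group
          have := X.b_conj_F2.2 (ih ⟨X.b_conj_F1.1 (e1.symm ▸ ha.1), X.b_W_iff.1 (e1.symm ▸ ha.2)⟩)
          rwa [e1] at this
      exact mul_mem (mul_mem (hi 0 hx) (hi 1 hy)) (hi 2 ht)
    · rw [F2, Subgroup.card_map_of_injective (MulAut.conj X.n2).injective]
  intro e he
  by_contra hez
  refine hcases ?_
  set M := X.F1 ⊓ X.F2 ⊓ X.F.W 0 with hM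
  have hMle : M ≤ X.F.fixMod 0 (X.actsV 0) := fun a ha => X.piece0_eq ▸ (⟨ha.1.1, ha.2⟩ : a ∈ X.F1 ⊓ X.F.W 0)
  have hzM : S.z ∈ M := ⟨⟨X.z_F1, X.z_F2⟩, X.F.z_mem 0⟩
  have h4 := X.F.card_ne_four (M := M) (fun a ha => X.F.W_le_E ha.2) hzM fun a ha =>
    ⟨⟨X.conj_F1 X.F.hpC X.p_norm ha.1.1, X.conj_F2 X.F.hpC X.p_norm2 ha.1.2⟩, X.F.p_conj_W ha.2⟩
  have hdvd := Subgroup.card_dvd_of_le hMle
  rw [X.card_fix_v0] at hdvd
  have hmem : Nat.card M ∈ Nat.divisors 8 := Nat.mem_divisors.2 ⟨hdvd, by norm_num⟩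
  rw [show Nat.divisors 8 = {1, 2, 4, 8} by decide] at hmem
  simp only [Finset.mem_insert, Finset.mem_singleton] at hmem
  have hgt : 2 < Nat.card M := by
    have hlt : Subgroup.zpowers S.z < M := lt_of_le_of_ne (Subgroup.zpowers_le.2 hzM) fun e' => hez (e' ▸ he)
    by_contra hc
    refine hlt.ne (Subgroup.eq_of_le_of_card_ge hlt.le ?_)
    rw [Nat.card_zpowers, S.hE.hz]; omega
  intro a ha
  have hMeq : M = X.F.fixMod 0 (X.actsV 0) := Subgroup.eq_of_le_of_card_ge hMle (by rw [X.card_fix_v0]; omega)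
  exact (hMeq ▸ (X.piece0_eq ▸ ha) : a ∈ M).1.2

theorem exists_second : ∃ e ∈ X.F2, e ∈ X.F.W 0 ∧ e ∉ Subgroup.zpowers S.z := by
  by_contra h
  simp only [not_exists, not_and, not_not] at h
  have hi : ∀ i, ∀ e ∈ X.F2 ⊓ X.F.W i, e ∈ Subgroup.zpowers S.z := by
    intro i
    induction i with
    | zero => exact fun e he => h e he.1 he.2
    | succ i ih =>
      intro a ha
      have e1 : X.F.b * (X.F.b⁻¹ * a * X.F.b) * X.F.b⁻¹ = a := by group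
      have hm := ih _ ⟨X.b_conj_F2.1 (e1.symm ▸ ha.1), X.b_W_iff.1 (e1.symm ▸ ha.2)⟩
      rw [← e1, (Frame.commute_z_zpowers (S := S) (Frame.commute_z X.F.hbC) hm).eq, mul_inv_cancel_right]
      exact hm
  have hle : X.F2 ≤ Subgroup.zpowers S.z := fun e he => by
    obtain ⟨x, hx, y, hy, t, ht, rfl⟩ := X.decomp_mem X.F2_le_E X.z_F2 (fun i e => X.el_conj_F2 i) he
    exact mul_mem (mul_mem (hi 0 x hx) (hi 1 y hy)) (hi 2 t ht)
  have h1 := Subgroup.card_le_of_le hle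
  rw [F2, Subgroup.card_map_of_injective (MulAut.conj X.n2).injective, Nat.card_zpowers, S.hE.hz] at h1
  have h2 := Subgroup.card_le_of_le X.piece0_le
  rw [X.card_fix_v0] at h2
  omega

/-- The two base elements. -/
theorem exists_base : ∃ c0 d0 : G, c0 ∈ X.F1 ∧ c0 ∈ X.F.W 0 ∧ d0 ∈ X.F2 ∧ d0 ∈ X.F.W 0 ∧
    c0 * c0 = 1 ∧ d0 * d0 = 1 ∧
    c0 * (X.F.p * c0 * X.F.p⁻¹) * (X.F.p * (X.F.p * c0 * X.F.p⁻¹) * X.F.p⁻¹) = 1 ∧
    d0 * (X.F.p * d0 * X.F.p⁻¹) * (X.F.p * (X.F.p * d0 * X.F.p⁻¹) * X.F.p⁻¹) = 1 ∧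
    Commute c0 d0 ∧ ¬ Commute (X.F.p * c0 * X.F.p⁻¹) d0 ∧
    X.F.v * d0 * X.F.v⁻¹ = c0 * d0 * S.z := by
  obtain ⟨e, he2, heW, hez⟩ := X.exists_second
  set h := X.actsV 0
  have heK : e ∉ X.F.fixMod 0 h := fun hK => hez (X.piece_meet ⟨⟨X.piece0_le hK, he2⟩, heW⟩)
  set de := delta X.F.v e with hde
  have hdeK : de ∈ X.F.fixMod 0 h := X.F.delta_fixMod h heW
  have hdez : de ∉ Subgroup.zpowers S.z := fun h' => heK ⟨heW, h'⟩
  set c0 := X.F.p * de * X.F.p⁻¹ * de⁻¹ with hc0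
  set d0 := X.F.p * e * X.F.p⁻¹ * e⁻¹ with hd0
  have hc0K : c0 ∈ X.F.fixMod 0 h := mul_mem (X.F.p_fixMod h hdeK) (inv_mem hdeK)
  have hc0z : c0 ∉ Subgroup.zpowers S.z := fun h' => hdez (X.F.p_fixed (X.F.W_le_E hdeK.1) h')
  have hd02 : d0 ∈ X.F2 := mul_mem (X.conj_F2 X.F.hpC X.p_norm2 he2) (inv_mem he2)
  have hd0W : d0 ∈ X.F.W 0 := mul_mem (X.F.p_conj_W heW) (inv_mem heW)
  have hd0z : d0 ∉ Subgroup.zpowers S.z := fun h' => hez (X.F.p_fixed (X.F.W_le_E heW) h')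
  have hd0K : d0 ∉ X.F.fixMod 0 h := fun hK => hd0z (X.piece_meet ⟨⟨X.piece0_le hK, hd02⟩, hd0W⟩)
  obtain ⟨hcprod, hcsq⟩ := X.F.p_commutator (X.F.W_le_E hdeK.1) fun a b ha hb => X.piece0_comm
    (by rcases ha with rfl | rfl <;> [exact hdeK; exact X.F.p_fixMod h hdeK])
    (by rcases hb with rfl | rfl <;> [exact hdeK; exact X.F.p_fixMod h hdeK])
  obtain ⟨hdprod, hdsq⟩ := X.F.p_commutator (X.F.W_le_E heW) fun a b ha hb => X.F2_comm
    (by rcases ha with rfl | rfl <;> [exact he2; exact X.conj_F2 X.F.hpC X.p_norm2 he2])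
    (by rcases hb with rfl | rfl <;> [exact he2; exact X.conj_F2 X.F.hpC X.p_norm2 he2])
  -- the image of `d0`
  have himg : X.F.v * d0 * X.F.v⁻¹ = X.F.p * de * X.F.p⁻¹ * d0 * de⁻¹ := by
    have h1 : X.F.v * X.F.p = X.F.p * X.F.v := (X.F.commute_p X.F.hvC).eq
    calc X.F.v * d0 * X.F.v⁻¹ = (X.F.v * X.F.p) * e * (X.F.v * X.F.p)⁻¹ * (X.F.v * e * X.F.v⁻¹)⁻¹ := by
          rw [hd0]; group
      _ = _ := by rw [h1, hd0, hde, delta]; group
  have hdeE : de ∈ S.E := X.F.W_le_E hdeK.1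
  have hd0E : d0 ∈ S.E := X.F.W_le_E hd0W
  have hor : X.F.v * d0 * X.F.v⁻¹ = c0 * d0 ∨ X.F.v * d0 * X.F.v⁻¹ = c0 * d0 * S.z := by
    rw [himg]
    rcases S.hE.conj_eq_or hd0E (inv_mem hdeE) with e' | e'
    · left
      calc X.F.p * de * X.F.p⁻¹ * d0 * de⁻¹ = X.F.p * de * X.F.p⁻¹ * (d0 * de⁻¹ * d0⁻¹) * d0 := by group
        _ = _ := by rw [e', hc0]
    · right
      calc X.F.p * de * X.F.p⁻¹ * d0 * de⁻¹ = X.F.p * de * X.F.p⁻¹ * (d0 * de⁻¹ * d0⁻¹) * d0 := by group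
        _ = X.F.p * de * X.F.p⁻¹ * (de⁻¹ * S.z) * d0 := by
          rw [e', ← (S.hE.commute_z (inv_mem hdeE)).eq]
        _ = X.F.p * de * X.F.p⁻¹ * de⁻¹ * (S.z * d0) := by group
        _ = _ := by rw [← (S.hE.commute_z hd0E).eq, hc0]; group
  have hcd : Commute c0 d0 := by
    have h1 : Commute d0 (delta X.F.v d0) := X.F.commute_delta h hd0W
    rcases hor with e' | e'
    · rw [delta, e', mul_inv_cancel_right] at h1
      exact h1.symm
    · rw [delta, e', show c0 * d0 * S.z * d0⁻¹ = c0 * (d0 * S.z) * d0⁻¹ by group, (S.hE.commute_z hd0E).eq,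
        show c0 * (S.z * d0) * d0⁻¹ = c0 * S.z by group] at h1
      have := h1.mul_right ((S.hE.commute_z hd0E).inv_right)
      rw [mul_inv_cancel_right] at this
      exact this.symm
  have hncd : ¬ Commute (X.F.p * c0 * X.F.p⁻¹) d0 := by
    intro hbad
    have hall : ∀ k ∈ X.F.fixMod 0 h, Commute k d0 := by
      intro k hk
      have hd0c : ∀ w ∈ Subgroup.zpowers S.z, Commute w d0 := fun w hw =>
        (Frame.commute_z_zpowers (S := S) (S.hE.commute_z hd0E) hw).symm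
      have hmain : ∀ {r : G}, k * r⁻¹ ∈ Subgroup.zpowers S.z → Commute r d0 → Commute k d0 := fun {r} h1 h2 => by
        have := (hd0c _ h1).mul_left h2
        rwa [inv_mul_cancel_right] at this
      rcases X.F.fixMod_classes h X.card_fix_v0 hc0K hc0z hk with e' | e' | e' | e'
      · exact hd0c k e'
      · exact hmain e' hcd
      · exact hmain e' hbad
      · refine hmain e' ?_
        have h12 := (hcd.mul_left hbad).inv_left
        rwa [inv_eq_of_mul_eq_one_right hcprod] at h12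
    set M := X.F.W 0 ⊓ Subgroup.centralizer ({d0} : Set G) with hM
    have hKM : X.F.fixMod 0 h ≤ M := fun k hk => ⟨hk.1, mem_centralizer_singleton_iff'.2 (hall k hk).eq⟩
    have hDM : X.F2 ⊓ X.F.W 0 ≤ M := fun a ha => ⟨ha.2, mem_centralizer_singleton_iff'.2 (X.F2_comm ha.1 hd02).eq⟩
    have hMW : M = X.F.W 0 := by
      refine Subgroup.eq_of_le_of_card_ge inf_le_left ?_
      set d1 := X.F.p * d0 * X.F.p⁻¹ with hd1
      have hd1M : d1 ∈ M := hDM ⟨X.conj_F2 X.F.hpC X.p_norm2 hd02, X.F.p_conj_W hd0W⟩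
      have hd0M : d0 ∈ M := hDM ⟨hd02, hd0W⟩
      have hout : ∀ a ∈ X.F2 ⊓ X.F.W 0, a ∉ Subgroup.zpowers S.z → a ∉ X.F.fixMod 0 h := fun a ha haz hK =>
        haz (X.piece_meet ⟨⟨X.piece0_le hK, ha.1⟩, ha.2⟩)
      have hd1z : d1 ∉ Subgroup.zpowers S.z := fun h' => hd0z (by
        have hc := (Frame.commute_z_zpowers (S := S) (Frame.commute_z X.F.hpC).inv_left h').eq
        rwa [show d0 = X.F.p⁻¹ * d1 * X.F.p by rw [hd1]; group, hc, inv_mul_cancel_right])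
      have hdd : d1 * d0⁻¹ ∉ Subgroup.zpowers S.z := fun h' => hd0z (X.F.p_fixed hd0E h')
      have hd1F : d1 ∈ X.F2 ⊓ X.F.W 0 := ⟨X.conj_F2 X.F.hpC X.p_norm2 hd02, X.F.p_conj_W hd0W⟩
      let r : Fin 3 → G := fun j => [1, d0, d1].getD j.1 1
      have hrM : ∀ j, r j ∈ M := by intro j; fin_cases j; exacts [one_mem _, hd0M, hd1M]
      let q : Fin 3 × ↥(X.F.fixMod 0 h) → ↥M := fun jk =>
        ⟨(jk.2 : G) * r jk.1, mul_mem (hKM jk.2.2) (hrM jk.1)⟩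
      have hq : Function.Injective q := by
        rintro ⟨a, k⟩ ⟨b, l⟩ e'
        have e1 : (k : G) * r a = (l : G) * r b := congrArg Subtype.val e'
        have hab : r a * (r b)⁻¹ ∈ X.F.fixMod 0 h := by
          rw [show r a * (r b)⁻¹ = (k : G)⁻¹ * ((k : G) * r a) * (r b)⁻¹ by group, e1,
            show (k : G)⁻¹ * ((l : G) * r b) * (r b)⁻¹ = (k : G)⁻¹ * l by group]
          exact mul_mem (inv_mem k.2) l.2
        have hba := inv_mem hab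
        rw [mul_inv_rev, inv_inv] at hba
        have h10 := hout _ ⟨(mul_mem hd1F.1 (inv_mem hd02) : d1 * d0⁻¹ ∈ X.F2),
          (mul_mem hd1F.2 (inv_mem hd0W) : d1 * d0⁻¹ ∈ X.F.W 0)⟩ hdd
        have h0 := hout _ ⟨hd02, hd0W⟩ hd0z
        have h1' := hout _ hd1F hd1z
        obtain rfl : a = b := by
          fin_cases a <;> fin_cases b <;> simp [r] at hab hba ⊢
          all_goals first
            | exact h0 hab | exact h0 hba | exact h1' hab | exact h1' hba | exact h10 hab | exact h10 hba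
        exact Prod.ext rfl (Subtype.ext (mul_right_cancel e1))
      have h24 := Nat.card_le_card_of_injective q hq
      rw [Nat.card_prod, X.card_fix_v0, Nat.card_fin] at h24
      have hdv := Subgroup.card_dvd_of_le (inf_le_left : M ≤ X.F.W 0)
      rw [X.F.card_W_all] at hdv ⊢
      have hmem : Nat.card M ∈ Nat.divisors 32 := Nat.mem_divisors.2 ⟨hdv, by norm_num⟩
      rw [show Nat.divisors 32 = {1, 2, 4, 8, 16, 32} by decide] at hmem
      simp only [Finset.mem_insert, Finset.mem_singleton] at hmem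
      omega
    refine hd0z (X.F.center_W 0 hd0W fun x hx => ?_)
    exact mem_centralizer_singleton_iff'.1 (hMW.symm ▸ hx : x ∈ M).2
  -- the sign
  refine ⟨c0, d0, X.piece0_le hc0K, hc0K.1, hd02, hd0W, hcsq, hdsq, hcprod, hdprod, hcd, hncd,
    hor.resolve_left fun hgood => ?_⟩
  set c1 := X.F.p * c0 * X.F.p⁻¹ with hc1
  set c2 := X.F.p * c1 * X.F.p⁻¹ with hc2
  set d1 := X.F.p * d0 * X.F.p⁻¹ with hd1
  set d2 := X.F.p * d1 * X.F.p⁻¹ with hd2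
  have hconj : ∀ {x y : G}, X.F.v * x * X.F.v⁻¹ = y →
      X.F.v * (X.F.p * x * X.F.p⁻¹) * X.F.v⁻¹ = X.F.p * y * X.F.p⁻¹ := fun {x y} e' => by
    rw [← e', show X.F.v * (X.F.p * x * X.F.p⁻¹) * X.F.v⁻¹ = (X.F.v * X.F.p) * x * (X.F.v * X.F.p)⁻¹ by group,
      (X.F.commute_p X.F.hvC).eq]
    group
  have g1 : X.F.v * d1 * X.F.v⁻¹ = c1 * d1 := by
    rw [hconj hgood, hc1, hd1]; group
  have g2 : X.F.v * d2 * X.F.v⁻¹ = c2 * d2 := by
    rw [hconj g1, hc2, hd2]; group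
  have hprodv : c0 * d0 * (c1 * d1) * (c2 * d2) = 1 := by
    rw [← hgood, ← g1, ← g2, show X.F.v * d0 * X.F.v⁻¹ * (X.F.v * d1 * X.F.v⁻¹) * (X.F.v * d2 * X.F.v⁻¹) =
      X.F.v * (d0 * d1 * d2) * X.F.v⁻¹ by group, hdprod, mul_one, mul_inv_cancel]
  have hc2d : Commute c2 d2 := LargeData.commute_conj_iff'.2 (LargeData.commute_conj_iff'.2 hcd)
  have hc2' : (c0 * c1)⁻¹ = c2 := inv_eq_of_mul_eq_one_right hcprod
  have hd2' : (d0 * d1)⁻¹ = d2 := inv_eq_of_mul_eq_one_right hdprod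
  have key : c0 * d0 * (c1 * d1) = c0 * c1 * (d0 * d1) := by
    rw [eq_inv_of_mul_eq_one_left hprodv, mul_inv_rev, (hc2d.inv_inv).symm.eq, ← hc2', ← hd2', inv_inv, inv_inv]
  refine hncd (show Commute c1 d0 from ?_)
  exact (mul_left_cancel (mul_right_cancel (
    show c0 * (d0 * c1) * d1 = c0 * (c1 * d0) * d1 by
      rw [show c0 * (d0 * c1) * d1 = c0 * d0 * (c1 * d1) by group, key]; group))).symm

end HexFrame

end CfsgLib.JankoFour
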