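import Cfsg.Agent.Lib.JankoFourHexad.VChecks

/-!
# Pinning down the monomial map of `c` (owner: helper28)
-/

set_option autoImplicit false
set_option maxRecDepth 100000

namespace CfsgLib.JankoFourHexad

/-- The table of `c` on sums. -/
def tcK (k : ℕ) : ℕ := xfold tC k 4

/-- The part in the first fixed space of a commutator with a lift. -/
def phiU (k w : ℕ) : ℕ := Nat.shiftRight (phiS k w) 1

/-- The two lifts whose images contain a basis line, and the translations reaching it. -/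
def linePair (i : ℕ) : ℕ × ℕ × ℕ := [(1, 3, 1), (1, 2, 4), (2, 3, 16)].getD i (0, 0, 0)

/-- The map with prescribed monomial scalars. -/
def mMono (x y t u : ℕ) : ℕ := Nat.xor (sm (fm (co u 0) (pw x)) 21)
  (Nat.xor (sm (fm (co u 1) (pw y)) 16) (sm (fm (co u 2) (pw t)) 4))

theorem phiU_lt : ∀ k : Fin 16, ∀ w : Fin 64, phiU k.1 w.1 < 64 := by decide +kernel

theorem linePair_ok : ∀ i : Fin 3,
    phiU (linePair i.1).1 (linePair i.1).2.2 = 2 ^ (2 * i.1) ∧ phiU (linePair i.1).2.1 (linePair i.1).2.2 = 2 ^ (2 * i.1) ∧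
    (linePair i.1).1 < 16 ∧ (linePair i.1).2.1 < 16 ∧ (linePair i.1).2.2 < 64 := by decide +kernel

theorem line_cands : ∀ i : Fin 3, ∀ y : Fin 64,
    (∃ w : Fin 64, phiU (tcK (linePair i.1).1) w.1 = y.1) →
    (∃ w : Fin 64, phiU (tcK (linePair i.1).2.1) w.1 = y.1) → y.1 = 0 ∨
    ∃ x : Fin 3, y.1 = sm (pw x.1) (mC (2 ^ (2 * i.1))) := by decide +kernel

theorem scalar_eq : ∀ x y t : Fin 3,
    (∃ w : Fin 64, phiU (tcK 4) w.1 = mMono x.1 y.1 t.1 21) →
    (∃ w : Fin 64, phiU (tcK 9) w.1 = mMono x.1 y.1 t.1 21) → x = y ∧ y = t := by decide +kernel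

theorem scalar_wit : phiU 4 14 = 21 ∧ phiU 9 1 = 21 := by decide +kernel

theorem linOK_mono : ∀ x y t : Fin 3, linOK (mMono x.1 y.1 t.1) := by unfold linOK; decide +kernel

theorem mono_basis : ∀ x y t : Fin 3, ∀ j : Fin 6, mMono x.1 y.1 t.1 (2 ^ j.1) =
    (if j.1 % 2 = 0 then id else mP)
      (sm (pw ([x.1, y.1, t.1].getD (j.1 / 2) 0)) (mC (2 ^ (2 * (j.1 / 2))))) := by decide +kernel

theorem mono_undo : ∀ x : Fin 3, ∀ u : Fin 64, mPow (2 * x.1) (mMono x.1 x.1 x.1 u.1) = mC u.1 := by decide +kernel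

theorem tc_img : ∀ δ : Fin 16, ∀ k : Fin 16,
    xfold (fun i => Nat.lor (if Nat.testBit δ.1 i then 1 else 0) (Nat.shiftLeft (tC i) 7)) k.1 4 =
      Nat.xor (xfold (fun i => if Nat.testBit δ.1 i then 1 else 0) k.1 4) (Nat.shiftLeft (tcK k.1) 7) ∧
    xfold (fun i => if Nat.testBit δ.1 i then 1 else 0) k.1 4 < 2 ∧ tcK k.1 < 16 := by decide +kernel

theorem lor_bit : ∀ b : Fin 16, ∀ d : Bool, Nat.lor (if d then 1 else 0) (Nat.shiftLeft b.1 7) =
    Nat.xor (if d then 1 else 0) (Nat.shiftLeft b.1 7) := by decide +kernel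

end CfsgLib.JankoFourHexad
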