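import Cfsg.Agent.Lib.JankoFourHexad.V0
import Cfsg.Agent.Lib.JankoFourHexad.CChecks

/-!
# The action of `c` (owner: helper28)
-/

set_option autoImplicit false
set_option linter.unusedSectionVars false

namespace CfsgLib.JankoFour

open Cfsg CfsgLib.ThreeTrans
open CfsgLib.JankoFourHexad

variable {G : Type*} [Group G] [Finite G]

namespace HexBase

variable {S : Setting G} (B : HexBase S)

theorem f_p : S.f B.X.F.p = 1 :=
  (S.f_eq_one_iff (S.C_le_H0 B.X.F.hpC)).2 (Subgroup.mem_sup_right B.X.F.hpP)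

/-- The signs of `c` on the lifts. -/
theorem exists_signs : ∃ δ : Fin 16, ∀ i < 4,
    B.X.c * B.X.kl i * B.X.c⁻¹ = B.vel (if δ.1.testBit i then 1 else 0) * prod4 B.X.kl (tC i) := by
  classical
  have h : ∀ i < 4, B.X.c * B.X.kl i * B.X.c⁻¹ = prod4 B.X.kl (tC i) ∨
      B.X.c * B.X.kl i * B.X.c⁻¹ = prod4 B.X.kl (tC i) * S.z := fun i hi => by
    have h4 : ∀ {x : G}, x * x = 1 → x ^ 4 = 1 := fun {x} hx => by
      rw [show (4 : ℕ) = 2 * 2 from rfl, pow_mul, pow_two x, hx, one_pow]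
    have hc := B.X.hc
    have hkC : prod4 B.X.kl (tC i) ∈ S.C := HexFrame.prod4_mem (fun j _ => B.X.kl_mem j) _
    refine S.lift_eq hkC (mul_mem (mul_mem hc (B.X.kl_mem i)) (inv_mem hc)) (h4 (B.X.prod4_sq _))
      (h4 (by rw [conj_mul, B.X.kl_sq, mul_one, mul_inv_cancel])) ?_
    rw [S.f_conj_C hc (B.X.kl_mem i), B.X.f_kl, B.X.tab.hC i hi, B.X.f_prod4]
    rfl
  let d : ℕ → Bool := fun i => if B.X.c * B.X.kl i * B.X.c⁻¹ = prod4 B.X.kl (tC i) then false else true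
  have hd : ∀ b0 b1 b2 b3 : Bool, ∃ δ : Fin 16, δ.1.testBit 0 = b0 ∧ δ.1.testBit 1 = b1 ∧ δ.1.testBit 2 = b2 ∧
      δ.1.testBit 3 = b3 := by decide +kernel
  obtain ⟨δ, e0, e1, e2, e3⟩ := hd (d 0) (d 1) (d 2) (d 3)
  refine ⟨δ, fun i hi => ?_⟩
  have hb : δ.1.testBit i = d i := by interval_cases i <;> assumption
  rw [hb]
  rcases h i hi with e | e
  · rw [show d i = false from if_pos e, if_neg Bool.false_ne_true, vel_zero, one_mul, e]
  · have hne : B.X.c * B.X.kl i * B.X.c⁻¹ ≠ prod4 B.X.kl (tC i) := fun e' => by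
      rw [e'] at e; exact S.hE.z_ne_one (mul_eq_left.1 e.symm)
    rw [show d i = true from if_neg hne, if_pos rfl, vel_one, e,
      (Frame.commute_z (HexFrame.prod4_mem (fun j _ => B.X.kl_mem j) _)).eq]

theorem U_conj_mem {u : ℕ} : B.X.c * B.U u * B.X.c⁻¹ ∈ B.X.F1 := B.X.conj_F1 B.X.hc B.X.norm_c (B.U_mem u)

/-- The commutator images are respected. -/
theorem c_image {δ : Fin 16} (hδ : ∀ i < 4,
    B.X.c * B.X.kl i * B.X.c⁻¹ = B.vel (if δ.1.testBit i then 1 else 0) * prod4 B.X.kl (tC i))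
    {k w : ℕ} (hk : k < 16) (hw : w < 64) {y : ℕ} (hy : y < 64)
    (he : B.X.c * B.U (phiU k w) * B.X.c⁻¹ = B.U y) : ∃ w' : Fin 64, phiU (tcK k) w'.1 = y := by
  have hcz : ∀ {x c : G}, x ∈ S.E → c ∈ Subgroup.zpowers S.z → Commute x c := fun hx hc =>
    Frame.commute_z_zpowers (S := S) (S.hE.commute_z hx) hc
  obtain ⟨hi1, hi2, hk'⟩ := tc_img δ ⟨k, hk⟩
  dsimp only at hi1 hi2 hk'
  set ε := xfold (fun i => if δ.1.testBit i then 1 else 0) k 4 with hε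
  have hvε : B.vel ε ∈ Subgroup.zpowers S.z := by
    rcases (show ε = 0 ∨ ε = 1 by omega) with e | e <;> rw [e]
    · rw [vel_zero]; exact one_mem _
    · rw [vel_one]; exact Subgroup.mem_zpowers _
  have hcK : B.X.c * prod4 B.X.kl k * B.X.c⁻¹ = B.vel ε * prod4 B.X.kl (tcK k) := by
    rw [← B.gprod_kl, show B.X.c * gprod B.X.kl k 4 * B.X.c⁻¹ = gprod (fun i => B.X.c * B.X.kl i * B.X.c⁻¹) k 4 from
      gprod_map (MulAut.conj B.X.c).toMonoidHom B.X.kl k 4,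
      gprod_congr (f' := fun i => B.vel (Nat.lor (if δ.1.testBit i then 1 else 0) (Nat.shiftLeft (tC i) 7)))
        fun i hi => ?_, gprod_hom B.vel_zero B.vel_xor, hi1, ← B.vel_xor, B.vel_K hk', B.gprod_kl]
    have ht : tC i < 16 := by interval_cases i <;> decide
    rw [hδ i hi, ← B.gprod_kl, ← B.vel_K ht, B.vel_xor, lor_bit ⟨tC i, ht⟩]
  obtain ⟨hkU, hkW⟩ := B.moves_prod4 ⟨k, hk⟩
  obtain ⟨d, hd, ed⟩ := hkW w hw
  change prod4 B.X.kl k * B.W w * (prod4 B.X.kl k)⁻¹ = d * B.U (phiU k w) * B.W w at ed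
  obtain ⟨hkU', hkW'⟩ := B.moves_prod4 ⟨tcK k, hk'⟩
  set x := B.X.c * B.W w * B.X.c⁻¹
  have hxE : x ∈ S.E := S.hE.conj_mem (Frame.commute_z B.X.hc) (B.X.F2_le_E (B.W_mem w))
  obtain ⟨n, hn, hn'⟩ := B.el_surjective hxE
  obtain ⟨d', hd', ed'⟩ := hkW' (eW n) (eW_lt hn)
  refine ⟨⟨eW n, eW_lt hn⟩, ?_⟩
  set t := prod4 B.X.kl (tcK k)
  have hdc : B.X.c * d * B.X.c⁻¹ = d := by
    rw [(Frame.commute_z_zpowers (S := S) (Frame.commute_z B.X.hc) hd).eq, mul_inv_cancel_right]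
  -- two computations of the conjugate of `x`
  have e1 : t * x * t⁻¹ = d * B.U y * x := by
    have hL : B.X.c * (prod4 B.X.kl k * B.W w * (prod4 B.X.kl k)⁻¹) * B.X.c⁻¹ = d * B.U y * x := by
      rw [ed, show B.X.c * (d * B.U (phiU k w) * B.W w) * B.X.c⁻¹ =
        (B.X.c * d * B.X.c⁻¹) * (B.X.c * B.U (phiU k w) * B.X.c⁻¹) * x by simp only [x]; group, hdc, he]
    rw [← hL, show B.X.c * (prod4 B.X.kl k * B.W w * (prod4 B.X.kl k)⁻¹) * B.X.c⁻¹ =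
      (B.X.c * prod4 B.X.kl k * B.X.c⁻¹) * x * (B.X.c * prod4 B.X.kl k * B.X.c⁻¹)⁻¹ by simp only [x]; group, hcK,
      show B.vel ε * t * x * (B.vel ε * t)⁻¹ = B.vel ε * (t * x * t⁻¹) * (B.vel ε)⁻¹ by group,
      (hcz (S.hE.conj_mem (Frame.commute_z (HexFrame.prod4_mem (fun j _ => B.X.kl_mem j) _)) hxE) hvε).eq.symm,
      mul_inv_cancel_right]
  have htz : t * zpar S.z n * t⁻¹ = zpar S.z n := by
    rw [← (zpar_commute (Frame.commute_z (HexFrame.prod4_mem (fun j _ => B.X.kl_mem j) _)).symm n).eq,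
      mul_inv_cancel_right]
  have e2 : t * x * t⁻¹ = d' * B.U (phiU (tcK k) (eW n)) * x := by
    have hd'E : d' * B.U (phiU (tcK k) (eW n)) ∈ S.E :=
      mul_mem (S.mem_E_of_zpowers hd') (B.X.F1_le_E (B.U_mem _))
    have hb : Commute (zpar S.z n * B.U (eU n)) (d' * B.U (phiU (tcK k) (eW n))) :=
      (z_comm hd'E n).mul_left
        ((hcz (B.X.F1_le_E (B.U_mem _)) hd').mul_right (B.X.F1_comm (B.U_mem _) (B.U_mem _)))
    rw [← hn', el_zW]
    calc t * (zpar S.z n * B.U (eU n) * B.W (eW n)) * t⁻¹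
        = (t * zpar S.z n * t⁻¹) * (t * B.U (eU n) * t⁻¹) * (t * B.W (eW n) * t⁻¹) := by group
      _ = (zpar S.z n * B.U (eU n)) * (d' * B.U (phiU (tcK k) (eW n))) * B.W (eW n) := by
          rw [htz, hkU', ed']; simp only [phiU]; group
      _ = _ := by rw [hb.eq]; group
  rw [e1, mul_left_inj] at e2
  have hφ : phiU (tcK k) (eW n) < 64 := phiU_lt ⟨_, hk'⟩ ⟨_, eW_lt hn⟩
  have h3 : B.U (Nat.xor (phiU (tcK k) (eW n)) y) * B.W 0 = d'⁻¹ * d := by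
    rw [W_zero, mul_one, ← B.U_xor, show d = d' * B.U (phiU (tcK k) (eW n)) * (B.U y)⁻¹ by rw [← e2]; group,
      inv_eq_of_mul_eq_one_right (B.U_sq y)]
    group
  exact Nat.xor_eq_zero_iff.1
    (B.U_mul_W_eq (Nat.xor_lt_two_pow (n := 6) hφ hy) (by norm_num) (mul_mem (inv_mem hd') hd) h3).1

/-- A normalized `c`. -/
theorem exists_c : ∃ c ∈ S.C, ∃ δ : Fin 16, S.f c = S.f B.X.c ∧ B.ActsV c (cMap δ.1) := by
  obtain ⟨δ, hδ⟩ := B.exists_signs
  have hc := B.X.hc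
  have himg : ∀ u < 64, ∃ y < 64, B.X.c * B.U u * B.X.c⁻¹ = B.U y := by
    intro u hu
    obtain ⟨y, hy, d, hd, e⟩ := B.mem_F1_code (B.U_conj_mem (u := u))
    have hpU := fun v hv => (B.p_acts v hv).2.1
    have horb : B.U u * (B.X.F.p * B.U u * B.X.F.p⁻¹) *
        (B.X.F.p * (B.X.F.p * B.U u * B.X.F.p⁻¹) * B.X.F.p⁻¹) = 1 := by
      rw [hpU u hu, hpU _ (linOK_P ⟨u, hu⟩).2, B.U_xor, B.U_xor, xor_orbit ⟨u, hu⟩, U_zero]
    have h1 := B.orbit_conj hc horb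
    rw [e] at h1
    obtain rfl := B.orbit_sign hd (fun v => B.X.F1_le_E (B.U_mem v)) B.U_zero B.U_xor hpU hy h1
    exact ⟨y, hy, by rw [e, one_mul]⟩
  have hline : ∀ i : Fin 3, ∃ x : Fin 3,
      B.X.c * B.U (2 ^ (2 * i.1)) * B.X.c⁻¹ = B.U (sm (pw x.1) (mC (2 ^ (2 * i.1)))) := fun i => by
    obtain ⟨h1, h2, hk1, hk2, hw⟩ := linePair_ok i
    have hp : 2 ^ (2 * i.1) < 64 := Nat.pow_lt_pow_right (a := 2) (n := 6) (by norm_num) (by omega)
    obtain ⟨y, hy, e⟩ := himg _ hp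
    rcases line_cands i ⟨y, hy⟩ (B.c_image hδ hk1 hw hy (h1 ▸ e)) (B.c_image hδ hk2 hw hy (h2 ▸ e)) with h0 | ⟨x, hx⟩
    · exfalso
      dsimp only at h0
      rw [h0, U_zero] at e
      have hU1 : B.U (2 ^ (2 * i.1)) = B.U 0 := by
        rw [U_zero]; exact conj_eq_one_iff.1 e
      exact absurd (B.U_inj hp (by norm_num) hU1) (Nat.two_pow_pos _).ne'
    · exact ⟨x, by rw [e]; exact congrArg B.U hx⟩
  obtain ⟨x, hx⟩ := hline 0
  obtain ⟨y, hy⟩ := hline 1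
  obtain ⟨t, ht⟩ := hline 2
  have hlin : ∀ u < 64, mMono x.1 y.1 t.1 u < 64 ∧ B.X.c * B.U u * B.X.c⁻¹ = B.U (mMono x.1 y.1 t.1 u) := by
    intro u hu
    refine ⟨(linOK_mono x y t ⟨u, hu⟩).2, conj_lin B.U_zero B.U_xor (linOK_mono x y t) (fun j hj => ?_) hu⟩
    rw [mono_basis x y t ⟨j, hj⟩]
    dsimp only
    have hbase : B.X.c * B.U (2 ^ (2 * (j / 2))) * B.X.c⁻¹ =
        B.U (sm (pw ([x.1, y.1, t.1].getD (j / 2) 0)) (mC (2 ^ (2 * (j / 2))))) := by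
      rcases (show j / 2 = 0 ∨ j / 2 = 1 ∨ j / 2 = 2 by omega) with e | e | e <;> rw [e]
      exacts [hx, hy, ht]
    rcases Nat.mod_two_eq_zero_or_one j with e | e
    · rw [if_pos e, ← B.U_single hj]
      simpa [show 2 * (j / 2) = j by omega] using hbase
    · rw [if_neg (by omega)]
      have hp : 2 ^ (2 * (j / 2)) < 64 := Nat.pow_lt_pow_right (a := 2) (n := 6) (by norm_num) (by omega)
      have hj' : B.cU j = B.X.F.p * B.U (2 ^ (2 * (j / 2))) * B.X.F.p⁻¹ := by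
        rw [(B.p_acts _ hp).2.1, (mP_basis ⟨j / 2, by omega⟩).1, show 2 * (j / 2) + 1 = j by omega, B.U_single hj]
      have hsm : sm (pw ([x.1, y.1, t.1].getD (j / 2) 0)) (mC (2 ^ (2 * (j / 2)))) < 64 := by
        obtain ⟨y', hy', e'⟩ := himg _ hp
        have hlt : ∀ a : Fin 3, ∀ b : Fin 64, sm (pw a.1) b.1 < 64 := by decide +kernel
        rcases (show j / 2 = 0 ∨ j / 2 = 1 ∨ j / 2 = 2 by omega) with e'' | e'' | e'' <;> rw [e'']
        exacts [hlt x ⟨_, (linOK_C ⟨1, by norm_num⟩).2⟩, hlt y ⟨_, (linOK_C ⟨4, by norm_num⟩).2⟩,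
          hlt t ⟨_, (linOK_C ⟨16, by norm_num⟩).2⟩]
      rw [hj', ← (B.p_acts _ hsm).2.1, ← hbase]
      have hcp := B.X.F.commute_p hc
      calc B.X.c * (B.X.F.p * B.U (2 ^ (2 * (j / 2))) * B.X.F.p⁻¹) * B.X.c⁻¹
          = (B.X.c * B.X.F.p) * B.U (2 ^ (2 * (j / 2))) * (B.X.c * B.X.F.p)⁻¹ := by group
        _ = _ := by rw [hcp.eq]; group
  obtain ⟨w1, w2⟩ := scalar_wit
  have e21 := hlin 21 (by norm_num)
  obtain ⟨rfl, rfl⟩ := scalar_eq x y t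
    (B.c_image hδ (w := 14) (by norm_num) (by norm_num) e21.1 (by rw [w1]; exact e21.2))
    (B.c_image hδ (w := 1) (by norm_num) (by norm_num) e21.1 (by rw [w2]; exact e21.2))
  set q := B.X.F.p ^ (2 * x.1)
  have hqC : q ∈ S.C := pow_mem B.X.F.hpC _
  refine ⟨q * B.X.c, mul_mem hqC hc, δ, ?_, ?_⟩
  · rw [S.f_mul_C hqC hc, S.f_pow_C B.X.F.hpC, B.f_p, one_pow, one_mul]
  · refine B.actsV_of_tab (Frame.commute_z (mul_mem hqC hc)) (f := mC) (tab := tC) (δ := δ.1)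
      (fun u hu => ?_) (fun i hi => by interval_cases i <;> decide) (fun j hj => vImgC_lt δ ⟨j, hj⟩) fun i hi => ?_
    · obtain ⟨h1, h2⟩ := hlin u hu
      obtain ⟨h3, h4, -⟩ := B.pPow_acts (2 * x.1) _ h1
      rw [show mC u = mPow (2 * x.1) (mMono x.1 x.1 x.1 u) from (mono_undo x ⟨u, hu⟩).symm]
      refine ⟨h3, ?_⟩
      rw [← h4, ← h2]
      simp only [q]
      group
    · have hP : Commute q (B.vel (if δ.1.testBit i then 1 else 0) * prod4 B.X.kl (tC i)) := by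
        refine Commute.mul_right ?_ (((B.X.F.commute_p (HexFrame.prod4_mem (fun j _ => B.X.kl_mem j) _)).symm).pow_left _)
        split_ifs
        · rw [vel_one]; exact (Frame.commute_z hqC)
        · rw [vel_zero]; exact Commute.one_right _
      calc q * B.X.c * B.X.kl i * (q * B.X.c)⁻¹ = q * (B.X.c * B.X.kl i * B.X.c⁻¹) * q⁻¹ := by group
        _ = _ := by rw [hδ i hi, hP.eq, mul_inv_cancel_right]

end HexBase

end CfsgLib.JankoFour
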