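import Cfsg.Agent.Lib.JankoFourHexad.InvolChecks
import Cfsg.Agent.Lib.JankoFourHexad.OrbitChecks

/-!
# Checks for the centralizer of a code not conjugate to `z` (owner: helper28)
-/

set_option autoImplicit false
set_option maxRecDepth 100000

namespace CfsgLib.JankoFourHexad

open CfsgLib.Sporadic

/-- Membership among the codes conjugate to `z`. -/
def zCentBit (n : ℕ) : Bool := !Nat.beq n 0 && !Nat.testBit dMask n

theorem hexad_duad : forallLt 77 (fun j => Nat.beq j 0 || forallLt 128 fun d => !Nat.testBit dMask d ||
    forallLt 128 fun e => !Nat.testBit dMask e ||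
      !Nat.beq (qWord (wordData.getD j []) (Nat.shiftRight d 1)) (Nat.shiftRight e 1)) = true := by decide +kernel

theorem hexad_shift : forallLt 77 (fun j => Nat.beq j 0 || forallLt 16 fun k => Nat.beq k 0 ||
    !Nat.beq (countLt 64 fun w => !Nat.testBit (maskData.getD j 0) (Nat.shiftRight (phiS k w) 1)) 0) = true := by
  decide +kernel

theorem word_first : wordData.getD 0 [] = [] := rfl

theorem fixed_eight : Nat.beq (countLt 2048 fun n => Nat.beq (tMap 1 n) n) 128 = true := by decide +kernel

theorem fixed_free : tMap 22 1 = 1 ∧ tMap 22 12 = 12 ∧ zCentBit 1 = true ∧ zCentBit 12 = true ∧ zCentBit (Nat.xor 1 12) = true ∧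
    Nat.testBit dMask 2 = true := by decide +kernel

theorem near_closed : forallLt 2048 (fun d => !Nat.testBit dMask d || !Nat.testBit dMask (Nat.xor d 2) ||
    forallLt 2048 fun n => !Nat.testBit dMask n || Nat.beq n 2 || Nat.beq n d || Nat.beq n (Nat.xor d 2) ||
      zCentBit (Nat.xor n 2) || zCentBit (Nat.xor n d) || zCentBit (Nat.xor n (Nat.xor d 2))) = true := by decide +kernel

theorem near_witness : forallLt 2048 (fun d => !Nat.testBit dMask d || !Nat.testBit dMask (Nat.xor d 2) ||
    !Nat.beq (countLt 2048 fun a => zCentBit a && Nat.testBit dMask (Nat.xor a 2) && Nat.testBit dMask (Nat.xor a d) &&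
      Nat.testBit dMask (Nat.xor a (Nat.xor d 2))) 0) = true := by decide +kernel

theorem pair_witness : zCentBit 1 = true ∧ Nat.testBit dMask (Nat.xor 1 2) = true ∧ zCentBit 12 = true ∧
    zCentBit (Nat.xor 12 2) = true := by decide +kernel

theorem duad_count : Nat.beq (countLt 2048 fun n => Nat.testBit dMask n) 276 = true := by decide +kernel

end CfsgLib.JankoFourHexad
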