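import Cfsg.Agent.Lib.JankoFourHexad.VChecks
import Cfsg.Agent.Lib.JankoFourHexad.ClassData
import Cfsg.Agent.Lib.Sporadic.Bits

/-!
# The classes of codes and the admissible unions (owner: helper28)
-/

set_option autoImplicit false
set_option maxRecDepth 100000

namespace CfsgLib.JankoFourHexad

open CfsgLib.Sporadic

/-- The label of a code. -/
def lab (n : ℕ) : ℕ := Nat.land (Nat.shiftRight labData (4 * n)) 15

/-- The class of a code. -/
def cls (δ n : ℕ) : ℕ := (rootData.getD δ []).getD (lab n) 0

/-- The labels of the six base classes. -/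
def baseLab (i : ℕ) : ℕ := [0, 1, 2, 6, 7, 8].getD i 0

/-- The duad-type codes. -/
def dMask : ℕ := 1011894387164934580389232159247100147567435664973998047018913754128372960948279374702577169637789668234736213736128031628091588344251892427040432974792081453361908603089593201673113362678121729560817514497622508937025281074386753509220058424724788656784657245694576440073164708194307775073783186762062728419406357079747982559826535536942435569166940934749872083085049749854961989639656118977353189807176399941622150641419132974262288442322829047527119866944554127057321066561049831054455168534887863608118784266842791382831793706518459275590771877793253813918994210666364337642600655845211593195696524095321027052540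

/-- One step for the labels. -/
noncomputable def labStep (k c : ℕ) : ℕ :=
  if Nat.testBit k (c / 16 % 2048) && Nat.blt (c % 16) 9 &&
      Nat.beq (gMap (c % 16) (c / 16 % 2048)) (c / 32768) && Nat.beq (lab (c / 32768)) (lab (c / 16 % 2048)) then
    Nat.lor k (Nat.shiftLeft 1 (c / 32768))
  else k

/-- The initial mask of representatives. -/
def repMask : ℕ := repData.foldl (fun k r => Nat.lor k (Nat.shiftLeft 1 r)) 0

theorem lab_mask : Nat.beq (stepData.foldl labStep repMask) (2 ^ 2048 - 2) = true := by decide +kernel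

theorem rep_ok : ∀ r ∈ repData, r < 2048 ∧ r ≠ 0 ∧ repData.getD (lab r) 0 = r := by decide +kernel

theorem lab_lt (n : ℕ) : lab n < 16 := Nat.lt_succ_of_le Nat.and_le_right

theorem lab_range : ∀ n : Fin 2048, n.1 ≠ 0 → lab n.1 < 15 := by decide +kernel

/-- One step for the classes. -/
noncomputable def rootStep (δ k n : ℕ) : ℕ :=
  if Nat.testBit k (lab (cMap δ n)) && Nat.blt n 2048 && !Nat.beq n 0 &&
      Nat.beq (cls δ n) (cls δ (cMap δ n)) then
    Nat.lor k (Nat.shiftLeft 1 (lab n))
  else k

/-- The labels that are their own class. -/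
def rootMask (δ : ℕ) : ℕ :=
  (List.range 15).foldl (fun k l => if baseLab ((rootData.getD δ []).getD l 0) = l then Nat.lor k (Nat.shiftLeft 1 l) else k) 0

theorem root_mask : ∀ δ : Fin 16, (edgeData.getD δ.1 []).foldl (rootStep δ.1) (rootMask δ.1) = 2 ^ 15 - 1 := by
  decide +kernel

theorem root_base : ∀ δ : Fin 16, ∀ l : Fin 15, (rootMask δ.1).testBit l.1 = true →
    baseLab ((rootData.getD δ.1 []).getD l.1 0) = l.1 := by decide +kernel

theorem base_fix : ∀ δ : Fin 16, ∀ l : Fin 15, (rootData.getD δ.1 []).getD l.1 0 < 6 := by decide +kernel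

theorem c_range : ∀ δ : Fin 16, ∀ n : Fin 2048, n.1 ≠ 0 → cMap δ.1 n.1 ≠ 0 := by decide +kernel

/-- The expected sizes of the six classes. -/
def clsSize (δ i : ℕ) : ℕ :=
  (if δ = 0 ∨ δ = 5 then [1, 36, 90, 240, 240, 1440] else [1, 36, 90, 480, 0, 1440]).getD i 0

theorem cls_sizes : ∀ δ : Fin 16, ∀ i : Fin 6,
    Nat.beq (countLt 2048 fun n => !Nat.beq n 0 && Nat.beq (cls δ.1 n) i.1) (clsSize δ.1 i.1) = true := by
  decide +kernel

theorem cls_small : ∀ δ : Fin 16, ∀ n : Fin 128, 2 ≤ n.1 → cls δ.1 n.1 = 1 ∨ cls δ.1 n.1 = 2 := by decide +kernel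

theorem cls_low (δ : Fin 16) (n : Fin 2048) (h : n.1 ≠ 0) : (cls δ.1 n.1 < 3 ↔ n.1 < 128) ∧
    (cls δ.1 n.1 = 0 ↔ n.1 = 1) := by
  revert δ n; decide +kernel

/-- The size of a union of classes. -/
def unionSize (δ s : ℕ) : ℕ :=
  (List.range 6).foldl (fun k i => if Nat.testBit s i then k + clsSize δ i else k) 0

/-- A prime excluding a size. -/
def badPrime (n : ℕ) : ℕ :=
  if n = 37 then 37 else if n = 91 then 13 else if n = 277 then 277 else if n = 331 then 331
  else if n = 367 then 367 else if n = 517 then 47 else if n = 571 then 571 else if n = 607 then 607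
  else if n = 1477 then 211 else if n = 1531 then 1531 else if n = 1567 then 1567 else if n = 1717 then 101
  else if n = 1807 then 139 else if n = 1957 then 103 else if n = 2011 then 2011 else 0

/-- The primes used. -/
def badPrimes : List ℕ := [37, 13, 277, 331, 367, 47, 571, 607, 211, 1531, 1567, 101, 139, 103, 2011]

theorem badPrimes_ok : ∀ p ∈ badPrimes, p ≠ 2 ∧ ∀ j : Fin 11, 2 ^ (j.1 + 1) % p ≠ 1 := by decide +kernel

theorem union_cases : ∀ δ : Fin 16, ∀ s : Fin 64, s.1.testBit 0 = true → (s.1.testBit 1 = true ∨ s.1.testBit 2 = true) →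
    (badPrime (unionSize δ.1 s.1) ∈ badPrimes ∧ unionSize δ.1 s.1 % badPrime (unionSize δ.1 s.1) = 0) ∨
    unionSize δ.1 s.1 = 127 ∧ (∀ i : Fin 6, clsSize δ.1 i.1 ≠ 0 → (s.1.testBit i.1 = true ↔ i.1 < 3)) ∨
    unionSize δ.1 s.1 = 2047 ∧ (∀ i : Fin 6, clsSize δ.1 i.1 ≠ 0 → s.1.testBit i.1 = true) ∨
    (δ.1 = 0 ∨ δ.1 = 5) ∧ (s.1 = 45 ∨ s.1 = 53) := by decide +kernel

/-- The complement of a union. -/
def restBit (δ s n : ℕ) : Bool := !Nat.beq n 0 && !Nat.testBit s (cls δ n)

theorem dMask_eq : forallLt 2048 (fun n => (restBit 5 53 n) == (Nat.testBit dMask n)) = true := by decide +kernel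

/-- The number of ways of writing a code as a sum of two in the complement. -/
noncomputable def restPairs (δ s n : ℕ) : ℕ := countLt 2048 fun m => restBit δ s m && restBit δ s (Nat.xor n m)

theorem wrong_choices : restBit 0 45 2 = true ∧ restBit 0 45 129 = true ∧ restPairs 0 45 2 ≠ restPairs 0 45 129 ∧
    restBit 0 53 2 = true ∧ restBit 0 53 128 = true ∧ restPairs 0 53 2 ≠ restPairs 0 53 128 ∧
    restBit 5 45 2 = true ∧ restBit 5 45 129 = true ∧ restPairs 5 45 2 ≠ restPairs 5 45 129 := by decide +kernel

end CfsgLib.JankoFourHexad
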