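import Cfsg.Agent.Lib.JankoFourHexad.Model
import Cfsg.Agent.Lib.Sporadic.Bits

/-!
# Finite checks on the codes of the extraspecial group (owner: helper28)
-/

set_option autoImplicit false
set_option maxRecDepth 100000

namespace CfsgLib.JankoFourHexad

/-- The sum of some rows. -/
def xfold (f : ℕ → ℕ) (m : ℕ) : ℕ → ℕ :=
  Nat.rec 0 fun j acc => Nat.xor acc (if Nat.testBit m j then f j else 0)

/-- The product of some images. -/
def efold (f : ℕ → ℕ) (m : ℕ) : ℕ → ℕ :=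
  Nat.rec 0 fun j acc => emul acc (if Nat.testBit m j then f j else 0)

/-- The code of the conjugate, given the codes of the conjugates of the basis. -/
def eFold (iU iW : ℕ → ℕ) (n : ℕ) : ℕ :=
  emul (emul (Nat.land n 1) (efold iU (eU n) 6)) (efold iW (eW n) 6)

/-- Codes of the conjugates of the first basis under `p`. -/
def pImgU (j : ℕ) : ℕ := Nat.shiftLeft (sm 2 (2 ^ j)) 1
/-- Codes of the conjugates of the second basis under `p`. -/
def pImgW (j : ℕ) : ℕ := Nat.shiftLeft (sm 2 (2 ^ j)) 7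
/-- Codes of the conjugates of the first basis under `v`. -/
def vImgU (j : ℕ) : ℕ := Nat.shiftLeft (2 ^ j) 1
/-- Codes of the conjugates of the second basis under `v`. -/
def vImgW (j : ℕ) : ℕ :=
  if j < 4 then Nat.lor 1 (Nat.lor (Nat.shiftLeft (2 ^ j) 1) (Nat.shiftLeft (2 ^ j) 7)) else Nat.shiftLeft (2 ^ j) 7
/-- Codes of the conjugates of the second basis under `w`. -/
def wImgW (j : ℕ) : ℕ :=
  if 2 ≤ j then Nat.lor 1 (Nat.lor (Nat.shiftLeft (2 ^ j) 1) (Nat.shiftLeft (2 ^ j) 7)) else Nat.shiftLeft (2 ^ j) 7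

theorem pairB_table : ∀ u : Fin 64, ∀ w : Fin 64,
    xfold (fun i => xfold (fun j => pairB (2 ^ i) (2 ^ j)) w.1 6) u.1 6 = pairB u.1 w.1 := by decide +kernel

theorem pairB_lt : ∀ u : Fin 64, ∀ w : Fin 64, pairB u.1 w.1 < 2 := by decide +kernel

theorem pairB_left : ∀ u : Fin 64, (∀ w : Fin 64, pairB u.1 w.1 = 0) → u.1 = 0 := by decide +kernel

theorem pairB_right : ∀ w : Fin 64, (∀ u : Fin 64, pairB u.1 w.1 = 0) → w.1 = 0 := by decide +kernel

theorem pairB_zero : ∀ u : Fin 64, pairB u.1 0 = 0 ∧ pairB 0 u.1 = 0 := by decide +kernel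

theorem pairB_planes : ∀ i : Fin 6, ∀ j : Fin 6, i.1 / 2 ≠ j.1 / 2 → pairB (2 ^ i.1) (2 ^ j.1) = 0 := by
  decide +kernel

theorem pairB_same : ∀ i : Fin 6, ∀ j : Fin 6, i.1 / 2 = j.1 / 2 →
    pairB (2 ^ i.1) (2 ^ j.1) = if i.1 % 2 = j.1 % 2 then 0 else 1 := by decide +kernel

/-- Split a check over all codes into two loops. -/
theorem forall_code {f : ℕ → Bool}
    (h : CfsgLib.Sporadic.forallLt 64 (fun w => CfsgLib.Sporadic.forallLt 128 fun u => f (u + 128 * w)) = true)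
    (n : Fin 8192) : f n.1 = true := by
  have h1 := CfsgLib.Sporadic.forallLt_elim (CfsgLib.Sporadic.forallLt_elim h (k := n.1 / 128) (by omega))
    (k := n.1 % 128) (by omega)
  rwa [Nat.mod_add_div] at h1

theorem emul_zero_left (n : Fin 8192) : emul 0 n.1 = n.1 :=
  Nat.eq_of_beq_eq_true (forall_code (f := fun n => Nat.beq (emul 0 n) n) (by decide +kernel) n)

theorem eP_split (n : Fin 8192) :
    emul (emul (Nat.land n.1 1) (eP (Nat.shiftLeft (eU n.1) 1))) (eP (Nat.shiftLeft (eW n.1) 7)) = eP n.1 :=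
  Nat.eq_of_beq_eq_true (forall_code (f := fun n => Nat.beq
    (emul (emul (Nat.land n 1) (eP (Nat.shiftLeft (eU n) 1))) (eP (Nat.shiftLeft (eW n) 7))) (eP n))
    (by decide +kernel) n)

theorem eV0_split (n : Fin 8192) :
    emul (emul (Nat.land n.1 1) (eV 0 (Nat.shiftLeft (eU n.1) 1))) (eV 0 (Nat.shiftLeft (eW n.1) 7)) = eV 0 n.1 :=
  Nat.eq_of_beq_eq_true (forall_code (f := fun n => Nat.beq
    (emul (emul (Nat.land n 1) (eV 0 (Nat.shiftLeft (eU n) 1))) (eV 0 (Nat.shiftLeft (eW n) 7))) (eV 0 n))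
    (by decide +kernel) n)

theorem eV1_split (n : Fin 8192) :
    emul (emul (Nat.land n.1 1) (eV 1 (Nat.shiftLeft (eU n.1) 1))) (eV 1 (Nat.shiftLeft (eW n.1) 7)) = eV 1 n.1 :=
  Nat.eq_of_beq_eq_true (forall_code (f := fun n => Nat.beq
    (emul (emul (Nat.land n 1) (eV 1 (Nat.shiftLeft (eU n) 1))) (eV 1 (Nat.shiftLeft (eW n) 7))) (eV 1 n))
    (by decide +kernel) n)

theorem efold_p : ∀ u : Fin 64, efold pImgU u.1 6 = eP (Nat.shiftLeft u.1 1) ∧
    efold pImgW u.1 6 = eP (Nat.shiftLeft u.1 7) := by decide +kernel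

theorem efold_v : ∀ u : Fin 64, efold vImgU u.1 6 = eV 0 (Nat.shiftLeft u.1 1) ∧
    efold vImgU u.1 6 = eV 1 (Nat.shiftLeft u.1 1) ∧
    efold vImgW u.1 6 = eV 0 (Nat.shiftLeft u.1 7) ∧ efold wImgW u.1 6 = eV 1 (Nat.shiftLeft u.1 7) := by
  decide +kernel

theorem eU_lt (n : ℕ) : eU n < 64 := Nat.lt_succ_of_le (Nat.and_le_right)

theorem eW_lt {n : ℕ} (hn : n < 8192) : eW n < 64 := by
  show n >>> 7 < 64
  rw [Nat.shiftRight_eq_div_pow]; omega

theorem pFold_eq (n : Fin 8192) : eFold pImgU pImgW n.1 = eP n.1 := by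
  rw [eFold, (efold_p ⟨_, eU_lt _⟩).1, (efold_p ⟨_, eW_lt n.2⟩).2]
  exact eP_split n

theorem vFold_eq (n : Fin 8192) : eFold vImgU vImgW n.1 = eV 0 n.1 := by
  rw [eFold, (efold_v ⟨_, eU_lt _⟩).1, (efold_v ⟨_, eW_lt n.2⟩).2.2.1]
  exact eV0_split n

theorem wFold_eq (n : Fin 8192) : eFold vImgU wImgW n.1 = eV 1 n.1 := by
  rw [eFold, (efold_v ⟨_, eU_lt _⟩).2.1, (efold_v ⟨_, eW_lt n.2⟩).2.2.2]
  exact eV1_split n

end CfsgLib.JankoFourHexad
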