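import Cfsg.Agent.Lib.JankoFourHexad.CodeChecks

/-!
# Products over the bits of a number (owner: helper28)
-/

set_option autoImplicit false

namespace CfsgLib.JankoFourHexad

variable {A : Type*} [Group A]

/-- The product of the `f j` over the bits `j` below `n` of `m`. -/
def gprod (f : ℕ → A) (m : ℕ) : ℕ → A :=
  Nat.rec 1 fun j acc => acc * (if Nat.testBit m j then f j else 1)

/-- The sign of a number. -/
def zpar (c : A) (e : ℕ) : A := if e.testBit 0 then c else 1

theorem gprod_succ (f : ℕ → A) (m n : ℕ) :
    gprod f m (n + 1) = gprod f m n * (if Nat.testBit m n then f n else 1) := rfl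

theorem xfold_succ (f : ℕ → ℕ) (m n : ℕ) :
    xfold f m (n + 1) = Nat.xor (xfold f m n) (if Nat.testBit m n then f n else 0) := rfl

theorem efold_succ (f : ℕ → ℕ) (m n : ℕ) :
    efold f m (n + 1) = emul (efold f m n) (if Nat.testBit m n then f n else 0) := rfl

theorem gprod_mem {K : Subgroup A} {f : ℕ → A} {n : ℕ} (h : ∀ j < n, f j ∈ K) (m : ℕ) :
    gprod f m n ∈ K := by
  induction n with
  | zero => exact one_mem _
  | succ n ih =>
    rw [gprod_succ]
    refine mul_mem (ih fun j hj => h j (by omega)) ?_
    split_ifs
    exacts [h n (by omega), one_mem _]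

theorem gprod_commute {f : ℕ → A} {x : A} {n : ℕ} (h : ∀ j < n, Commute (f j) x) (m : ℕ) :
    Commute (gprod f m n) x := by
  induction n with
  | zero => exact Commute.one_left x
  | succ n ih =>
    rw [gprod_succ]
    refine (ih fun j hj => h j (by omega)).mul_left ?_
    split_ifs
    exacts [h n (by omega), Commute.one_left x]

theorem gprod_zero (f : ℕ → A) (n : ℕ) : gprod f 0 n = 1 := by
  induction n with
  | zero => rfl
  | succ n ih => rw [gprod_succ, ih, Nat.zero_testBit]; simp

theorem gprod_single (f : ℕ → A) (j : ℕ) : ∀ n, gprod f (2 ^ j) n = if j < n then f j else 1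
  | 0 => by simp [gprod]
  | n + 1 => by
    rw [gprod_succ, gprod_single f j n, Nat.testBit_two_pow]
    rcases lt_trichotomy j n with h | h | h
    · rw [if_pos h, if_pos (by omega : j < n + 1), decide_eq_false (by omega : ¬ j = n)]
      simp
    · subst h
      simp
    · rw [if_neg (by omega), if_neg (by omega : ¬ j < n + 1), decide_eq_false (by omega : ¬ j = n)]
      simp

theorem gprod_add {f : ℕ → A} {n : ℕ} (hc : ∀ i < n, ∀ j < n, Commute (f i) (f j)) (hs : ∀ i < n, f i * f i = 1)
    (a b : ℕ) : gprod f a n * gprod f b n = gprod f (Nat.xor a b) n := by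
  induction n with
  | zero => exact one_mul 1
  | succ n ih =>
    have hx : (Nat.xor a b).testBit n = xor (a.testBit n) (b.testBit n) := Nat.testBit_xor a b n
    rw [gprod_succ, gprod_succ, gprod_succ, ← ih (fun i hi j hj => hc i (by omega) j (by omega))
      (fun i hi => hs i (by omega)), hx]
    have hcx : Commute (gprod f b n) (if a.testBit n then f n else 1) := by
      split_ifs
      exacts [gprod_commute (fun j hj => hc j (by omega) n (by omega)) b, Commute.one_right _]
    calc gprod f a n * (if a.testBit n then f n else 1) * (gprod f b n * (if b.testBit n then f n else 1))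
        = gprod f a n * ((if a.testBit n then f n else 1) * gprod f b n) * (if b.testBit n then f n else 1) := by
          group
      _ = gprod f a n * gprod f b n * ((if a.testBit n then f n else 1) * (if b.testBit n then f n else 1)) := by
          rw [← hcx.eq]; group
      _ = _ := by
          congr 1
          cases a.testBit n <;> cases b.testBit n <;> simp [hs n (by omega)]

theorem gprod_map {B : Type*} [Group B] (g : A →* B) (f : ℕ → A) (m : ℕ) :
    ∀ n, g (gprod f m n) = gprod (fun j => g (f j)) m n
  | 0 => map_one g
  | n + 1 => by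
    rw [gprod_succ, gprod_succ, map_mul, gprod_map g f m n, apply_ite g, map_one]

theorem gprod_congr {f f' : ℕ → A} {m n : ℕ} (h : ∀ j < n, f j = f' j) : gprod f m n = gprod f' m n := by
  induction n with
  | zero => rfl
  | succ n ih => rw [gprod_succ, gprod_succ, ih fun j hj => h j (by omega), h n (by omega)]

variable {c : A}

theorem zpar_zero : zpar c 0 = 1 := by simp [zpar]

theorem zpar_one : zpar c 1 = c := by simp [zpar]

theorem zpar_mem : ∀ e, zpar c e = 1 ∨ zpar c e = c := fun e => by
  unfold zpar; split_ifs <;> simp

theorem zpar_xor (hcc : c * c = 1) (a b : ℕ) : zpar c (Nat.xor a b) = zpar c a * zpar c b := by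
  unfold zpar
  rw [show (Nat.xor a b).testBit 0 = xor (a.testBit 0) (b.testBit 0) from Nat.testBit_xor a b 0]
  cases a.testBit 0 <;> cases b.testBit 0 <;> simp [hcc]

theorem zpar_sq (hcc : c * c = 1) (e : ℕ) : zpar c e * zpar c e = 1 := by
  rcases zpar_mem (c := c) e with h | h <;> rw [h]
  exacts [one_mul 1, hcc]

theorem zpar_commute {x : A} (h : Commute c x) (e : ℕ) : Commute (zpar c e) x := by
  rcases zpar_mem (c := c) e with h' | h' <;> rw [h']
  exacts [Commute.one_left x, h]

/-- Moving a product past an element. -/
theorem gprod_past {f : ℕ → A} {y : A} {e : ℕ → ℕ} {n : ℕ} (hcc : c * c = 1)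
    (hcf : ∀ j < n, Commute c (f j)) (h : ∀ j < n, f j * y = y * f j * zpar c (e j)) (m : ℕ) :
    gprod f m n * y = y * gprod f m n * zpar c (xfold e m n) := by
  induction n with
  | zero => simp [gprod, xfold, zpar]
  | succ n ih =>
    rw [gprod_succ, xfold_succ, zpar_xor hcc]
    have hih := ih (fun j hj => hcf j (by omega)) (fun j hj => h j (by omega))
    have hcn := zpar_commute (hcf n (by omega)) (xfold e m n)
    by_cases hb : m.testBit n
    · simp only [hb, if_true]
      calc gprod f m n * f n * y = gprod f m n * (y * f n * zpar c (e n)) := by rw [mul_assoc, h n (by omega)]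
        _ = gprod f m n * y * f n * zpar c (e n) := by group
        _ = y * gprod f m n * (zpar c (xfold e m n) * f n) * zpar c (e n) := by rw [hih]; group
        _ = _ := by rw [hcn.eq]; group
    · simp only [hb, Bool.false_eq_true, if_false, mul_one, zpar_zero]
      exact hih

end CfsgLib.JankoFourHexad
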