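import Cfsg.Agent.Lib.JankoFourHexad.Basis
import Cfsg.Agent.Lib.JankoFourHexad.Products

/-!
# Coordinates on the extraspecial group (owner: helper28)
-/

set_option autoImplicit false

namespace CfsgLib.JankoFour

open Cfsg CfsgLib.ThreeTrans
open CfsgLib.JankoFourHexad

variable {G : Type*} [Group G] [Finite G]

/-- A frame together with its two base elements. -/
structure HexBase (S : Setting G) where
  /-- the frame -/
  X : HexFrame S
  /-- base element of the first fixed space -/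
  c0 : G
  /-- base element of the second fixed space -/
  d0 : G
  hc1 : c0 ∈ X.F1
  hcW : c0 ∈ X.F.W 0
  hd2 : d0 ∈ X.F2
  hdW : d0 ∈ X.F.W 0
  hcc : c0 * c0 = 1
  hdd : d0 * d0 = 1
  hcp : c0 * (X.F.p * c0 * X.F.p⁻¹) * (X.F.p * (X.F.p * c0 * X.F.p⁻¹) * X.F.p⁻¹) = 1
  hdp : d0 * (X.F.p * d0 * X.F.p⁻¹) * (X.F.p * (X.F.p * d0 * X.F.p⁻¹) * X.F.p⁻¹) = 1
  hcd : Commute c0 d0
  hncd : ¬ Commute (X.F.p * c0 * X.F.p⁻¹) d0
  hvd : X.F.v * d0 * X.F.v⁻¹ = c0 * d0 * S.z

namespace Setting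

variable (S : Setting G)

theorem exists_hexBase : Nonempty (HexBase S) := by
  obtain ⟨X⟩ := S.exists_hexFrame
  obtain ⟨c, d, h1, h2, h3, h4, h5, h6, h7, h8, h9, h10, h11⟩ := X.exists_base
  exact ⟨⟨X, c, d, h1, h2, h3, h4, h5, h6, h7, h8, h9, h10, h11⟩⟩

theorem ncomm_eq {x y : G} (hx : x ∈ S.E) (hy : y ∈ S.E) (h : ¬ Commute x y) : x * y = y * x * S.z := by
  rcases S.hE.conj_eq_or hx hy with e | e
  · exact absurd (mul_inv_eq_iff_eq_mul.1 e) h
  · rw [mul_inv_eq_iff_eq_mul] at e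
    rw [e, mul_assoc, ← (S.hE.commute_z (mul_mem hy hx)).eq]

end Setting

namespace HexBase

variable {S : Setting G} (B : HexBase S)

/-- Conjugation by a power of `b`. -/
def bc (i : ℕ) (x : G) : G := B.X.F.b ^ i * x * (B.X.F.b ^ i)⁻¹

theorem bc_zero (x : G) : B.bc 0 x = x := by simp [bc]

theorem bc_succ (i : ℕ) (x : G) : B.bc (i + 1) x = B.X.F.b * B.bc i x * B.X.F.b⁻¹ := by
  simp only [bc, pow_succ']; group

theorem bc_mul (i : ℕ) (x y : G) : B.bc i (x * y) = B.bc i x * B.bc i y := by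
  simp only [bc]; group

theorem bc_z (i : ℕ) : B.bc i S.z = S.z := by
  rw [bc, ((Frame.commute_z B.X.F.hbC).pow_left i).eq, mul_inv_cancel_right]

theorem bc_commute {i : ℕ} {x y : G} (h : Commute x y) : Commute (B.bc i x) (B.bc i y) :=
  LargeData.commute_conj_iff'.2 h

theorem bc_W {i : ℕ} {x : G} (h : x ∈ B.X.F.W 0) : B.bc i x ∈ B.X.F.W i := by
  induction i with
  | zero => rwa [bc_zero]
  | succ i ih => rw [bc_succ]; exact B.X.F.b_W ih

theorem bc_F1 {i : ℕ} {x : G} (h : x ∈ B.X.F1) : B.bc i x ∈ B.X.F1 := by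
  induction i with
  | zero => rwa [bc_zero]
  | succ i ih => rw [bc_succ]; exact B.X.b_conj_F1.2 ih

theorem bc_F2 {i : ℕ} {x : G} (h : x ∈ B.X.F2) : B.bc i x ∈ B.X.F2 := by
  induction i with
  | zero => rwa [bc_zero]
  | succ i ih => rw [bc_succ]; exact B.X.b_conj_F2.2 ih

theorem bc_p (i : ℕ) (x : G) : B.X.F.p * B.bc i x * B.X.F.p⁻¹ = B.bc i (B.X.F.p * x * B.X.F.p⁻¹) := by
  have h := ((B.X.F.commute_p B.X.F.hbC).pow_left i)
  calc B.X.F.p * B.bc i x * B.X.F.p⁻¹ = (B.X.F.p * B.X.F.b ^ i) * x * (B.X.F.p * B.X.F.b ^ i)⁻¹ := by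
        rw [bc]; group
    _ = _ := by rw [← h.eq, bc]; group

/-- The conjugate of the first base element. -/
abbrev c1 : G := B.X.F.p * B.c0 * B.X.F.p⁻¹

/-- The conjugate of the second base element. -/
abbrev d1 : G := B.X.F.p * B.d0 * B.X.F.p⁻¹

/-- The basis of the first fixed space. -/
def cU (j : ℕ) : G := B.bc (j / 2) (if j % 2 = 0 then B.c0 else B.c1)

/-- The basis of the second fixed space. -/
def dW (j : ℕ) : G := B.bc (j / 2) (if j % 2 = 0 then B.d0 else B.d1)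

theorem c1_mem : B.c1 ∈ B.X.F1 ∧ B.c1 ∈ B.X.F.W 0 :=
  ⟨B.X.conj_F1 B.X.F.hpC B.X.p_norm B.hc1, B.X.F.p_conj_W B.hcW⟩

theorem d1_mem : B.d1 ∈ B.X.F2 ∧ B.d1 ∈ B.X.F.W 0 :=
  ⟨B.X.conj_F2 B.X.F.hpC B.X.p_norm2 B.hd2, B.X.F.p_conj_W B.hdW⟩

theorem cU_mem (j : ℕ) : B.cU j ∈ B.X.F1 ∧ B.cU j ∈ B.X.F.W (j / 2) := by
  unfold cU; split_ifs
  exacts [⟨B.bc_F1 B.hc1, B.bc_W B.hcW⟩, ⟨B.bc_F1 B.c1_mem.1, B.bc_W B.c1_mem.2⟩]

theorem dW_mem (j : ℕ) : B.dW j ∈ B.X.F2 ∧ B.dW j ∈ B.X.F.W (j / 2) := by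
  unfold dW; split_ifs
  exacts [⟨B.bc_F2 B.hd2, B.bc_W B.hdW⟩, ⟨B.bc_F2 B.d1_mem.1, B.bc_W B.d1_mem.2⟩]

theorem cU_E (j : ℕ) : B.cU j ∈ S.E := B.X.F1_le_E (B.cU_mem j).1

theorem dW_E (j : ℕ) : B.dW j ∈ S.E := B.X.F2_le_E (B.dW_mem j).1

theorem cU_sq (j : ℕ) : B.cU j * B.cU j = 1 := by
  have h1 : B.c1 * B.c1 = 1 := by rw [conj_mul, B.hcc, mul_one, mul_inv_cancel]
  unfold cU; split_ifs <;> rw [← B.bc_mul]
  · rw [B.hcc]; simp [bc]
  · rw [h1]; simp [bc]

theorem dW_sq (j : ℕ) : B.dW j * B.dW j = 1 := by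
  have h1 : B.d1 * B.d1 = 1 := by rw [conj_mul, B.hdd, mul_one, mul_inv_cancel]
  unfold dW; split_ifs <;> rw [← B.bc_mul]
  · rw [B.hdd]; simp [bc]
  · rw [h1]; simp [bc]

theorem p_c1 : B.X.F.p * B.c1 * B.X.F.p⁻¹ = B.c0 * B.c1 := by
  have h1 : B.c1 * B.c1 = 1 := by rw [conj_mul, B.hcc, mul_one, mul_inv_cancel]
  have hc : Commute B.c0 B.c1 := B.X.F1_comm B.hc1 B.c1_mem.1
  rw [← inv_eq_of_mul_eq_one_right B.hcp, mul_inv_rev, inv_eq_of_mul_eq_one_right h1,
    inv_eq_of_mul_eq_one_right B.hcc, hc.eq]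

theorem p_d1 : B.X.F.p * B.d1 * B.X.F.p⁻¹ = B.d0 * B.d1 := by
  have h1 : B.d1 * B.d1 = 1 := by rw [conj_mul, B.hdd, mul_one, mul_inv_cancel]
  have hc : Commute B.d0 B.d1 := B.X.F2_comm B.hd2 B.d1_mem.1
  rw [← inv_eq_of_mul_eq_one_right B.hdp, mul_inv_rev, inv_eq_of_mul_eq_one_right h1,
    inv_eq_of_mul_eq_one_right B.hdd, hc.eq]

theorem base_comm : Commute B.c1 B.d1 := LargeData.commute_conj_iff'.2 B.hcd

theorem base_ncomm : ¬ Commute B.c0 B.d1 := by
  intro h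
  have h1 : Commute B.c1 (B.d0 * B.d1) := B.p_d1 ▸ LargeData.commute_conj_iff'.2 h
  have h2 := h1.mul_right B.base_comm.inv_right
  rw [mul_inv_cancel_right] at h2
  exact B.hncd h2

theorem basis_rel {j k : ℕ} (hj : j < 6) (hk : k < 6) :
    B.cU j * B.dW k = B.dW k * B.cU j * zpar S.z (pairB (2 ^ j) (2 ^ k)) := by
  by_cases h : j / 2 = k / 2
  · rw [show pairB (2 ^ j) (2 ^ k) = _ from pairB_same ⟨j, hj⟩ ⟨k, hk⟩ h]
    unfold cU dW
    rw [← h]
    have hE : ∀ {x : G}, x ∈ B.X.F.W 0 → x ∈ S.E := fun hx => B.X.F.W_le_E hx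
    have key : ∀ {x y : G}, x * y = y * x * S.z →
        B.bc (j / 2) x * B.bc (j / 2) y = B.bc (j / 2) y * B.bc (j / 2) x * S.z := fun {x y} e => by
      rw [← B.bc_mul, e, B.bc_mul, B.bc_mul, B.bc_z]
    rcases Nat.mod_two_eq_zero_or_one j with a | a <;> rcases Nat.mod_two_eq_zero_or_one k with c | c <;>
      simp only [a, c, one_ne_zero, zero_ne_one, if_true, if_false, zpar_zero, zpar_one, mul_one]
    · exact (B.bc_commute B.hcd).eq
    · exact key (S.ncomm_eq (hE B.hcW) (hE B.d1_mem.2) B.base_ncomm)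
    · exact key (S.ncomm_eq (hE B.c1_mem.2) (hE B.hdW) B.hncd)
    · exact (B.bc_commute B.base_comm).eq
  · rw [pairB_planes ⟨j, hj⟩ ⟨k, hk⟩ h, zpar_zero, mul_one]
    exact (B.X.F.commute_W (by omega) (B.cU_mem j).2 (B.dW_mem k).2).eq

/-- The element of the first fixed space with a given code. -/
def U (u : ℕ) : G := gprod B.cU u 6

/-- The element of the second fixed space with a given code. -/
def W (w : ℕ) : G := gprod B.dW w 6

/-- The element with a given code. -/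
def el (n : ℕ) : G := zpar S.z n * B.U (eU n) * B.W (eW n)

theorem U_mem (u : ℕ) : B.U u ∈ B.X.F1 := gprod_mem (fun j _ => (B.cU_mem j).1) u

theorem W_mem (w : ℕ) : B.W w ∈ B.X.F2 := gprod_mem (fun j _ => (B.dW_mem j).1) w

theorem zpar_E (n : ℕ) : zpar S.z n ∈ S.E := by
  rcases zpar_mem (c := S.z) n with h | h <;> rw [h]
  exacts [one_mem _, S.hE.z_mem]

theorem el_mem (n : ℕ) : B.el n ∈ S.E :=
  mul_mem (mul_mem (zpar_E n) (B.X.F1_le_E (B.U_mem _))) (B.X.F2_le_E (B.W_mem _))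

theorem z_comm {x : G} (hx : x ∈ S.E) (n : ℕ) : Commute (zpar S.z n) x :=
  zpar_commute (S.hE.commute_z hx).symm n

theorem U_xor (u u' : ℕ) : B.U u * B.U u' = B.U (Nat.xor u u') :=
  gprod_add (fun i _ j _ => B.X.F1_comm (B.cU_mem i).1 (B.cU_mem j).1) (fun i _ => B.cU_sq i) u u'

theorem W_xor (w w' : ℕ) : B.W w * B.W w' = B.W (Nat.xor w w') :=
  gprod_add (fun i _ j _ => B.X.F2_comm (B.dW_mem i).1 (B.dW_mem j).1) (fun i _ => B.dW_sq i) w w'

theorem U_zero : B.U 0 = 1 := gprod_zero _ _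

theorem W_zero : B.W 0 = 1 := gprod_zero _ _

theorem U_sq (u : ℕ) : B.U u * B.U u = 1 := by
  rw [U_xor, show Nat.xor u u = 0 from Nat.xor_self u, U_zero]

theorem W_sq (w : ℕ) : B.W w * B.W w = 1 := by
  rw [W_xor, show Nat.xor w w = 0 from Nat.xor_self w, W_zero]

theorem U_single {j : ℕ} (hj : j < 6) : B.U (2 ^ j) = B.cU j := (gprod_single _ j 6).trans (if_pos hj)

theorem W_single {j : ℕ} (hj : j < 6) : B.W (2 ^ j) = B.dW j := (gprod_single _ j 6).trans (if_pos hj)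

/-- The commutator of the two fixed spaces is the pairing. -/
theorem UW_rel {u w : ℕ} (hu : u < 64) (hw : w < 64) :
    B.U u * B.W w = B.W w * B.U u * zpar S.z (pairB u w) := by
  have hz : ∀ {x : G}, x ∈ S.E → Commute S.z x := fun hx => (S.hE.commute_z hx).symm
  have h1 : ∀ j < 6, B.cU j * B.W w = B.W w * B.cU j *
      zpar S.z (xfold (fun k => pairB (2 ^ j) (2 ^ k)) w 6) := by
    intro j hj
    have hb : ∀ k < 6, B.dW k * B.cU j = B.cU j * B.dW k * zpar S.z (pairB (2 ^ j) (2 ^ k)) := fun k hk => by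
      rw [B.basis_rel hj hk, mul_assoc, zpar_sq S.z_sq, mul_one]
    have h2 := gprod_past (f := B.dW) (y := B.cU j) (e := fun k => pairB (2 ^ j) (2 ^ k)) S.z_sq
      (fun k _ => hz (B.dW_E k)) hb w
    change B.cU j * B.W w = B.W w * B.cU j * _
    rw [show B.W w * B.cU j = _ from h2, mul_assoc, zpar_sq S.z_sq, mul_one]
    rfl
  have h3 := gprod_past (f := B.cU) (y := B.W w) (e := fun j => xfold (fun k => pairB (2 ^ j) (2 ^ k)) w 6) S.z_sq
    (fun j _ => hz (B.cU_E j)) h1 u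
  rwa [show xfold (fun j => xfold (fun k => pairB (2 ^ j) (2 ^ k)) w 6) u 6 = pairB u w from
    pairB_table ⟨u, hu⟩ ⟨w, hw⟩] at h3

theorem pairB_low (u w : ℕ) (hu : u < 64) (hw : w < 64) : pairB u w / 2 = 0 :=
  Nat.div_eq_of_lt (pairB_lt ⟨u, hu⟩ ⟨w, hw⟩)

theorem el_mul {m : ℕ} (hm : m < 8192) (n : ℕ) : B.el m * B.el n = B.el (emul m n) := by
  have hu : eU n < 64 := eU_lt n
  have hw : eW m < 64 := eW_lt hm
  set χ := pairB (eU n) (eW m) with hχ
  have hχ2 : χ < 2 := pairB_lt ⟨_, hu⟩ ⟨_, hw⟩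
  have hbit : ∀ i, 1 ≤ i → χ.testBit i = false := fun i hi =>
    Nat.testBit_lt_two_pow (hχ2.trans_le (Nat.le_self_pow (by omega) 2))
  have eu : eU (emul m n) = Nat.xor (eU m) (eU n) := by
    refine Nat.eq_of_testBit_eq fun i => ?_
    show ((((m ^^^ n) ^^^ χ) >>> 1) &&& 63).testBit i = (((m >>> 1) &&& 63) ^^^ ((n >>> 1) &&& 63)).testBit i
    simp only [Nat.testBit_and, Nat.testBit_xor, Nat.testBit_shiftRight, hbit (1 + i) (by omega)]
    cases m.testBit (1 + i) <;> cases n.testBit (1 + i) <;> cases Nat.testBit 63 i <;> rfl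
  have ew : eW (emul m n) = Nat.xor (eW m) (eW n) := by
    refine Nat.eq_of_testBit_eq fun i => ?_
    show (((m ^^^ n) ^^^ χ) >>> 7).testBit i = ((m >>> 7) ^^^ (n >>> 7)).testBit i
    simp only [Nat.testBit_xor, Nat.testBit_shiftRight, hbit (7 + i) (by omega), Bool.xor_false]
  have ez : zpar S.z (emul m n) = zpar S.z m * zpar S.z n * zpar S.z χ := by
    show zpar S.z (Nat.xor (Nat.xor m n) χ) = _
    rw [zpar_xor S.z_sq, zpar_xor S.z_sq]
  have hUW : B.W (eW m) * B.U (eU n) = B.U (eU n) * B.W (eW m) * zpar S.z χ := by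
    rw [B.UW_rel hu hw, mul_assoc, zpar_sq S.z_sq, mul_one]
  unfold el
  rw [eu, ew, ez, ← U_xor, ← W_xor]
  have hU : ∀ k u, Commute (zpar S.z k) (B.U u) := fun k u => z_comm (B.X.F1_le_E (B.U_mem u)) k
  have hW : ∀ k w, Commute (zpar S.z k) (B.W w) := fun k w => z_comm (B.X.F2_le_E (B.W_mem w)) k
  calc zpar S.z m * B.U (eU m) * B.W (eW m) * (zpar S.z n * B.U (eU n) * B.W (eW n))
      = zpar S.z m * (B.U (eU m) * (B.W (eW m) * zpar S.z n)) * B.U (eU n) * B.W (eW n) := by group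
    _ = zpar S.z m * ((B.U (eU m) * zpar S.z n) * B.W (eW m)) * B.U (eU n) * B.W (eW n) := by
        rw [← (hW n _).eq]; group
    _ = zpar S.z m * zpar S.z n * B.U (eU m) * (B.W (eW m) * B.U (eU n)) * B.W (eW n) := by
        rw [← (hU n _).eq]; group
    _ = zpar S.z m * zpar S.z n * B.U (eU m) * B.U (eU n) * (B.W (eW m) * zpar S.z χ) * B.W (eW n) := by
        rw [hUW]; group
    _ = zpar S.z m * zpar S.z n * (B.U (eU m) * B.U (eU n) * zpar S.z χ) * B.W (eW m) * B.W (eW n) := by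
        rw [← (hW χ _).eq]; group
    _ = _ := by
        rw [← ((hU χ (eU m)).mul_right (hU χ (eU n))).eq]; group

theorem el_zero : B.el 0 = 1 := by
  show zpar S.z 0 * B.U 0 * B.W 0 = 1
  rw [zpar_zero, U_zero, W_zero, one_mul, one_mul]

theorem U_mul_W_eq {u w : ℕ} (hu : u < 64) (hw : w < 64) {t : G} (ht : t ∈ Subgroup.zpowers S.z)
    (h : B.U u * B.W w = t) : u = 0 ∧ w = 0 ∧ t = 1 := by
  have hu0 : u = 0 := by
    refine pairB_left ⟨u, hu⟩ fun w' => ?_
    by_contra hne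
    have hUe : B.U u = t * B.W w := by rw [← h, mul_assoc, W_sq, mul_one]
    have hc : Commute (B.U u) (B.W w'.1) := by
      rw [hUe]
      exact (Frame.commute_z_zpowers (S := S) (S.hE.commute_z (B.X.F2_le_E (B.W_mem _))) ht).symm.mul_left
        (B.X.F2_comm (B.W_mem _) (B.W_mem _))
    have h2 := B.UW_rel hu w'.2
    have h1 : pairB u w'.1 = 1 := by have := pairB_lt ⟨u, hu⟩ w'; simp only at this hne; omega
    rw [h1, zpar_one, hc.eq] at h2
    exact S.hE.z_ne_one (mul_eq_left.1 h2.symm)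
  subst hu0
  rw [U_zero, one_mul] at h
  have hw0 : w = 0 := by
    refine pairB_right ⟨w, hw⟩ fun u => ?_
    by_contra hne
    have hc : Commute (B.U u.1) (B.W w) := by
      rw [h]; exact Frame.commute_z_zpowers (S := S) (S.hE.commute_z (B.X.F1_le_E (B.U_mem _))) ht
    have h2 := B.UW_rel u.2 hw
    have h1 : pairB u.1 w = 1 := by have := pairB_lt u ⟨w, hw⟩; simp only at this hne; omega
    rw [h1, zpar_one, hc.eq] at h2
    exact S.hE.z_ne_one (mul_eq_left.1 h2.symm)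
  subst hw0
  rw [W_zero] at h
  exact ⟨rfl, rfl, h.symm⟩

theorem el_injective {m n : ℕ} (hm : m < 8192) (hn : n < 8192) (h : B.el m = B.el n) : m = n := by
  have h' : B.el (emul m n) = B.el (emul n n) := by rw [← B.el_mul hm, ← B.el_mul hn, h]
  have key : ∀ k, B.el k ∈ Subgroup.zpowers S.z → k < 8192 → eU k = 0 ∧ eW k = 0 := by
    intro k hk hk2
    have hzm : zpar S.z k ∈ Subgroup.zpowers S.z := by
      rcases zpar_mem (c := S.z) k with e | e <;> rw [e]
      exacts [one_mem _, Subgroup.mem_zpowers _]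
    have e : B.U (eU k) * B.W (eW k) = (zpar S.z k)⁻¹ * B.el k := by rw [el]; group
    exact ⟨(B.U_mul_W_eq (eU_lt k) (eW_lt hk2) (mul_mem (inv_mem hzm) hk) e).1,
      (B.U_mul_W_eq (eU_lt k) (eW_lt hk2) (mul_mem (inv_mem hzm) hk) e).2.1⟩
  have hlt : ∀ a b, a < 8192 → b < 8192 → emul a b < 8192 := fun a b ha hb =>
    Nat.xor_lt_two_pow (n := 13) (Nat.xor_lt_two_pow (n := 13) ha hb)
      ((show pairB (eU b) (eW a) < 2 from pairB_lt ⟨_, eU_lt b⟩ ⟨_, eW_lt ha⟩).trans (by norm_num))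
  have hnn : emul n n = pairB (eU n) (eW n) := by
    show Nat.xor (Nat.xor n n) _ = _
    rw [show Nat.xor n n = 0 from Nat.xor_self n, show Nat.xor 0 _ = _ from Nat.zero_xor _]
  have hz : B.el (emul n n) ∈ Subgroup.zpowers S.z := by
    have hp : pairB (eU n) (eW n) < 2 := pairB_lt ⟨_, eU_lt n⟩ ⟨_, eW_lt hn⟩
    rw [hnn]
    interval_cases pairB (eU n) (eW n)
    · rw [el_zero]; exact one_mem _
    · show zpar S.z 1 * B.U 0 * B.W 0 ∈ _
      rw [zpar_one, U_zero, W_zero, mul_one, mul_one]; exact Subgroup.mem_zpowers _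
  obtain ⟨h1, h2⟩ := key _ (h' ▸ hz) (hlt m n hm hn)
  -- so both parts agree
  have hbit : ∀ i, 1 ≤ i → (emul m n).testBit i = xor (m.testBit i) (n.testBit i) := fun i hi => by
    show ((m ^^^ n) ^^^ pairB (eU n) (eW m)).testBit i = _
    rw [Nat.testBit_xor, Nat.testBit_xor, Nat.testBit_lt_two_pow
      ((show pairB (eU n) (eW m) < 2 from pairB_lt ⟨_, eU_lt n⟩ ⟨_, eW_lt hm⟩).trans_le
        (Nat.le_self_pow (by omega) 2)), Bool.xor_false]
  have hdiv : m / 2 = n / 2 := by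
    refine Nat.eq_of_testBit_eq fun i => ?_
    rw [Nat.testBit_div_two, Nat.testBit_div_two]
    have h3 : (emul m n).testBit (i + 1) = false := by
      by_cases hi : i < 6
      · have := congrArg (fun k => k.testBit i) h1
        simp only [eU, Nat.zero_testBit] at this
        have h63 : Nat.testBit 63 i = true := by interval_cases i <;> rfl
        change (((emul m n) >>> 1) &&& 63).testBit i = false at this
        rwa [Nat.testBit_and, Nat.testBit_shiftRight, h63, Bool.and_true, add_comm] at this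
      · have := congrArg (fun k => k.testBit (i - 6)) h2
        simp only [eW, Nat.zero_testBit] at this
        change ((emul m n) >>> 7).testBit (i - 6) = false at this
        rwa [Nat.testBit_shiftRight, show 7 + (i - 6) = i + 1 by omega] at this
    rw [hbit _ (by omega)] at h3
    revert h3
    cases m.testBit (i + 1) <;> cases n.testBit (i + 1) <;> simp
  have he : eU m = eU n ∧ eW m = eW n := by
    constructor
    · show (m >>> 1) &&& 63 = (n >>> 1) &&& 63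
      rw [Nat.shiftRight_eq_div_pow, Nat.shiftRight_eq_div_pow, pow_one, hdiv]
    · show m >>> 7 = n >>> 7
      rw [Nat.shiftRight_eq_div_pow, Nat.shiftRight_eq_div_pow, show (2 : ℕ) ^ 7 = 2 * 64 from rfl,
        ← Nat.div_div_eq_div_mul, ← Nat.div_div_eq_div_mul, hdiv]
  unfold el at h
  rw [he.1, he.2, mul_left_inj, mul_left_inj] at h
  have h0 : m.testBit 0 = n.testBit 0 := by
    unfold zpar at h
    revert h
    cases m.testBit 0 <;> cases n.testBit 0 <;> simp [S.hE.z_ne_one, (S.hE.z_ne_one).symm]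
  rw [Nat.testBit_zero, Nat.testBit_zero, decide_eq_decide] at h0
  omega

theorem el_surjective {x : G} (hx : x ∈ S.E) : ∃ n < 8192, B.el n = x := by
  classical
  haveI : Fintype G := Fintype.ofFinite G
  let f : Fin 8192 → S.E := fun n => ⟨B.el n.1, B.el_mem _⟩
  have hf : Function.Injective f := fun m n e => Fin.ext (B.el_injective m.2 n.2 (congrArg Subtype.val e))
  have hbij : Function.Bijective f :=
    hf.bijective_of_nat_card_le (by rw [S.hcard, Nat.card_fin]; norm_num)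
  obtain ⟨n, hn⟩ := hbij.2 ⟨x, hx⟩
  exact ⟨n.1, n.2, congrArg Subtype.val hn⟩

theorem emul_lt {a b : ℕ} (ha : a < 8192) (hb : b < 8192) : emul a b < 8192 :=
  Nat.xor_lt_two_pow (n := 13) (Nat.xor_lt_two_pow (n := 13) ha hb)
    ((show pairB (eU b) (eW a) < 2 from pairB_lt ⟨_, eU_lt b⟩ ⟨_, eW_lt ha⟩).trans (by norm_num))

theorem efold_lt {f : ℕ → ℕ} {n : ℕ} (hf : ∀ j < n, f j < 8192) (m : ℕ) : efold f m n < 8192 := by
  induction n with
  | zero => show (0 : ℕ) < 8192; norm_num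
  | succ n ih =>
    rw [efold_succ]
    refine emul_lt (ih fun j hj => hf j (by omega)) ?_
    split_ifs
    exacts [hf n (by omega), by norm_num]

theorem el_efold {f : ℕ → ℕ} {g : ℕ → G} {n : ℕ} (hf : ∀ j < n, f j < 8192)
    (hg : ∀ j < n, g j = B.el (f j)) (m : ℕ) : gprod g m n = B.el (efold f m n) := by
  induction n with
  | zero => exact B.el_zero.symm
  | succ n ih =>
    rw [gprod_succ, efold_succ, ← B.el_mul (efold_lt (fun j hj => hf j (by omega)) m),
      ih (fun j hj => hf j (by omega)) (fun j hj => hg j (by omega))]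
    congr 1
    split_ifs
    exacts [hg n (by omega), B.el_zero.symm]

theorem el_land (n : ℕ) : B.el (Nat.land n 1) = zpar S.z n := by
  have h1 : Nat.land n 1 = n % 2 := Nat.and_one_is_mod n
  have hz : zpar S.z (n % 2) = zpar S.z n := by simp [zpar, Nat.testBit_zero]
  rw [h1, el, hz]
  have : eU (n % 2) = 0 ∧ eW (n % 2) = 0 := by
    rcases Nat.mod_two_eq_zero_or_one n with e | e <;> rw [e] <;> exact ⟨rfl, rfl⟩
  rw [this.1, this.2, U_zero, W_zero, mul_one, mul_one]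

/-- Conjugation in coordinates. -/
theorem conj_el {g : G} (hg : Commute g S.z) {iU iW : ℕ → ℕ} (hU : ∀ j < 6, iU j < 8192) (hW : ∀ j < 6, iW j < 8192)
    (hgU : ∀ j < 6, g * B.cU j * g⁻¹ = B.el (iU j)) (hgW : ∀ j < 6, g * B.dW j * g⁻¹ = B.el (iW j)) (n : ℕ) :
    g * B.el n * g⁻¹ = B.el (eFold iU iW n) := by
  have hcg : ∀ (f : ℕ → G) (m : ℕ), g * gprod f m 6 * g⁻¹ = gprod (fun j => g * f j * g⁻¹) m 6 :=
    fun f m => gprod_map (MulAut.conj g).toMonoidHom f m 6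
  have h1 : g * B.U (eU n) * g⁻¹ = B.el (efold iU (eU n) 6) := by
    rw [U, hcg]; exact B.el_efold hU hgU _
  have h2 : g * B.W (eW n) * g⁻¹ = B.el (efold iW (eW n) 6) := by
    rw [W, hcg]; exact B.el_efold hW hgW _
  have h0 : g * zpar S.z n * g⁻¹ = B.el (Nat.land n 1) := by
    rw [el_land, ← (zpar_commute hg.symm n).eq, mul_inv_cancel_right]
  have hb : Nat.land n 1 < 8192 := Nat.lt_of_le_of_lt Nat.and_le_right (by norm_num)
  calc g * B.el n * g⁻¹ = (g * zpar S.z n * g⁻¹) * (g * B.U (eU n) * g⁻¹) * (g * B.W (eW n) * g⁻¹) := by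
        rw [el]; group
    _ = _ := by
        rw [h0, h1, h2, B.el_mul hb, B.el_mul (emul_lt hb (efold_lt hU _))]
        rfl

theorem el_U {u : ℕ} (hu : u < 64) : B.el (Nat.shiftLeft u 1) = B.U u := by
  have : eU (Nat.shiftLeft u 1) = u ∧ eW (Nat.shiftLeft u 1) = 0 ∧ Nat.shiftLeft u 1 % 2 = 0 := by
    refine ⟨?_, ?_, ?_⟩ <;>
      simp only [eU, eW, show Nat.shiftLeft u 1 = u <<< 1 from rfl, show ∀ a b, Nat.land a b = a &&& b from fun _ _ => rfl,
        show ∀ a b, Nat.shiftRight a b = a >>> b from fun _ _ => rfl, Nat.shiftRight_eq_div_pow, Nat.shiftLeft_eq,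
        show (63 : ℕ) = 2 ^ 6 - 1 from rfl, Nat.and_two_pow_sub_one_eq_mod] <;> omega
  rw [el, this.1, this.2.1, W_zero, mul_one]
  simp [zpar, Nat.testBit_zero, this.2.2]

theorem el_W {w : ℕ} (hw : w < 64) : B.el (Nat.shiftLeft w 7) = B.W w := by
  have : eU (Nat.shiftLeft w 7) = 0 ∧ eW (Nat.shiftLeft w 7) = w ∧ Nat.shiftLeft w 7 % 2 = 0 := by
    refine ⟨?_, ?_, ?_⟩ <;>
      simp only [eU, eW, show Nat.shiftLeft w 7 = w <<< 7 from rfl, show ∀ a b, Nat.land a b = a &&& b from fun _ _ => rfl,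
        show ∀ a b, Nat.shiftRight a b = a >>> b from fun _ _ => rfl, Nat.shiftRight_eq_div_pow, Nat.shiftLeft_eq,
        show (63 : ℕ) = 2 ^ 6 - 1 from rfl, Nat.and_two_pow_sub_one_eq_mod] <;> omega
  rw [el, this.1, this.2.1, U_zero, mul_one]
  simp [zpar, Nat.testBit_zero, this.2.2]

end HexBase

end CfsgLib.JankoFour
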