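import Cfsg.Agent.Lib.JankoFourHexad.Fusion

/-!
# Sylow counting in the normalizer of an elementary abelian group (owner: helper28)

`A` is an invariant subgroup of order `2 ^ a`, `a` odd, whose pointwise stabilizer in `N` is contained in
`V`, and `s` has prime order `p` with `2` of order `a` modulo `p`.
-/

set_option autoImplicit false
set_option linter.unusedSectionVars false

namespace CfsgLib.JankoFour

open Cfsg CfsgLib.ThreeTrans

variable {G : Type*} [Group G] [Finite G]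

/-- The hypotheses of the counting argument. -/
structure CountData (N V A : Subgroup G) (a p : ℕ) : Prop where
  hVN : V ≤ N
  hV : IsElementaryAbelian 2 V
  hVn : N ≤ Subgroup.normalizer (V : Set G)
  hAV : A ≤ V
  hAn : N ≤ Subgroup.normalizer (A : Set G)
  hA : Nat.card A = 2 ^ a
  hodd : Odd a
  hcent : ∀ x ∈ N, (∀ y ∈ A, Commute x y) → x ∈ V
  hp : p.Prime
  hp2 : p ≠ 2
  hord : ∀ k, 1 ≤ k → k < a → 2 ^ k % p ≠ 1

namespace CountData

variable {N V A : Subgroup G} {a p : ℕ} (D : CountData N V A a p)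
include D

/-- Fixed points of an element of order `p` on `A` are trivial. -/
theorem fixed_bot {s : G} (hs : s ∈ N) (hsp : orderOf s = p) :
    A ⊓ Subgroup.centralizer ({s} : Set G) = ⊥ := by
  haveI : Fact p.Prime := ⟨D.hp⟩
  haveI : Fact (Nat.Prime 2) := ⟨Nat.prime_two⟩
  set K := A ⊓ Subgroup.centralizer ({s} : Set G)
  obtain ⟨k, hk⟩ := IsPGroup.iff_card.1 ((IsPGroup.of_card (n := a) D.hA).to_le (inf_le_left : K ≤ A))
  have hle := Subgroup.card_le_of_le (inf_le_left : K ≤ A)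
  rw [hk, D.hA] at hle
  have hka : k ≤ a := (Nat.pow_le_pow_iff_right (by norm_num : 1 < 2)).1 hle
  have hmod := fixed_modEq (p := p) (IsPGroup.of_card (n := 1) (by rw [Nat.card_zpowers, hsp, pow_one])) A (D.hAn hs)
  rw [D.hA, hk] at hmod
  have hne : k ≠ a := fun e => by
    have hKA : K = A := Subgroup.eq_of_le_of_card_ge inf_le_left (by rw [hk, e, D.hA])
    have hsV : s ∈ V := D.hcent s hs fun y hy =>
      (show Commute y s from mem_centralizer_singleton_iff'.1 (hKA.symm ▸ hy : y ∈ K).2).symm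
    have h2 := orderOf_dvd_of_pow_eq_one (D.hV.2 s hsV)
    rw [hsp] at h2
    exact D.hp2 ((Nat.prime_dvd_prime_iff_eq D.hp Nat.prime_two).1 h2)
  have hcop : Nat.Coprime p (2 ^ k) := ((Nat.coprime_primes D.hp Nat.prime_two).2 D.hp2).pow_right k
  have h1 : 2 ^ (a - k) ≡ 1 [MOD p] := by
    refine Nat.ModEq.cancel_left_of_coprime (c := 2 ^ k) hcop ?_
    rw [← pow_add, Nat.add_sub_cancel' hka, mul_one]
    exact hmod
  rw [Nat.ModEq, Nat.mod_eq_of_lt D.hp.one_lt] at h1
  by_contra hb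
  have hk0 : k ≠ 0 := fun e => hb (Subgroup.eq_bot_of_card_le _ (by rw [hk, e, pow_zero]))
  exact D.hord (a - k) (by omega) (by omega) h1

/-- An element commuting with `s` and fixing a non-identity element of `A` lies in `V`. -/
theorem cent_mem {s x : G} (hs : s ∈ N) (hsp : orderOf s = p) (hx : x ∈ N)
    (hc : ∀ y ∈ A, x * (s * y * s⁻¹) * x⁻¹ = s * (x * y * x⁻¹) * s⁻¹)
    {y0 : G} (hy0 : y0 ∈ A) (hy1 : y0 ≠ 1) (hfx : Commute x y0) : x ∈ V := by
  haveI : Fact p.Prime := ⟨D.hp⟩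
  haveI : Fact (Nat.Prime 2) := ⟨Nat.prime_two⟩
  set M := A ⊓ Subgroup.centralizer ({x} : Set G)
  have hMs : s ∈ Subgroup.normalizer (M : Set G) := by
    have hle : M.map (MulAut.conj s).toMonoidHom ≤ M := by
      rintro _ ⟨y, hy, rfl⟩
      refine ⟨(Subgroup.mem_normalizer_iff.1 (D.hAn hs) y).1 hy.1, mem_centralizer_singleton_iff'.2 ?_⟩
      have h := hc y hy.1
      rw [show x * y * x⁻¹ = y by rw [(mem_centralizer_singleton_iff'.1 hy.2).symm, mul_inv_cancel_right]] at h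
      exact (mul_inv_eq_iff_eq_mul.1 h).symm
    exact norm_of_map (Subgroup.eq_of_le_of_card_ge hle
      (by rw [Subgroup.card_map_of_injective (MulAut.conj s).injective]))
  have hmod := fixed_modEq (p := p) (IsPGroup.of_card (n := 1) (by rw [Nat.card_zpowers, hsp, pow_one])) M hMs
  have hbot : M ⊓ Subgroup.centralizer ({s} : Set G) = ⊥ :=
    le_bot_iff.1 (le_trans (inf_le_inf_right _ inf_le_left) (D.fixed_bot hs hsp).le)
  rw [hbot, Subgroup.card_bot] at hmod
  obtain ⟨k, hk⟩ := IsPGroup.iff_card.1 ((IsPGroup.of_card (n := a) D.hA).to_le (inf_le_left : M ≤ A))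
  have hle := Subgroup.card_le_of_le (inf_le_left : M ≤ A)
  rw [hk, D.hA] at hle
  have hka : k ≤ a := (Nat.pow_le_pow_iff_right (by norm_num : 1 < 2)).1 hle
  have hk0 : k ≠ 0 := fun e => hy1 (Subgroup.mem_bot.1 ((Subgroup.eq_bot_of_card_le M (by rw [hk, e, pow_zero])) ▸
    (⟨hy0, mem_centralizer_singleton_iff'.2 hfx.symm.eq⟩ : y0 ∈ M)))
  rw [hk, Nat.ModEq, Nat.mod_eq_of_lt D.hp.one_lt] at hmod
  have hka' : k = a := by
    by_contra hne
    exact D.hord k (by omega) (by omega) hmod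
  have hMA : M = A := Subgroup.eq_of_le_of_card_ge inf_le_left (by rw [hk, hka', D.hA])
  exact D.hcent x hx fun y hy => (show Commute y x from mem_centralizer_singleton_iff'.1 (hMA.symm ▸ hy : y ∈ M).2).symm

/-- The square of the number of fixed points of an element acting as an involution is at least the order. -/
theorem card_le_sq {x : G} (hx : x ∈ N) (hx2 : ∀ y ∈ A, x * (x * y * x⁻¹) * x⁻¹ = y) :
    2 ^ a ≤ Nat.card ↥(A ⊓ Subgroup.centralizer ({x} : Set G)) *
      Nat.card ↥(A ⊓ Subgroup.centralizer ({x} : Set G)) := by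
  set M := A ⊓ Subgroup.centralizer ({x} : Set G)
  have hnorm : ∀ y ∈ A, x * y * x⁻¹ ∈ A := fun y hy => (Subgroup.mem_normalizer_iff.1 (D.hAn hx) y).1 hy
  have hcomm : ∀ {u v : G}, u ∈ A → v ∈ A → Commute u v := fun hu hv =>
    congrArg Subtype.val (D.hV.1.1.1 ⟨_, D.hAV hu⟩ ⟨_, D.hAV hv⟩)
  let ψ : ↥A →* G := MonoidHom.mk' (fun y => (y : G) * (x * y * x⁻¹)) fun y y' => by
    show (y : G) * y' * (x * ((y : G) * y') * x⁻¹) = (y : G) * (x * y * x⁻¹) * ((y' : G) * (x * y' * x⁻¹))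
    rw [(hcomm y.2 y'.2).eq]
    calc (y' : G) * y * (x * ((y' : G) * y) * x⁻¹) = (y' : G) * y * (x * y' * x⁻¹) * (x * y * x⁻¹) := by group
      _ = (y' : G) * ((x * y' * x⁻¹) * y) * (x * y * x⁻¹) := by rw [← (hcomm y.2 (hnorm _ y'.2)).eq]; group
      _ = (y' * (x * y' * x⁻¹)) * ((y : G) * (x * y * x⁻¹)) := by group
      _ = _ := (hcomm (mul_mem y'.2 (hnorm _ y'.2)) (mul_mem y.2 (hnorm _ y.2))).eq
  have hrange : ψ.range ≤ M := by
    rintro _ ⟨y, rfl⟩
    refine ⟨mul_mem y.2 (hnorm _ y.2), mem_centralizer_singleton_iff'.2 (Commute.symm (mul_inv_eq_iff_eq_mul.1 ?_)).eq⟩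
    show x * ((y : G) * (x * y * x⁻¹)) * x⁻¹ = (y : G) * (x * y * x⁻¹)
    calc x * ((y : G) * (x * y * x⁻¹)) * x⁻¹ = (x * y * x⁻¹) * (x * (x * y * x⁻¹) * x⁻¹) := by group
      _ = _ := by rw [hx2 _ y.2]; exact (hcomm (hnorm _ y.2) y.2).eq
  have hker : ψ.ker.map A.subtype ≤ M := by
    rintro _ ⟨y, hy, rfl⟩
    refine ⟨y.2, mem_centralizer_singleton_iff'.2 ?_⟩
    have h1 : (y : G) * (x * y * x⁻¹) = 1 := hy
    have h2 : (y : G) * y = 1 := by rw [← pow_two]; exact D.hV.2 _ (D.hAV y.2)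
    have h3 : x * y * x⁻¹ = y := (inv_eq_of_mul_eq_one_right h1).symm.trans (inv_eq_of_mul_eq_one_right h2)
    exact (mul_inv_eq_iff_eq_mul.1 h3).symm
  have h := ψ.ker.card_mul_index
  rw [Subgroup.index_ker, D.hA] at h
  rw [← h]
  refine Nat.mul_le_mul ?_ (Subgroup.card_le_of_le hrange)
  rw [← Subgroup.card_map_of_injective A.subtype_injective (K := ψ.ker)]
  exact Subgroup.card_le_of_le hker

/-- A two-element normalizing the subgroup of order `p` lies in `V`. -/
theorem two_mem {s : G} (hs : s ∈ N) (hsp : orderOf s = p) :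
    ∀ (n : ℕ) {x : G}, x ∈ N → x * s * x⁻¹ ∈ Subgroup.zpowers s → x ^ 2 ^ n = 1 → x ∈ V := by
  haveI : Fact p.Prime := ⟨D.hp⟩
  haveI : Fact (Nat.Prime 2) := ⟨Nat.prime_two⟩
  intro n
  induction n with
  | zero => intro x _ _ h; rw [pow_zero, pow_one] at h; rw [h]; exact one_mem _
  | succ n ih =>
    intro x hx hxs hxn
    obtain ⟨k, hk⟩ := hxs
    have hk' : x * s * x⁻¹ = s ^ k := hk.symm
    have e2 : x * x * s * (x * x)⁻¹ = s ^ (k * k) := by
      calc x * x * s * (x * x)⁻¹ = x * (x * s * x⁻¹) * x⁻¹ := by group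
        _ = _ := by rw [hk', ← conj_zpow, hk', zpow_mul]
    have hxxV : x * x ∈ V := ih (mul_mem hx hx) ⟨k * k, e2.symm⟩
      (by rw [← pow_two, ← pow_mul, ← pow_succ']; exact hxn)
    have hx2 : ∀ y ∈ A, x * (x * y * x⁻¹) * x⁻¹ = y := fun y hy => by
      rw [show x * (x * y * x⁻¹) * x⁻¹ = x * x * y * (x * x)⁻¹ by group,
        show x * x * y = y * (x * x) from congrArg Subtype.val (D.hV.1.1.1 ⟨_, hxxV⟩ ⟨_, D.hAV hy⟩), mul_inv_cancel_right]
    have hxxs : x * x * s * (x * x)⁻¹ = s := by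
      have h1 : x * x * s * (x * x)⁻¹ * s⁻¹ ∈ V := by
        rw [show x * x * s * (x * x)⁻¹ * s⁻¹ = x * x * (s * (x * x)⁻¹ * s⁻¹) by group]
        exact mul_mem hxxV ((Subgroup.mem_normalizer_iff.1 (D.hVn hs) _).1 (inv_mem hxxV))
      have h2 : x * x * s * (x * x)⁻¹ * s⁻¹ = s ^ (k * k - 1) := by rw [e2, zpow_sub_one]
      rw [h2] at h1
      have h3 : (s ^ (k * k - 1)) ^ (2 : ℕ) = 1 := D.hV.2 _ h1
      have h4 : (s ^ (k * k - 1)) ^ p = 1 := by
        rw [← zpow_natCast, ← zpow_mul, mul_comm, zpow_mul, zpow_natCast, ← hsp, pow_orderOf_eq_one, one_zpow]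
      have := pow_gcd_eq_one.2 (And.intro h3 h4)
      rw [Nat.coprime_comm.1 ((Nat.coprime_primes D.hp Nat.prime_two).2 D.hp2), pow_one] at this
      rwa [← h2, mul_inv_eq_one] at this
    have hkk : ((k * k : ℤ) : ZMod p) = 1 := by
      have h : s ^ (k * k) = s ^ (1 : ℤ) := by rw [zpow_one, ← e2, hxxs]
      have h2 := zpow_eq_zpow_iff_modEq.1 h
      rw [hsp] at h2
      have := (ZMod.intCast_eq_intCast_iff _ _ p).2 h2
      simpa using this
    have hk1 : x * s * x⁻¹ = s ∨ x * s * x⁻¹ = s⁻¹ := by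
      push_cast at hkk
      rcases mul_self_eq_one_iff.1 hkk with e | e
      · left
        rw [hk']
        nth_rewrite 2 [← zpow_one s]
        rw [zpow_eq_zpow_iff_modEq, hsp]
        exact (ZMod.intCast_eq_intCast_iff _ _ p).1 (by simpa using e)
      · right
        rw [hk', ← zpow_neg_one, zpow_eq_zpow_iff_modEq, hsp]
        exact (ZMod.intCast_eq_intCast_iff _ _ p).1 (by simpa using e)
    have ha0 : a ≠ 0 := fun e => by have := D.hodd; rw [e] at this; simp at this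
    have hM := D.card_le_sq hx hx2
    rcases hk1 with e | e
    · have hc : Commute x s := mul_inv_eq_iff_eq_mul.1 e
      obtain ⟨y0, hy0, hy1⟩ : ∃ y0 ∈ A ⊓ Subgroup.centralizer ({x} : Set G), y0 ≠ 1 := by
        by_contra hno
        simp only [not_exists, not_and, not_not] at hno
        rw [(Subgroup.eq_bot_iff_forall _).2 hno, Subgroup.card_bot] at hM
        have := Nat.pow_le_pow_right (by norm_num : 0 < 2) (Nat.one_le_iff_ne_zero.2 ha0)
        omega
      refine D.cent_mem hs hsp hx (fun y _ => ?_) hy0.1 hy1 (mem_centralizer_singleton_iff'.1 hy0.2 : Commute y0 x).symm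
      calc x * (s * y * s⁻¹) * x⁻¹ = (x * s) * y * (x * s)⁻¹ := by group
        _ = _ := by rw [hc.eq]; group
    · exfalso
      have hy : x * s * (x * s) = x * x * ((x⁻¹ * s * x) * s) := by group
      have hinv : x⁻¹ * s * x = s⁻¹ := by
        have h : x * s⁻¹ * x⁻¹ = s := by rw [← conj_inv, e, inv_inv]
        calc x⁻¹ * s * x = x⁻¹ * (x * s⁻¹ * x⁻¹) * x := by rw [h]
          _ = _ := by group
      rw [hinv, inv_mul_cancel, mul_one] at hy
      have hxs2 : ∀ y ∈ A, x * s * (x * s * y * (x * s)⁻¹) * (x * s)⁻¹ = y := fun y hy' => by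
        rw [show x * s * (x * s * y * (x * s)⁻¹) * (x * s)⁻¹ = x * s * (x * s) * y * (x * s * (x * s))⁻¹ by group, hy,
          show x * x * y = y * (x * x) from congrArg Subtype.val (D.hV.1.1.1 ⟨_, hxxV⟩ ⟨_, D.hAV hy'⟩), mul_inv_cancel_right]
      have hM' := D.card_le_sq (mul_mem hx hs) hxs2
      set M1 := A ⊓ Subgroup.centralizer ({x} : Set G)
      set M2 := A ⊓ Subgroup.centralizer ({x * s} : Set G)
      have hinj : Function.Injective (fun w : ↥M1 × ↥M2 => (⟨(w.1 : G) * w.2, mul_mem w.1.2.1 w.2.2.1⟩ : ↥A)) := by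
        rintro ⟨u, v⟩ ⟨u', v'⟩ e'
        have e'' : (u : G) * v = u' * v' := congrArg Subtype.val e'
        have hm : (u' : G)⁻¹ * u = (v' : G) * (v : G)⁻¹ := by
          calc (u' : G)⁻¹ * u = (u' : G)⁻¹ * (u * v) * (v : G)⁻¹ := by group
            _ = _ := by rw [e'']; group
        have hm1 : (u' : G)⁻¹ * u ∈ M1 := mul_mem (inv_mem u'.2) u.2
        have hm2 : (u' : G)⁻¹ * u ∈ M2 := hm ▸ mul_mem v'.2 (inv_mem v.2)
        have hms : (u' : G)⁻¹ * u ∈ A ⊓ Subgroup.centralizer ({s} : Set G) := by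
          refine ⟨hm1.1, mem_centralizer_singleton_iff'.2 ?_⟩
          have c1 : Commute ((u' : G)⁻¹ * u) x := mem_centralizer_singleton_iff'.1 hm1.2
          have c2 : Commute ((u' : G)⁻¹ * u) (x * s) := mem_centralizer_singleton_iff'.1 hm2.2
          have := c1.inv_right.mul_right c2
          rwa [inv_mul_cancel_left] at this
        rw [D.fixed_bot hs hsp, Subgroup.mem_bot] at hms
        have hu : u = u' := Subtype.ext (inv_mul_eq_one.1 hms).symm
        subst hu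
        exact Prod.ext rfl (Subtype.ext (mul_left_cancel e''))
      have hle := Nat.card_le_card_of_injective _ hinj
      rw [Nat.card_prod, D.hA] at hle
      obtain ⟨i, hi⟩ := IsPGroup.iff_card.1 ((IsPGroup.of_card (n := a) D.hA).to_le (inf_le_left : M1 ≤ A))
      obtain ⟨j, hj⟩ := IsPGroup.iff_card.1 ((IsPGroup.of_card (n := a) D.hA).to_le (inf_le_left : M2 ≤ A))
      rw [hi, ← pow_add] at hM
      rw [hj, ← pow_add] at hM'
      rw [hi, hj, ← pow_add] at hle
      have h2 : 1 < 2 := by norm_num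
      rw [Nat.pow_le_pow_iff_right h2] at hM hM' hle
      obtain ⟨r, hr⟩ := D.hodd
      omega

/-- An element of an odd prime order prime to `p - 1` and to `2 ^ a - 1` does not normalize. -/
theorem odd_absurd {s x : G} (hs : s ∈ N) (hsp : orderOf s = p) {q : ℕ} (hq : q.Prime) (hq2 : q ≠ 2)
    (hqp : ¬ q ∣ p - 1) (hqa : 2 ^ a % q ≠ 1) (hx : x ∈ N) (hxo : orderOf x = q)
    (hxs : x * s * x⁻¹ ∈ Subgroup.zpowers s) : False := by
  haveI : Fact q.Prime := ⟨hq⟩
  haveI : Fact p.Prime := ⟨D.hp⟩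
  obtain ⟨k, hk⟩ := hxs
  have hk' : x * s * x⁻¹ = s ^ k := hk.symm
  have hpow : ∀ n : ℕ, x ^ n * s * (x ^ n)⁻¹ = s ^ (k ^ n) := by
    intro n
    induction n with
    | zero => simp
    | succ n ih =>
      calc x ^ (n + 1) * s * (x ^ (n + 1))⁻¹ = x ^ n * (x * s * x⁻¹) * (x ^ n)⁻¹ := by group
        _ = _ := by rw [hk', ← conj_zpow, ih, ← zpow_mul, pow_succ]
  have h1 : s ^ (k ^ q) = s ^ (1 : ℤ) := by rw [← hpow, ← hxo, pow_orderOf_eq_one]; simp
  rw [zpow_eq_zpow_iff_modEq, hsp, ← ZMod.intCast_eq_intCast_iff] at h1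
  push_cast at h1
  have hk1 : (k : ZMod p) = 1 := by
    have hne : (k : ZMod p) ≠ 0 := fun e => by
      rw [e, zero_pow hq.ne_zero] at h1
      exact zero_ne_one h1
    have h2 : (k : ZMod p) ^ Nat.gcd q (p - 1) = 1 := pow_gcd_eq_one.2 ⟨h1, ZMod.pow_card_sub_one_eq_one hne⟩
    rwa [(hq.coprime_iff_not_dvd.2 hqp), pow_one] at h2
  have hc : Commute x s := by
    refine mul_inv_eq_iff_eq_mul.1 ?_
    rw [hk']
    nth_rewrite 2 [← zpow_one s]
    rw [zpow_eq_zpow_iff_modEq, hsp]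
    exact (ZMod.intCast_eq_intCast_iff _ _ p).1 (by simpa using hk1)
  have hmod := fixed_modEq (p := q) (IsPGroup.of_card (n := 1) (by rw [Nat.card_zpowers, hxo, pow_one])) A (D.hAn hx)
  obtain ⟨y0, hy0, hy1⟩ : ∃ y0 ∈ A ⊓ Subgroup.centralizer ({x} : Set G), y0 ≠ 1 := by
    by_contra hno
    simp only [not_exists, not_and, not_not] at hno
    rw [(Subgroup.eq_bot_iff_forall _).2 hno, Subgroup.card_bot, D.hA, Nat.ModEq, Nat.mod_eq_of_lt hq.one_lt] at hmod
    exact hqa hmod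
  have hxV := D.cent_mem hs hsp hx (fun y _ => by
    calc x * (s * y * s⁻¹) * x⁻¹ = (x * s) * y * (x * s)⁻¹ := by group
      _ = _ := by rw [hc.eq]; group) hy0.1 hy1 (mem_centralizer_singleton_iff'.1 hy0.2 : Commute y0 x).symm
  have := orderOf_dvd_of_pow_eq_one (D.hV.2 x hxV)
  rw [hxo] at this
  exact hq2 ((Nat.prime_dvd_prime_iff_eq hq Nat.prime_two).1 this)

/-- Sylow's congruence for the normalizer of the subgroup of order `p`. -/
theorem exists_norm_data (hdiv : p ∣ Nat.card N) (hsq : ¬ p * p ∣ Nat.card N) :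
    ∃ M : Subgroup G, ∃ s ∈ N, orderOf s = p ∧ M ≤ N ∧ s ∈ M ∧ (∀ x ∈ M, x * s * x⁻¹ ∈ Subgroup.zpowers s) ∧
      (∀ x ∈ N, x * s = s * x → x ∈ M) ∧ ∃ n, n % p = 1 ∧ n * Nat.card M = Nat.card N := by
  haveI : Fact p.Prime := ⟨D.hp⟩
  obtain ⟨P⟩ : Nonempty (Sylow p ↥N) := inferInstance
  obtain ⟨n, hn⟩ := IsPGroup.iff_card.1 P.2
  have hn1 : n = 1 := by
    have hd : p ^ n ∣ Nat.card N := hn ▸ Subgroup.card_subgroup_dvd_card _
    have h1 : n < 2 := by
      by_contra hc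
      exact hsq (pow_two p ▸ (pow_dvd_pow p (by omega : 2 ≤ n)).trans hd)
    have h2 : n ≠ 0 := fun e => by
      have := P.not_dvd_index
      have hci := (P : Subgroup ↥N).card_mul_index
      rw [hn, e, pow_zero, one_mul] at hci
      rw [hci] at this
      exact this hdiv
    omega
  rw [hn1, pow_one] at hn
  obtain ⟨s, hs⟩ := exists_prime_orderOf_dvd_card' (G := ↥(P : Subgroup ↥N)) p hn.symm.dvd
  have hgen : (P : Subgroup ↥N) = Subgroup.zpowers (s : ↥N) := by
    refine (Subgroup.eq_of_le_of_card_ge (Subgroup.zpowers_le.2 s.2) ?_).symm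
    rw [hn, Nat.card_zpowers, Subgroup.orderOf_coe, hs]
  refine ⟨(Subgroup.normalizer ((P : Subgroup ↥N) : Set ↥N)).map N.subtype, ((s : ↥N) : G), (s : ↥N).2,
    by rw [Subgroup.orderOf_coe, Subgroup.orderOf_coe, hs], Subgroup.map_subtype_le _,
    ⟨(s : ↥N), Subgroup.le_normalizer s.2, rfl⟩, ?_, ?_, Nat.card (Sylow p ↥N), ?_, ?_⟩
  · rintro _ ⟨x, hx, rfl⟩
    have h := (Subgroup.mem_normalizer_iff.1 hx (s : ↥N)).1 s.2
    obtain ⟨k, hk⟩ := (SetLike.ext_iff.1 hgen _).1 h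
    exact ⟨k, by have := congrArg Subtype.val hk; simpa using this⟩
  · intro x hxN hc
    refine ⟨⟨x, hxN⟩, ?_, rfl⟩
    have hcomm : ∀ y ∈ (P : Subgroup ↥N), (⟨x, hxN⟩ : ↥N) * y = y * ⟨x, hxN⟩ := by
      intro y hy
      rw [hgen] at hy
      obtain ⟨k, rfl⟩ := hy
      exact ((show Commute (⟨x, hxN⟩ : ↥N) (s : ↥N) from Subtype.ext hc).zpow_right k).eq
    exact Subgroup.centralizer_le_normalizer _ (Subgroup.mem_centralizer_iff.2 fun y hy => (hcomm y hy).symm)
  · have h := card_sylow_modEq_one p ↥N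
    rwa [Nat.ModEq, Nat.mod_eq_of_lt D.hp.one_lt] at h
  · rw [Subgroup.card_map_of_injective N.subtype_injective, P.card_eq_index_normalizer, mul_comm]
    exact Subgroup.card_mul_index _

end CountData

end CfsgLib.JankoFour
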