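import Cfsg.Agent.Lib.JankoFourHexad.HexFrame

/-!
# The two four-dimensional 2-groups and their fixed points in the extraspecial group (owner: helper28)

`Kt` is the elementary abelian lift of the first hexad group, `F1` its centralizer in `E`, of order `2 ^ 7`;
`Kt2`, `F2` are their conjugates under `n2`.  `F1` and `F2` meet in the centre on every plane.
-/

set_option autoImplicit false

namespace CfsgLib.JankoFour

open Cfsg CfsgLib.ThreeTrans
open CfsgLib.JankoFour.M22 (Grp)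
open CfsgLib.JankoFourHexad

variable {G : Type*} [Group G] [Finite G]

namespace Frame

variable {S : Setting G} (F : Frame S) {t : G}

/-- An element fixed modulo the centre is fixed. -/
theorem commute_of_fixMod {i : ℕ} (h : F.Acts i t) {e : G} (he : e ∈ F.fixMod i h) : Commute t e := by
  set e1 := F.p * e * F.p⁻¹ with he1
  set e2 := F.p * e1 * F.p⁻¹ with he2
  have hcz : ∀ {a b : G}, a ∈ F.fixMod i h → b ∈ F.fixMod i h →
      delta t (a * b) = delta t a * delta t b := by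
    intro a b ha hb
    rw [show delta t (a * b) = delta t a * (a * delta t b * a⁻¹) by simp only [delta]; group,
      (commute_z_zpowers (S := S) (S.hE.commute_z (F.W_le_E ha.1)) hb.2).eq, mul_inv_cancel_right]
  have hconst : ∀ {a : G}, a ∈ F.fixMod i h → delta t (F.p * a * F.p⁻¹) = delta t a := fun {a} ha => by
    rw [F.delta_p h, (commute_z_zpowers (S := S) (commute_z F.hpC) ha.2).eq, mul_inv_cancel_right]
  have he1' := F.p_fixMod h he
  have he2' := F.p_fixMod h he1'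
  have hsum : e * e1 * e2 ∈ Subgroup.zpowers S.z :=
    orbit_mem F.hpC F.p_pow (F.W_le_E he.1) fun c hc hcp _ => F.fixed_p hc hcp
  have h0 : delta t (e * e1 * e2) = 1 := by
    rcases S.hE.eq_or hsum with e' | e' <;> rw [e', delta]
    · simp
    · rw [h.hz.eq, mul_inv_cancel_right, mul_inv_cancel]
  rw [hcz (mul_mem he he1') he2', hcz he he1', (hconst he1').trans (hconst he), hconst he] at h0
  have hsq : delta t e * delta t e = 1 := by
    rcases S.hE.eq_or he.2 with e' | e' <;> rw [e'] <;> simp [S.z_sq]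
  rw [hsq, one_mul] at h0
  exact mul_inv_eq_iff_eq_mul.1 (mul_inv_eq_one.1 h0)

/-- A product over the three planes is central only if the first factor is. -/
theorem indep_zero {x y u : G} (hx : x ∈ F.W 0) (hy : y ∈ F.W 1) (hu : u ∈ F.W 2)
    (h : x * y * u ∈ Subgroup.zpowers S.z) :
    x ∈ Subgroup.zpowers S.z ∧ y ∈ Subgroup.zpowers S.z ∧ u ∈ Subgroup.zpowers S.z := by
  have hE : ∀ {i : ℕ} {a : G}, a ∈ F.W i → a ∈ S.E := fun ha => F.W_le_E ha
  have hc : ∀ {a : G}, a ∈ S.E → Commute a (x * y * u) := fun ha =>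
    commute_z_zpowers (S := S) (S.hE.commute_z ha) h
  have ex : x ∈ Subgroup.zpowers S.z := F.center_W 0 hx fun a ha => by
    have h1 := hc (hE ha)
    have h2 : Commute a (y * u) := (F.commute_W (by decide) ha hy).mul_right (F.commute_W (by decide) ha hu)
    have := h1.mul_right h2.inv_right
    rwa [show x * y * u * (y * u)⁻¹ = x by group] at this
  have ey : y ∈ Subgroup.zpowers S.z := F.center_W 1 hy fun a ha => by
    have h1 := hc (hE ha)
    have h2 : Commute a x := F.commute_W (by decide) ha hx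
    have h3 : Commute a u := F.commute_W (by decide) ha hu
    have := (h2.inv_right.mul_right h1).mul_right h3.inv_right
    rwa [show x⁻¹ * (x * y * u) * u⁻¹ = y by group] at this
  refine ⟨ex, ey, ?_⟩
  have := mul_mem (inv_mem (mul_mem ex ey)) h
  rwa [inv_mul_cancel_left] at this

/-- The commutator of a product over the planes. -/
theorem delta_prod {x y u : G} (h : ∀ i, F.Acts i t) (hx : x ∈ F.W 0) (hy : y ∈ F.W 1) (hu : u ∈ F.W 2) :
    delta t (x * y * u) = delta t x * delta t y * delta t u := by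
  rw [show delta t (x * y * u) = delta t x * (x * delta t y * x⁻¹) * (x * (y * delta t u * y⁻¹) * x⁻¹) by
    simp only [delta]; group,
    (F.commute_W (by decide) hy ((h 2).delta_mem F hu)).eq, mul_inv_cancel_right,
    (F.commute_W (by decide) hx ((h 2).delta_mem F hu)).eq, mul_inv_cancel_right,
    (F.commute_W (by decide) hx ((h 1).delta_mem F hy)).eq, mul_inv_cancel_right]

/-- A subgroup of `E` invariant under `a * p ^ i` contains the components on that plane of its elements. -/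
theorem component_mem {M : Subgroup G} (hzM : S.z ∈ M) {i : ℕ}
    (hinv : ∀ e ∈ M, F.el i * e * (F.el i)⁻¹ ∈ M) {j k : ℕ} (hij : i % 3 ≠ j % 3) (hik : i % 3 ≠ k % 3)
    (hjk : j % 3 ≠ k % 3) {x y u : G} (hx : x ∈ F.W i) (hy : y ∈ F.W j) (hu : u ∈ F.W k)
    (hm : x * y * u ∈ M) : x ∈ M := by
  set g := F.el i with hg
  have hgC : g ∈ S.C := F.el_mem i
  have hgz : Commute g S.z := commute_z hgC
  have hel : ∀ l, Commute g (F.el l) := fun l => by
    have c := F.commute_p F.haC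
    rw [hg, el, el]
    exact ((Commute.refl F.a).mul_right (c.pow_right l)).mul_left
      (((c.pow_right i).symm).mul_right ((Commute.refl F.p).pow_pow i l))
  have hE : ∀ {l : ℕ} {a : G}, a ∈ F.W l → a ∈ S.E := fun ha => F.W_le_E ha
  have hW : ∀ {l : ℕ} {a : G}, a ∈ F.W l → g * a * g⁻¹ ∈ F.W l := fun ha =>
    S.commute_fixE (hel _) hgz ha
  have hprod : ∀ {l : ℕ}, i % 3 ≠ l % 3 → ∀ {a : G}, a ∈ F.W l →
      a * (g * a * g⁻¹) * (g * (g * a * g⁻¹) * g⁻¹) ∈ Subgroup.zpowers S.z := by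
    intro l hl a ha
    refine orbit_mem hgC (F.el_pow i) (hE ha) fun c hcE hcx hc => ?_
    refine F.fixed_two hl (S.mem_fixE.2 ⟨hcE, hcx⟩) ?_
    have hm' : a * (g * a * g⁻¹) * (g * (g * a * g⁻¹) * g⁻¹) ∈ F.W l := mul_mem (mul_mem ha (hW ha)) (hW (hW ha))
    rcases hc with rfl | rfl
    exacts [hm', mul_mem hm' (F.z_mem l)]
  have hgx : g * x * g⁻¹ = x := by rw [((S.mem_fixE.1 hx).2).symm.eq, mul_inv_cancel_right]
  set y1 := g * y * g⁻¹ with hy1
  set u1 := g * u * g⁻¹ with hu1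
  set y2 := g * y1 * g⁻¹ with hy2
  set u2 := g * u1 * g⁻¹ with hu2
  have hm1 : x * y1 * u1 ∈ M := by
    have := hinv _ hm
    rwa [show g * (x * y * u) * g⁻¹ = (g * x * g⁻¹) * y1 * u1 by rw [hy1, hu1]; group, hgx] at this
  have hm2 : x * y2 * u2 ∈ M := by
    have := hinv _ hm1
    rwa [show g * (x * y1 * u1) * g⁻¹ = (g * x * g⁻¹) * y2 * u2 by rw [hy2, hu2]; group, hgx] at this
  have cxy : ∀ {a : G}, a ∈ F.W j → Commute x a := fun ha => F.commute_W hij hx ha
  have cxu : ∀ {a : G}, a ∈ F.W k → Commute x a := fun ha => F.commute_W hik hx ha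
  have cyu : ∀ {a b : G}, a ∈ F.W j → b ∈ F.W k → Commute a b := fun ha hb => F.commute_W hjk ha hb
  have e : x * y * u * (x * y1 * u1) * (x * y2 * u2) = x * x * x * ((y * y1 * y2) * (u * u1 * u2)) := by
    have c1 : Commute (y * u) x := ((cxy hy).mul_right (cxu hu)).symm
    have c2 : Commute (y * u * (y1 * u1)) x :=
      c1.mul_left ((cxy (hW hy)).mul_right (cxu (hW hu))).symm
    have c3 : Commute u y1 := (cyu (hW hy) hu).symm
    have c4 : Commute (u * u1) y2 := ((cyu (hW (hW hy)) hu).mul_right (cyu (hW (hW hy)) (hW hu))).symm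
    calc x * y * u * (x * y1 * u1) * (x * y2 * u2)
        = x * (y * u) * (x * (y1 * u1)) * (x * (y2 * u2)) := by group
      _ = x * x * x * (y * u * (y1 * u1) * (y2 * u2)) := by
        rw [c1.mul_mul_mul_comm, c2.mul_mul_mul_comm]
      _ = _ := by rw [c3.mul_mul_mul_comm y u1, c4.mul_mul_mul_comm (y * y1) u2]
  have hz : ∀ c ∈ Subgroup.zpowers S.z, c ∈ M := fun c hc => Subgroup.zpowers_le.2 hzM hc
  have h3 : x * x * x * ((y * y1 * y2) * (u * u1 * u2)) ∈ M := e ▸ mul_mem (mul_mem hm hm1) hm2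
  have h4 := mul_mem h3 (inv_mem (hz _ (mul_mem (hprod hij hy) (hprod hik hu))))
  rw [mul_inv_cancel_right] at h4
  have h5 := mul_mem (inv_mem (hz _ (S.hE.sq_mem (hE hx)))) h4
  rwa [inv_mul_cancel_left] at h5

end Frame

namespace HexFrame

variable {S : Setting G} (X : HexFrame S)

/-- The four lifts. -/
def kl (i : ℕ) : G := [X.F.v, X.F.w, X.n1 * X.F.v * X.n1⁻¹, X.n1 * X.F.w * X.n1⁻¹].getD i 1

/-- Their images. -/
noncomputable abbrev ke (i : ℕ) : Grp := kEl (S.f X.F.v) (S.f X.F.w) (S.f X.n1) i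

theorem hww : X.F.w * X.F.w = 1 := by rw [← X.F.hw, conj_mul, X.hvv, mul_one, mul_inv_cancel]

theorem kl_mem (i : ℕ) : X.kl i ∈ S.C := by
  rcases i with _ | _ | _ | _ | i
  exacts [X.F.hvC, X.F.hwC, mul_mem (mul_mem X.hn1 X.F.hvC) (inv_mem X.hn1),
    mul_mem (mul_mem X.hn1 X.F.hwC) (inv_mem X.hn1), one_mem _]

theorem kl_sq (i : ℕ) : X.kl i * X.kl i = 1 := by
  rcases i with _ | _ | _ | _ | i
  · exact X.hvv
  · exact X.hww
  · show X.n1 * X.F.v * X.n1⁻¹ * (X.n1 * X.F.v * X.n1⁻¹) = 1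
    rw [conj_mul, X.hvv, mul_one, mul_inv_cancel]
  · show X.n1 * X.F.w * X.n1⁻¹ * (X.n1 * X.F.w * X.n1⁻¹) = 1
    rw [conj_mul, X.hww, mul_one, mul_inv_cancel]
  · exact mul_one 1

theorem f_kl (i : ℕ) : S.f (X.kl i) = X.ke i := by
  rcases i with _ | _ | _ | _ | i
  · rfl
  · rfl
  · exact S.f_conj_C X.hn1 X.F.hvC
  · exact S.f_conj_C X.hn1 X.F.hwC
  · exact S.f_one

theorem kl_commute (i j : ℕ) : Commute (X.kl i) (X.kl j) := by
  refine S.inv_commute (X.kl_mem i) (X.kl_mem j) (X.kl_sq i) (X.kl_sq j) ?_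
  rw [X.f_kl, X.f_kl]
  have hmem : ∀ l, X.ke l ∈ [S.f X.F.v, S.f X.F.w, S.f X.n1 * S.f X.F.v * (S.f X.n1)⁻¹,
      S.f X.n1 * S.f X.F.w * (S.f X.n1)⁻¹] ∨ X.ke l = 1 := by
    intro l
    rcases l with _ | _ | _ | _ | l
    all_goals first
      | exact Or.inr rfl
      | exact Or.inl (by simp [ke, kEl])
  rcases hmem i with h | h
  · rcases hmem j with h' | h'
    · exact X.hex.comm _ h _ h'
    · rw [h']; exact Commute.one_right _
  · rw [h]; exact Commute.one_left _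

theorem prod4_mem {H : Subgroup G} {k : ℕ → G} (h : ∀ i < 4, k i ∈ H) (n : ℕ) : prod4 k n ∈ H := by
  unfold prod4
  refine mul_mem (mul_mem (mul_mem ?_ ?_) ?_) ?_ <;> split_ifs <;>
    first | exact one_mem _ | exact h _ (by norm_num)

theorem f_prod4 (n : ℕ) : S.f (prod4 X.kl n) = prod4 X.ke n := by
  have hi : ∀ (b : Bool) (i : ℕ), (if b then X.kl i else 1) ∈ S.C := fun b i => by
    split_ifs; exacts [X.kl_mem i, one_mem _]
  unfold prod4
  rw [S.f_mul_C (mul_mem (mul_mem (hi _ _) (hi _ _)) (hi _ _)) (hi _ _),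
    S.f_mul_C (mul_mem (hi _ _) (hi _ _)) (hi _ _), S.f_mul_C (hi _ _) (hi _ _)]
  simp only [apply_ite S.f, X.f_kl, S.f_one]

theorem prod4_sq (n : ℕ) : prod4 X.kl n * prod4 X.kl n = 1 := by
  have hc : ∀ (b b' : Bool) (i j : ℕ), Commute (if b then X.kl i else 1) (if b' then X.kl j else 1) :=
    fun b b' i j => by
      split_ifs
      exacts [X.kl_commute i j, Commute.one_right _, Commute.one_left _, Commute.one_left _]
  have hs : ∀ (b : Bool) (i : ℕ), (if b then X.kl i else 1) * (if b then X.kl i else 1) = 1 := fun b i => by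
    split_ifs; exacts [X.kl_sq i, mul_one 1]
  have h2 : ∀ {a b : G}, Commute a b → a * a = 1 → b * b = 1 → a * b * (a * b) = 1 := fun {a b} hab ha hb => by
    rw [mul_assoc, ← mul_assoc b, ← hab.eq, mul_assoc, hb, mul_one, ha]
  unfold prod4
  exact h2 (((hc _ _ _ _).mul_left (hc _ _ _ _)).mul_left (hc _ _ _ _))
    (h2 ((hc _ _ _ _).mul_left (hc _ _ _ _)) (h2 (hc _ _ _ _) (hs _ _) (hs _ _)) (hs _ _)) (hs _ _)

/-- The lift of the first hexad group. -/
def Kt : Subgroup G := Subgroup.closure (Set.range (fun i : Fin 4 => X.kl i.1) ∪ {S.z})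

theorem kl_Kt {i : ℕ} (hi : i < 4) : X.kl i ∈ X.Kt := Subgroup.subset_closure (Or.inl ⟨⟨i, hi⟩, rfl⟩)

theorem z_Kt : S.z ∈ X.Kt := Subgroup.subset_closure (Or.inr rfl)

/-- An element acting on the images by a table normalizes the lift. -/
theorem norm_Kt {g : G} (hg : g ∈ S.C) (tb : ℕ → ℕ)
    (h : ∀ i < 4, S.f g * X.ke i * (S.f g)⁻¹ = prod4 X.ke (tb i)) :
    g ∈ Subgroup.normalizer (X.Kt : Set G) := by
  have hle : X.Kt ≤ X.Kt.comap (MulAut.conj g).toMonoidHom := by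
    refine (Subgroup.closure_le _).2 ?_
    rintro x (⟨⟨i, hi⟩, rfl⟩ | rfl)
    · show g * X.kl i * g⁻¹ ∈ X.Kt
      have h4 : ∀ {x : G}, x * x = 1 → x ^ 4 = 1 := fun {x} hx => by
        rw [show 4 = 2 * 2 from rfl, pow_mul, pow_two x, hx, one_pow]
      have hmem : prod4 X.kl (tb i) ∈ X.Kt := prod4_mem (fun j hj => X.kl_Kt hj) _
      rcases S.lift_eq (prod4_mem (fun j _ => X.kl_mem j) (tb i)) (mul_mem (mul_mem hg (X.kl_mem i)) (inv_mem hg))
        (h4 (X.prod4_sq _)) (h4 (by rw [conj_mul, X.kl_sq, mul_one, mul_inv_cancel]))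
        (by rw [X.f_prod4, S.f_conj_C hg (X.kl_mem i), X.f_kl, h i hi]) with e | e <;> rw [e]
      exacts [hmem, mul_mem hmem X.z_Kt]
    · show g * S.z * g⁻¹ ∈ X.Kt
      rw [((S.mem_C.1 hg).1).eq, mul_inv_cancel_right]
      exact X.z_Kt
  rw [Subgroup.mem_normalizer_iff]
  intro x
  refine ⟨fun hx => hle hx, fun hx => ?_⟩
  have heq : X.Kt.map (MulAut.conj g).toMonoidHom = X.Kt :=
    Subgroup.eq_of_le_of_card_ge (Subgroup.map_le_iff_le_comap.2 hle)
      (by rw [Subgroup.card_map_of_injective (MulAut.conj g).injective])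
  rw [← heq] at hx
  obtain ⟨y, hy, e⟩ := hx
  rwa [show y = x from (MulAut.conj g).injective e] at hy

theorem norm_a : X.F.a ∈ Subgroup.normalizer (X.Kt : Set G) := X.norm_Kt X.F.haC tabR X.tab.hR
theorem norm_b : X.F.b ∈ Subgroup.normalizer (X.Kt : Set G) := X.norm_Kt X.F.hbC tabS X.tab.hS
theorem norm_c : X.c ∈ Subgroup.normalizer (X.Kt : Set G) := X.norm_Kt X.hc tabC X.tab.hC
theorem norm_n1 : X.n1 ∈ Subgroup.normalizer (X.Kt : Set G) := X.norm_Kt X.hn1 tabN1 X.tab.hN1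
theorem norm_n22 : X.n2 * X.n2 ∈ Subgroup.normalizer (X.Kt : Set G) := X.norm_Kt (mul_mem X.hn2 X.hn2) tabN2
  (fun i hi => by
    rw [S.f_mul_C X.hn2 X.hn2, ← X.tab.hN2 i hi]; group)

/-- The second lift normalized by the same elements. -/
theorem norm_conj {g : G} (hg : g ∈ S.C) (tb : ℕ → ℕ)
    (h : ∀ i < 4, S.f g * (S.f X.n2 * X.ke i * (S.f X.n2)⁻¹) * (S.f g)⁻¹ =
      S.f X.n2 * prod4 X.ke (tb i) * (S.f X.n2)⁻¹) :
    X.n2⁻¹ * g * X.n2 ∈ Subgroup.normalizer (X.Kt : Set G) := by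
  have hn2i := inv_mem X.hn2
  refine X.norm_Kt (mul_mem (mul_mem hn2i hg) X.hn2) tb fun i hi => ?_
  rw [S.f_mul_C (mul_mem hn2i hg) X.hn2, S.f_mul_C hn2i hg, S.f_inv_C X.hn2]
  rw [show (S.f X.n2)⁻¹ * S.f g * S.f X.n2 * X.ke i * ((S.f X.n2)⁻¹ * S.f g * S.f X.n2)⁻¹ =
    (S.f X.n2)⁻¹ * (S.f g * (S.f X.n2 * X.ke i * (S.f X.n2)⁻¹) * (S.f g)⁻¹) * S.f X.n2 by group, h i hi]
  group

/-- The fixed points of the first lift in the extraspecial group. -/
def F1 : Subgroup G := S.E ⊓ Subgroup.centralizer (X.Kt : Set G)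

/-- The fixed points of the second lift. -/
def F2 : Subgroup G := X.F1.map (MulAut.conj X.n2).toMonoidHom

theorem mem_F1_iff {e : G} : e ∈ X.F1 ↔ e ∈ S.E ∧ ∀ i < 4, Commute (X.kl i) e := by
  constructor
  · rintro ⟨he, hc⟩
    exact ⟨he, fun i hi => Subgroup.mem_centralizer_iff.1 hc _ (X.kl_Kt hi)⟩
  · rintro ⟨he, hc⟩
    refine ⟨he, Subgroup.mem_centralizer_iff.2 fun x hx => ?_⟩
    induction hx using Subgroup.closure_induction with
    | mem x hx =>
      rcases hx with ⟨⟨i, hi⟩, rfl⟩ | rfl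
      exacts [(hc i hi).eq, (S.hE.commute_z he).eq.symm]
    | one => simp
    | mul x y _ _ hx hy => exact ((show Commute x e from hx).mul_left hy).eq
    | inv x _ hx => exact ((show Commute x e from hx).inv_left).eq

theorem conj_F1 {g : G} (hg : g ∈ S.C) (hn : g ∈ Subgroup.normalizer (X.Kt : Set G)) {e : G}
    (he : e ∈ X.F1) : g * e * g⁻¹ ∈ X.F1 := by
  refine ⟨S.hE.conj_mem (S.mem_C.1 hg).1 he.1, Subgroup.mem_centralizer_iff.2 fun x hx => ?_⟩
  have hx' : g⁻¹ * x * g ∈ X.Kt := by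
    have := (Subgroup.mem_normalizer_iff.1 (inv_mem hn) x).1 hx
    rwa [inv_inv] at this
  have h := Subgroup.mem_centralizer_iff.1 he.2 _ hx'
  calc x * (g * e * g⁻¹) = g * ((g⁻¹ * x * g) * e) * g⁻¹ := by group
    _ = g * (e * (g⁻¹ * x * g)) * g⁻¹ := by rw [h]
    _ = g * e * g⁻¹ * x := by group

theorem mem_F2_iff {e : G} : e ∈ X.F2 ↔ X.n2⁻¹ * e * X.n2 ∈ X.F1 := by
  constructor
  · rintro ⟨f, hf, rfl⟩
    show X.n2⁻¹ * (X.n2 * f * X.n2⁻¹) * X.n2 ∈ X.F1
    rwa [show X.n2⁻¹ * (X.n2 * f * X.n2⁻¹) * X.n2 = f by group]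
  · exact fun h => ⟨_, h, show X.n2 * (X.n2⁻¹ * e * X.n2) * X.n2⁻¹ = e by group⟩

theorem conj_F2 {g : G} (hg : g ∈ S.C) (hn : X.n2⁻¹ * g * X.n2 ∈ Subgroup.normalizer (X.Kt : Set G))
    {e : G} (he : e ∈ X.F2) : g * e * g⁻¹ ∈ X.F2 := by
  rw [X.mem_F2_iff] at he ⊢
  have := X.conj_F1 (mul_mem (mul_mem (inv_mem X.hn2) hg) X.hn2) hn he
  rwa [show X.n2⁻¹ * g * X.n2 * (X.n2⁻¹ * e * X.n2) * (X.n2⁻¹ * g * X.n2)⁻¹ =
    X.n2⁻¹ * (g * e * g⁻¹) * X.n2 by group] at this

theorem p_norm : X.F.p ∈ Subgroup.normalizer (X.Kt : Set G) :=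
  X.norm_Kt X.F.hpC (fun i => 2 ^ i) fun i hi => by
    rw [(S.f_eq_one_iff (S.C_le_H0 X.F.hpC)).2 (Subgroup.mem_sup_right X.F.hpP)]
    interval_cases i <;> simp [prod4, Nat.testBit_succ, Nat.div_eq_of_lt]

theorem p_norm2 : X.n2⁻¹ * X.F.p * X.n2 ∈ Subgroup.normalizer (X.Kt : Set G) := by
  rw [mul_assoc, (X.F.commute_p X.hn2).eq.symm, inv_mul_cancel_left]
  exact X.p_norm

/-- The moving involution of a plane. -/
def mover (i : ℕ) : G := if i % 3 = 2 then X.F.w else X.F.v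

theorem actsV (i : ℕ) : X.F.Acts i X.F.v := X.F.acts_of X.F.hvC X.hvv X.F.hav.symm i
theorem actsW (i : ℕ) : X.F.Acts i X.F.w := X.F.acts_of X.F.hwC X.hww X.F.haw.symm i

theorem b_v : X.F.b * X.F.v * X.F.b⁻¹ = X.F.w := X.F.hw

theorem w_trivial : ∀ e ∈ X.F.W 0, Commute X.F.w e := by
  intro e he
  have he' : e ∈ X.F.W (2 + 1) := by rw [← X.F.W_mod (2 + 1)]; exact he
  have hf : X.F.b⁻¹ * e * X.F.b ∈ X.F.W 2 := by
    have := S.conj_fixE (x := X.F.el (2 + 1)) ((Frame.commute_z X.F.hbC).inv_left) he'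
    rwa [show X.F.b⁻¹ * X.F.el (2 + 1) * X.F.b⁻¹⁻¹ = X.F.el 2 by
      rw [← X.F.b_el 2]; group, inv_inv] at this
  have := LargeData.commute_conj_iff' (g := X.F.b).2 (X.hvW _ hf)
  rwa [X.b_v, show X.F.b * (X.F.b⁻¹ * e * X.F.b) * X.F.b⁻¹ = e by group] at this

theorem vw_trivial : ∀ e ∈ X.F.W 1, Commute (X.F.v * X.F.w) e := by
  intro e he
  have hf : X.F.b⁻¹ * e * X.F.b ∈ X.F.W 0 := by
    have := S.conj_fixE (x := X.F.el (0 + 1)) ((Frame.commute_z X.F.hbC).inv_left) he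
    rwa [show X.F.b⁻¹ * X.F.el (0 + 1) * X.F.b⁻¹⁻¹ = X.F.el 0 by rw [← X.F.b_el 0]; group, inv_inv] at this
  have := LargeData.commute_conj_iff' (g := X.F.b).2 (X.w_trivial _ hf)
  rwa [X.hvw, show X.F.b * (X.F.b⁻¹ * e * X.F.b) * X.F.b⁻¹ = e by group] at this

theorem f_v_ne : S.f X.F.v ≠ 1 := X.hex.cfg.hv1
theorem f_w_ne : S.f X.F.w ≠ 1 := X.hex.cfg.hw1

/-- The moving involution moves. -/
theorem card_fix_v0 : Nat.card (X.F.fixMod 0 (X.actsV 0)) = 8 := by
  refine (X.F.plane_cases (X.actsV 0)).resolve_left fun h => X.f_v_ne ?_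
  have h1 : ∀ e ∈ X.F.W 1, Commute X.F.w e := fun e he => by
    have hf : X.F.b⁻¹ * e * X.F.b ∈ X.F.W 0 := by
      have := S.conj_fixE (x := X.F.el (0 + 1)) ((Frame.commute_z X.F.hbC).inv_left) he
      rwa [show X.F.b⁻¹ * X.F.el (0 + 1) * X.F.b⁻¹⁻¹ = X.F.el 0 by rw [← X.F.b_el 0]; group, inv_inv] at this
    have := LargeData.commute_conj_iff' (g := X.F.b).2 (h _ hf)
    rwa [X.b_v, show X.F.b * (X.F.b⁻¹ * e * X.F.b) * X.F.b⁻¹ = e by group] at this
  refine X.F.f_eq_one_of_fix X.F.hvC fun i hi e he => ?_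
  interval_cases i
  · exact h e he
  · have := (X.vw_trivial e he).mul_left (h1 e he).inv_left
    rwa [mul_inv_cancel_right] at this
  · exact X.hvW e he

theorem card_fix_v1 : Nat.card (X.F.fixMod 1 (X.actsV 1)) = 8 := by
  refine (X.F.plane_cases (X.actsV 1)).resolve_left fun h => X.f_v_ne ?_
  have h0 : ∀ e ∈ X.F.W 0, Commute X.F.v e := fun e he => by
    have hw1 : ∀ f ∈ X.F.W 1, Commute X.F.w f := fun f hf => by
      have := (h f hf).inv_left.mul_left (X.vw_trivial f hf)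
      rwa [inv_mul_cancel_left] at this
    have := hw1 _ (X.F.b_W he)
    rw [← X.b_v] at this
    exact LargeData.commute_conj_iff'.1 this
  refine X.F.f_eq_one_of_fix X.F.hvC fun i hi e he => ?_
  interval_cases i
  exacts [h0 e he, h e he, X.hvW e he]

theorem card_fix_w2 : Nat.card (X.F.fixMod 2 (X.actsW 2)) = 8 := by
  refine (X.F.plane_cases (X.actsW 2)).resolve_left fun h => X.f_v_ne ?_
  have h1 : ∀ e ∈ X.F.W 1, Commute X.F.v e := fun e he => by
    have := h _ (X.F.b_W he)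
    rw [← X.b_v] at this
    exact LargeData.commute_conj_iff'.1 this
  have hw1 : ∀ e ∈ X.F.W 1, Commute X.F.w e := fun e he => by
    have := (h1 e he).inv_left.mul_left (X.vw_trivial e he)
    rwa [inv_mul_cancel_left] at this
  refine X.F.f_eq_one_of_fix X.F.hvC fun i hi e he => ?_
  interval_cases i
  · have := hw1 _ (X.F.b_W he)
    rw [← X.b_v] at this
    exact LargeData.commute_conj_iff'.1 this
  exacts [h1 e he, X.hvW e he]

theorem delta_vw (e : G) : delta (X.F.v * X.F.w) e = X.F.v * delta X.F.w e * X.F.v⁻¹ * delta X.F.v e := by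
  simp only [delta]; group

/-- The pieces of the fixed points. -/
theorem kl_trivial {i : ℕ} (hi : i < 2) {c : G} (hc : c ∈ X.F.fixMod 0 (X.actsV 0) ∨
    c ∈ X.F.fixMod 1 (X.actsV 1) ∨ c ∈ X.F.fixMod 2 (X.actsW 2)) : Commute (X.kl i) c := by
  have hv : Commute X.F.v c ∧ Commute X.F.w c := by
    rcases hc with h | h | h
    · exact ⟨X.F.commute_of_fixMod _ h, X.w_trivial _ h.1⟩
    · have := X.F.commute_of_fixMod _ h
      refine ⟨this, ?_⟩
      have h2 := this.inv_left.mul_left (X.vw_trivial _ h.1)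
      rwa [inv_mul_cancel_left] at h2
    · exact ⟨X.hvW _ h.1, X.F.commute_of_fixMod _ h⟩
  interval_cases i
  exacts [hv.1, hv.2]

/-- An involution commuting with the first two and with `p` fixes the first piece. -/
theorem fix_piece0 {u : G} (hu : u ∈ S.C) (huu : u * u = 1) (huv : Commute u X.F.v) (huw : Commute u X.F.w)
    {c : G} (hc : c ∈ X.F.fixMod 0 (X.actsV 0)) : Commute u c := by
  classical
  set h0 := X.actsV 0
  have hE : ∀ {i : ℕ} {a : G}, a ∈ X.F.W i → a ∈ S.E := fun ha => X.F.W_le_E ha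
  have huz : Commute u S.z := (S.mem_C.1 hu).1
  -- the image of a commutator of `v` on the first plane
  have himg : ∀ d ∈ X.F.W 0, u * delta X.F.v d * u⁻¹ ∈ X.F.fixMod 0 h0 := by
    intro d hd
    obtain ⟨x, hx, y, hy, t, ht, e⟩ := X.F.decomp (S.hE.conj_mem huz (hE hd))
    have hdv : delta (X.F.v * X.F.w) d = delta X.F.v d := by
      rw [X.delta_vw, show delta X.F.w d = 1 by rw [delta, (X.w_trivial d hd).eq]; group]
      simp
    have huvw : Commute u (X.F.v * X.F.w) := huv.mul_right huw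
    have hcj : ∀ {g : G}, Commute u g → u * delta g d * u⁻¹ = delta g (u * d * u⁻¹) := fun {g} hg => by
      simp only [delta]
      rw [show g * (u * d * u⁻¹) * g⁻¹ = (g * u) * d * (g * u)⁻¹ by group, ← hg.eq]; group
    have e1 := hcj huv
    have e2 := hcj huvw
    rw [e, X.F.delta_prod X.actsV hx hy ht, show delta X.F.v t = 1 by rw [delta, (X.hvW t ht).eq]; group,
      mul_one] at e1
    have hactsVW : ∀ i, X.F.Acts i (X.F.v * X.F.w) := fun i => X.F.acts_of (mul_mem X.F.hvC X.F.hwC)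
      (by rw [mul_assoc, ← mul_assoc X.F.w, ← (X.hex.cfg.hvw |> fun h => S.inv_commute X.F.hvC X.F.hwC X.hvv X.hww h).eq,
        mul_assoc, X.hww, mul_one, X.hvv]) (X.F.hav.mul_right X.F.haw).symm i
    rw [hdv, e, X.F.delta_prod hactsVW hx hy ht,
      show delta (X.F.v * X.F.w) y = 1 by rw [delta, (X.vw_trivial y hy).eq]; group, mul_one] at e2
    have hy1 : delta X.F.v y ∈ Subgroup.zpowers S.z := by
      have hvy := (X.actsV 1).delta_mem X.F hy
      have ht1 := (hactsVW 2).delta_mem X.F ht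
      have hx1 := (X.actsV 0).delta_mem X.F hx
      have hx2 := (hactsVW 0).delta_mem X.F hx
      have heq : (delta (X.F.v * X.F.w) x)⁻¹ * delta X.F.v x * delta X.F.v y * (delta (X.F.v * X.F.w) t)⁻¹ = 1 := by
        have e3 := e1.symm.trans e2
        rw [mul_assoc (delta (X.F.v * X.F.w) x)⁻¹, e3, inv_mul_cancel_left, mul_inv_cancel]
      exact (X.F.indep_zero (mul_mem (inv_mem hx2) hx1) hvy (inv_mem ht1) (heq ▸ one_mem _)).2.1
    rw [e1]
    exact mul_mem (X.F.delta_fixMod h0 hx) (Subgroup.zpowers_le.2 (X.F.z_fixMod h0) hy1)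
  -- a noncentral commutator
  have hKW : X.F.fixMod 0 h0 < X.F.W 0 := lt_of_le_of_ne (X.F.fixMod_le h0) fun e => by
    have := X.card_fix_v0
    rw [e, X.F.card_W_all] at this
    omega
  obtain ⟨d, hd, hdK⟩ := SetLike.exists_of_lt hKW
  set c0 := delta X.F.v d with hc0
  have hc0z : c0 ∉ Subgroup.zpowers S.z := fun e => hdK ⟨hd, e⟩
  have hc0K : c0 ∈ X.F.fixMod 0 h0 := X.F.delta_fixMod h0 hd
  have hpu : ∀ x : G, u * (X.F.p * x * X.F.p⁻¹) * u⁻¹ = X.F.p * (u * x * u⁻¹) * X.F.p⁻¹ := fun x => by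
    rw [show u * (X.F.p * x * X.F.p⁻¹) * u⁻¹ = (u * X.F.p) * x * (u * X.F.p)⁻¹ by group, (X.F.commute_p hu).eq]
    group
  have hzc : ∀ {g : G}, Commute g S.z → ∀ w ∈ Subgroup.zpowers S.z, g * w * g⁻¹ = w := fun hg w hw => by
    rw [(Frame.commute_z_zpowers (S := S) hg hw).eq, mul_inv_cancel_right]
  have huu' : u * (u * c0 * u⁻¹) * u⁻¹ = c0 := by
    rw [show u * (u * c0 * u⁻¹) * u⁻¹ = (u * u) * c0 * (u * u)⁻¹ by group, huu]; simp
  have hfix : delta u c0 ∈ Subgroup.zpowers S.z := by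
    rcases X.F.fixMod_classes h0 X.card_fix_v0 hc0K hc0z (himg d hd) with e | e | e | e
    · refine absurd ?_ hc0z
      rw [← huu', hzc huz _ e]
      exact e
    · exact e
    all_goals
      obtain ⟨w, hw, hwe⟩ : ∃ w ∈ Subgroup.zpowers S.z, u * c0 * u⁻¹ = w * _ :=
        ⟨_, e, (inv_mul_cancel_right _ _).symm⟩
      have h2 := huu'
      rw [hwe, show ∀ x : G, u * (w * x) * u⁻¹ = (u * w * u⁻¹) * (u * x * u⁻¹) from fun x => by group,
        hzc huz w hw] at h2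
      have hdist : ∀ x : G, X.F.p * (w * x) * X.F.p⁻¹ = w * (X.F.p * x * X.F.p⁻¹) := fun x => by
        rw [show X.F.p * (w * x) * X.F.p⁻¹ = (X.F.p * w * X.F.p⁻¹) * (X.F.p * x * X.F.p⁻¹) by group,
          hzc (Frame.commute_z X.F.hpC) w hw]
      have hp3 : ∀ x : G, X.F.p * (X.F.p * (X.F.p * x * X.F.p⁻¹) * X.F.p⁻¹) * X.F.p⁻¹ = x := fun x => by
        rw [show X.F.p * (X.F.p * (X.F.p * x * X.F.p⁻¹) * X.F.p⁻¹) * X.F.p⁻¹ =
          X.F.p ^ 3 * x * (X.F.p ^ 3)⁻¹ by rw [pow_succ, pow_two]; group, X.F.p_pow]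
        simp
    · rw [hpu, hwe, hdist, ← mul_assoc] at h2
      refine absurd (X.F.p_fixed (hE hc0K.1) ?_) hc0z
      have h4 : X.F.p * (X.F.p * (X.F.p * c0 * X.F.p⁻¹) * X.F.p⁻¹) * X.F.p⁻¹ =
          X.F.p * ((w * w)⁻¹ * c0) * X.F.p⁻¹ :=
        congrArg (fun x => X.F.p * x * X.F.p⁻¹) (eq_inv_mul_iff_mul_eq.2 h2)
      rw [hp3, show X.F.p * ((w * w)⁻¹ * c0) * X.F.p⁻¹ = (X.F.p * (w * w)⁻¹ * X.F.p⁻¹) * (X.F.p * c0 * X.F.p⁻¹) by
        group, hzc (Frame.commute_z X.F.hpC) _ (inv_mem (mul_mem hw hw))] at h4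
      rw [show X.F.p * c0 * X.F.p⁻¹ = w * w * c0 from eq_mul_of_inv_mul_eq h4.symm, mul_inv_cancel_right]
      exact mul_mem hw hw
    · rw [hpu, hpu, hwe, hdist, hdist, hp3, ← mul_assoc] at h2
      refine absurd (X.F.p_fixed (hE hc0K.1) ?_) hc0z
      rw [show X.F.p * c0 * X.F.p⁻¹ = (w * w)⁻¹ * c0 from eq_inv_mul_iff_mul_eq.2 h2, mul_inv_cancel_right]
      exact inv_mem (mul_mem hw hw)
  -- the subgroup fixed by `u` modulo the centre
  have hdel : ∀ k ∈ X.F.fixMod 0 h0, delta u k ∈ Subgroup.zpowers S.z := by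
    intro k hk
    have hmulz : ∀ {x y : G}, delta u x ∈ Subgroup.zpowers S.z → delta u y ∈ Subgroup.zpowers S.z → x ∈ S.E →
        delta u (x * y) ∈ Subgroup.zpowers S.z := fun {x y} hx' hy' hx => by
      rw [show delta u (x * y) = delta u x * (x * delta u y * x⁻¹) by simp only [delta]; group,
        (Frame.commute_z_zpowers (S := S) (S.hE.commute_z hx) hy').eq, mul_inv_cancel_right]
      exact mul_mem hx' hy'
    have hzdel : ∀ w ∈ Subgroup.zpowers S.z, delta u w ∈ Subgroup.zpowers S.z := fun w hw => by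
      rw [delta, hzc huz w hw, mul_inv_cancel]; exact one_mem _
    have hpd : ∀ {x : G}, delta u x ∈ Subgroup.zpowers S.z →
        delta u (X.F.p * x * X.F.p⁻¹) ∈ Subgroup.zpowers S.z := fun {x} hx => by
      rw [delta, hpu, show X.F.p * (u * x * u⁻¹) * X.F.p⁻¹ * (X.F.p * x * X.F.p⁻¹)⁻¹ =
        X.F.p * delta u x * X.F.p⁻¹ by simp only [delta]; group, hzc (Frame.commute_z X.F.hpC) _ hx]
      exact hx
    have hmain : ∀ {r : G}, k * r⁻¹ ∈ Subgroup.zpowers S.z → delta u r ∈ Subgroup.zpowers S.z →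
        delta u k ∈ Subgroup.zpowers S.z := fun {r} h1 h2 => by
      have := hmulz (hzdel _ h1) h2 (S.mem_E_of_zpowers h1)
      rwa [inv_mul_cancel_right] at this
    rcases X.F.fixMod_classes h0 X.card_fix_v0 hc0K hc0z hk with e | e | e | e
    exacts [hzdel k e, hmain e hfix, hmain e (hpd hfix), hmain e (hpd (hpd hfix))]
  -- and hence fixed
  set c1 := X.F.p * c * X.F.p⁻¹
  have hsum : c * c1 * (X.F.p * c1 * X.F.p⁻¹) ∈ Subgroup.zpowers S.z :=
    Frame.orbit_mem X.F.hpC X.F.p_pow (hE hc.1) fun x hx hxp _ => X.F.fixed_p hx hxp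
  have hconst : ∀ {x : G}, delta u x ∈ Subgroup.zpowers S.z → delta u (X.F.p * x * X.F.p⁻¹) = delta u x :=
    fun {x} hx => by
      rw [delta, hpu, show X.F.p * (u * x * u⁻¹) * X.F.p⁻¹ * (X.F.p * x * X.F.p⁻¹)⁻¹ =
        X.F.p * delta u x * X.F.p⁻¹ by simp only [delta]; group, hzc (Frame.commute_z X.F.hpC) _ hx]
  have hmul : ∀ {x y : G}, x ∈ S.E → delta u y ∈ Subgroup.zpowers S.z →
      delta u (x * y) = delta u x * delta u y := fun {x y} hx hy => by
    rw [show delta u (x * y) = delta u x * (x * delta u y * x⁻¹) by simp only [delta]; group,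
      (Frame.commute_z_zpowers (S := S) (S.hE.commute_z hx) hy).eq, mul_inv_cancel_right]
  have hc' := hdel c hc
  have hc1' : delta u c1 = delta u c := hconst hc'
  have hc2' : delta u (X.F.p * c1 * X.F.p⁻¹) = delta u c := (hconst (hc1'.symm ▸ hc')).trans hc1'
  have h00 : delta u (c * c1 * (X.F.p * c1 * X.F.p⁻¹)) = 1 := by
    rw [delta, hzc huz _ hsum, mul_inv_cancel]
  rw [hmul (mul_mem (hE hc.1) (hE (X.F.p_conj_W hc.1))) (hc2'.symm ▸ hc'), hmul (hE hc.1) (hc1'.symm ▸ hc'),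
    hc1', hc2'] at h00
  have hsq : delta u c * delta u c = 1 := by
    rcases S.hE.eq_or hc' with e' | e' <;> rw [e'] <;> simp [S.z_sq]
  rw [hsq, one_mul] at h00
  exact mul_inv_eq_iff_eq_mul.1 (mul_inv_eq_one.1 h00)

end HexFrame

end CfsgLib.JankoFour
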