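import Cfsg.Agent.Lib.JankoFourHexad.Stabilizer
import Cfsg.Agent.Lib.JankoFour.Local
import Cfsg.Agent.Lib.JankoFourTwo.Unique

/-!
# Conjugates of the involution in `V` and the order of the normalizer of `V` (owner: helper28)
-/

set_option autoImplicit false
set_option linter.unusedSectionVars false

namespace CfsgLib.JankoFour

open Cfsg CfsgLib.ThreeTrans
open CfsgLib.JankoFourHexad

variable {G : Type*} [Group G] [Finite G]

theorem elementary_map {V : Subgroup G} (h : IsElementaryAbelian 2 V) (g : G) :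
    IsElementaryAbelian 2 (V.map (MulAut.conj g).toMonoidHom) := by
  refine ⟨⟨⟨?_⟩⟩, ?_⟩
  · rintro ⟨_, x, hx, rfl⟩ ⟨_, y, hy, rfl⟩
    refine Subtype.ext ?_
    show (MulAut.conj g).toMonoidHom x * (MulAut.conj g).toMonoidHom y = _
    rw [← map_mul, show x * y = y * x from congrArg Subtype.val (h.1.1.1 ⟨x, hx⟩ ⟨y, hy⟩), map_mul]
    rfl
  · rintro _ ⟨x, hx, rfl⟩
    rw [← map_pow, h.2 x hx, map_one]

/-- Two elementary abelian subgroups of order `2 ^ 11` in a subgroup are conjugate there. -/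
theorem conj_in (hJ : IsOfJankoFourType G) {V1 V2 K : Subgroup G} (h1 : IsElementaryAbelian 2 V1)
    (c1 : Nat.card V1 = 2 ^ 11) (h2 : IsElementaryAbelian 2 V2) (c2 : Nat.card V2 = 2 ^ 11) (k1 : V1 ≤ K)
    (k2 : V2 ≤ K) : ∃ k ∈ K, V1.map (MulAut.conj k).toMonoidHom = V2 := by
  haveI : Fact (Nat.Prime 2) := ⟨Nat.prime_two⟩
  have hp : ∀ {W : Subgroup G}, Nat.card W = 2 ^ 11 → W ≤ K → IsPGroup 2 (W.subgroupOf K) := fun {W} c k =>
    IsPGroup.of_card (n := 11) (by rw [Nat.card_congr (Subgroup.subgroupOfEquivOfLe k).toEquiv, c])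
  obtain ⟨P1, hP1⟩ := (hp c1 k1).exists_le_sylow
  obtain ⟨P2, hP2⟩ := (hp c2 k2).exists_le_sylow
  obtain ⟨k, hk⟩ := MulAction.exists_smul_eq K P1 P2
  obtain ⟨T, hT⟩ := (P2.2.map K.subtype).exists_le_sylow
  refine ⟨k, k.2, (CfsgLib.JankoFourTwo.janko_four_two_eleven hJ T).unique
    ⟨?_, elementary_map h1 _, by rw [Subgroup.card_map_of_injective (MulAut.conj (k : G)).injective, c1]⟩
    ⟨fun x hx => hT ⟨⟨x, k2 hx⟩, hP2 (Subgroup.mem_subgroupOf.2 hx), rfl⟩, h2, c2⟩⟩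
  rintro _ ⟨x, hx, rfl⟩
  refine hT ⟨k * ⟨x, k1 hx⟩ * k⁻¹, ?_, rfl⟩
  rw [← hk]
  exact ⟨⟨x, k1 hx⟩, hP1 (Subgroup.mem_subgroupOf.2 hx), rfl⟩

theorem norm_of_map {V : Subgroup G} {g : G} (h : V.map (MulAut.conj g).toMonoidHom = V) :
    g ∈ Subgroup.normalizer (V : Set G) := by
  refine Subgroup.mem_normalizer_iff.2 fun x => ⟨fun hx => h ▸ ⟨x, hx, rfl⟩, fun hx => ?_⟩
  obtain ⟨y, hy, e⟩ := h.symm ▸ hx
  change g * y * g⁻¹ = g * x * g⁻¹ at e
  rwa [mul_left_cancel (mul_right_cancel e)] at hy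

/-- Fixed points of an element of prime power order modulo the prime. -/
theorem fixed_modEq {p : ℕ} [Fact p.Prime] {g : G} (hg : IsPGroup p ↥(Subgroup.zpowers g)) (A : Subgroup G)
    (hA : g ∈ Subgroup.normalizer (A : Set G)) :
    Nat.card A ≡ Nat.card ↥(A ⊓ Subgroup.centralizer ({g} : Set G)) [MOD p] := by
  set Zg := Subgroup.zpowers g
  have hZN : Zg ≤ Subgroup.normalizer (A : Set G) := Subgroup.zpowers_le.2 hA
  letI : MulAction ↥Zg ↥A :=
    { smul := fun x v => ⟨x * v * (x : G)⁻¹, (Subgroup.mem_normalizer_iff.1 (hZN x.2) _).1 v.2⟩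
      one_smul := fun v => Subtype.ext (by show ((1 : ↥Zg) : G) * v * ((1 : ↥Zg) : G)⁻¹ = v; simp)
      mul_smul := fun x y v => Subtype.ext (by
        show ((x * y : ↥Zg) : G) * v * ((x * y : ↥Zg) : G)⁻¹ = (x : G) * ((y : G) * v * (y : G)⁻¹) * (x : G)⁻¹
        rw [Subgroup.coe_mul]; group) }
  have hmod := hg.card_modEq_card_fixedPoints ↥A
  set Fx := A ⊓ Subgroup.centralizer ({g} : Set G) with hFx
  have hfix : Nat.card (MulAction.fixedPoints ↥Zg ↥A) = Nat.card Fx := by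
    refine Nat.card_congr
      { toFun := fun v => ⟨v.1, v.1.2, mem_centralizer_singleton_iff'.2 ?_⟩
        invFun := fun v => ⟨⟨v.1, v.2.1⟩, fun x => Subtype.ext ?_⟩
        left_inv := fun _ => rfl
        right_inv := fun _ => rfl }
    · have h : g * (v.1 : G) * g⁻¹ = v.1 := congrArg Subtype.val (v.2 ⟨g, Subgroup.mem_zpowers g⟩)
      exact (mul_inv_eq_iff_eq_mul.1 h).symm
    · obtain ⟨k, hk⟩ := x.2
      have hc : Commute g (v : G) := (mem_centralizer_singleton_iff'.1 v.2.2).symm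
      show (x : G) * v * (x : G)⁻¹ = v
      rw [← hk, (hc.zpow_left k).eq, mul_inv_cancel_right]
  rw [hfix] at hmod
  exact hmod

namespace HexBase

variable {S : Setting G} (B : HexBase S)

theorem V_le_H0 : B.V ≤ S.H0 := by
  rintro _ ⟨n, hn, rfl⟩
  rw [B.vel_split ⟨n, hn⟩]
  exact mul_mem (mul_mem (S.hEH0 (zpar_E n)) (S.hEH0 (B.X.F1_le_E (B.U_mem _))))
    (S.C_le_H0 (gprod_mem (fun i _ => B.X.kl_mem i) _))

theorem commute_V {x y : G} (hx : x ∈ B.V) (hy : y ∈ B.V) : Commute x y :=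
  congrArg Subtype.val (B.V_elementary.1.1.1 ⟨x, hx⟩ ⟨y, hy⟩)

/-- An outer element normalizing `V`. -/
theorem exists_outer_norm (hJ : IsOfJankoFourType G) :
    ∃ n, Commute n S.z ∧ n ∉ S.H0 ∧ n ∈ Subgroup.normalizer (B.V : Set G) := by
  obtain ⟨h, hh, hh0⟩ := S.exists_outer
  obtain ⟨k, hk, e⟩ := conj_in hJ (elementary_map B.V_elementary h)
    (by rw [Subgroup.card_map_of_injective (MulAut.conj h).injective, B.card_V]) B.V_elementary B.card_V
    (K := S.H0) (by rintro _ ⟨x, hx, rfl⟩; exact S.hnorm h hh.1 x (B.V_le_H0 hx)) B.V_le_H0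
  have hkz : Commute k S.z := mem_centralizer_singleton_iff'.1 (S.hH0 hk)
  refine ⟨k * h, hkz.mul_left hh.1, fun hkh => hh0 (by simpa using mul_mem (inv_mem hk) hkh), norm_of_map ?_⟩
  rw [Subgroup.map_map] at e
  convert e using 2
  ext x
  show k * h * x * (k * h)⁻¹ = k * (h * x * h⁻¹) * k⁻¹
  group

/-- The normalizer of `V` in the centralizer of `z`. -/
abbrev NH : Subgroup G := Subgroup.normalizer (B.V : Set G) ⊓ Subgroup.centralizer ({S.z} : Set G)

theorem card_NH (hJ : IsOfJankoFourType G) : Nat.card B.NH = 2 * (3 * 2 ^ 13 * 5760) := by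
  classical
  obtain ⟨n, hnz, hn0, hn⟩ := B.exists_outer_norm hJ
  set N0 := S.H0 ⊓ Subgroup.normalizer (B.V : Set G)
  let φ : Bool × ↥N0 → ↥B.NH := fun x => ⟨(if x.1 then n else 1) * x.2,
    mul_mem (by split_ifs <;> [exact hn; exact one_mem _]) x.2.2.2,
    mul_mem (by split_ifs <;> [exact mem_centralizer_singleton_iff'.2 hnz; exact one_mem _]) (S.hH0 x.2.2.1)⟩
  have hφ : Function.Bijective φ := by
    refine ⟨?_, fun g => ?_⟩
    · rintro ⟨b, x⟩ ⟨b', x'⟩ e
      have e' : (if b then n else 1) * (x : G) = (if b' then n else 1) * x' := congrArg Subtype.val e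
      obtain rfl : b = b' := by
        cases b <;> cases b' <;> simp only [Bool.false_eq_true, if_true, if_false, one_mul] at e'
        · rfl
        · exact absurd (by rw [show n = (x : G) * (x' : G)⁻¹ by rw [e']; group]; exact mul_mem x.2.1 (S.H0.inv_mem x'.2.1)) hn0
        · exact absurd (by rw [show n = (x' : G) * (x : G)⁻¹ by rw [← e']; group]; exact mul_mem x'.2.1 (S.H0.inv_mem x.2.1)) hn0
        · rfl
      exact Prod.ext rfl (Subtype.ext (mul_left_cancel e'))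
    · have hgz : Commute (g : G) S.z := mem_centralizer_singleton_iff'.1 g.2.2
      by_cases hg : (g : G) ∈ S.H0
      · exact ⟨(false, ⟨g, hg, g.2.1⟩), Subtype.ext (by simp [φ])⟩
      · exact ⟨(true, ⟨n⁻¹ * g, S.hidx _ _ hnz.inv_left hgz (fun c => hn0 (by simpa using inv_mem c)) hg,
          Subgroup.mul_mem _ (Subgroup.inv_mem _ hn) g.2.1⟩), Subtype.ext (by simp [φ])⟩
  rw [← Nat.card_congr (Equiv.ofBijective φ hφ), Nat.card_prod, B.card_norm]
  simp

/-- Conjugates of `z` in `V` are conjugate under the normalizer. -/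
theorem fuse (hJ : IsOfJankoFourType G) {g : G} (hg : g * S.z * g⁻¹ ∈ B.V) :
    ∃ n ∈ Subgroup.normalizer (B.V : Set G), n * S.z * n⁻¹ = g * S.z * g⁻¹ := by
  obtain ⟨k, hk, e⟩ := conj_in hJ (elementary_map B.V_elementary g)
    (by rw [Subgroup.card_map_of_injective (MulAut.conj g).injective, B.card_V]) B.V_elementary B.card_V
    (K := Subgroup.centralizer ({g * S.z * g⁻¹} : Set G))
    (by
      rintro _ ⟨x, hx, rfl⟩
      exact mem_centralizer_singleton_iff'.2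
        (LargeData.commute_conj_iff'.2 (B.commute_V hx B.z_mem_V)).eq)
    (fun x hx => mem_centralizer_singleton_iff'.2 (B.commute_V hx hg).eq)
  refine ⟨k * g, norm_of_map ?_, ?_⟩
  · rw [Subgroup.map_map] at e
    convert e using 2
    ext x
    show k * g * x * (k * g)⁻¹ = k * (g * x * g⁻¹) * k⁻¹
    group
  · calc k * g * S.z * (k * g)⁻¹ = k * (g * S.z * g⁻¹) * k⁻¹ := by group
      _ = _ := by rw [mem_centralizer_singleton_iff'.1 hk, mul_inv_cancel_right]

/-- The codes of the conjugates of `z`. -/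
noncomputable def zset : Finset (Fin 2048) :=
  @Finset.filter _ (fun n => IsConj S.z (B.vel n.1)) (Classical.decPred _) Finset.univ

theorem mem_zset {n : Fin 2048} : n ∈ B.zset ↔ IsConj S.z (B.vel n.1) := by simp [zset]

/-- The order of the normalizer. -/
theorem card_N (hJ : IsOfJankoFourType G) :
    Nat.card ↥(Subgroup.normalizer (B.V : Set G)) = B.zset.card * (2 * (3 * 2 ^ 13 * 5760)) := by
  classical
  have hch : ∀ n : {n // n ∈ B.zset}, ∃ g ∈ Subgroup.normalizer (B.V : Set G), g * S.z * g⁻¹ = B.vel n.1.1 := by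
    intro n
    obtain ⟨g, hg⟩ := isConj_iff.1 (B.mem_zset.1 n.2)
    obtain ⟨m, hm, e⟩ := B.fuse hJ (g := g) (hg ▸ B.vel_mem n.1.2)
    exact ⟨m, hm, e.trans hg⟩
  choose t ht htz using hch
  let φ : {n // n ∈ B.zset} × ↥B.NH → ↥(Subgroup.normalizer (B.V : Set G)) :=
    fun x => ⟨t x.1 * x.2, mul_mem (ht x.1) x.2.2.1⟩
  have hz : ∀ x : {n // n ∈ B.zset} × ↥B.NH, (φ x : G) * S.z * (φ x : G)⁻¹ = B.vel x.1.1.1 := fun x => by
    have hc : Commute (x.2 : G) S.z := mem_centralizer_singleton_iff'.1 x.2.2.2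
    calc t x.1 * x.2 * S.z * (t x.1 * x.2)⁻¹ = t x.1 * ((x.2 : G) * S.z * (x.2 : G)⁻¹) * (t x.1)⁻¹ := by group
      _ = _ := by rw [hc.eq, mul_inv_cancel_right, htz]
  have hφ : Function.Bijective φ := by
    constructor
    · intro x y e
      have h1 : x.1 = y.1 := Subtype.ext (Fin.ext (B.vel_inj x.1.1.2 y.1.1.2 (by rw [← hz, ← hz, e])))
      have e' : t x.1 * x.2 = t y.1 * y.2 := congrArg Subtype.val e
      rw [h1] at e'
      exact Prod.ext h1 (Subtype.ext (mul_left_cancel e'))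
    · intro g
      obtain ⟨n, hn, e⟩ : (g : G) * S.z * (g : G)⁻¹ ∈ B.V := (Subgroup.mem_normalizer_iff.1 g.2 _).1 B.z_mem_V
      have hn' : (⟨n, hn⟩ : Fin 2048) ∈ B.zset := B.mem_zset.2 (isConj_iff.2 ⟨g, e.symm⟩)
      refine ⟨(⟨⟨n, hn⟩, hn'⟩, ⟨(t ⟨⟨n, hn⟩, hn'⟩)⁻¹ * g, Subgroup.mul_mem _ (Subgroup.inv_mem _ (ht _)) g.2, ?_⟩),
        Subtype.ext (mul_inv_cancel_left _ _)⟩
      refine mem_centralizer_singleton_iff'.2 (mul_inv_eq_iff_eq_mul.1 ?_)
      calc (t ⟨⟨n, hn⟩, hn'⟩)⁻¹ * g * S.z * ((t ⟨⟨n, hn⟩, hn'⟩)⁻¹ * (g : G))⁻¹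
          = (t ⟨⟨n, hn⟩, hn'⟩)⁻¹ * ((g : G) * S.z * (g : G)⁻¹) * t ⟨⟨n, hn⟩, hn'⟩ := by group
        _ = S.z := by rw [← e, show B.vel n = t ⟨⟨n, hn⟩, hn'⟩ * S.z * (t ⟨⟨n, hn⟩, hn'⟩)⁻¹ from
              (htz ⟨⟨n, hn⟩, hn'⟩).symm]; group
  rw [← Nat.card_congr (Equiv.ofBijective φ hφ), Nat.card_prod, Nat.card_eq_fintype_card, Fintype.card_coe,
    B.card_NH hJ]

/-- A prime dividing the order of the normalizer has small order of two. -/
theorem prime_small {p : ℕ} (hp : p.Prime) (hp2 : p ≠ 2) (hj : ∀ j : Fin 11, 2 ^ (j.1 + 1) % p ≠ 1)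
    (hd : p ∣ Nat.card ↥(Subgroup.normalizer (B.V : Set G))) : False := by
  haveI : Fact p.Prime := ⟨hp⟩
  haveI : Fact (Nat.Prime 2) := ⟨Nat.prime_two⟩
  obtain ⟨⟨g, hgN⟩, hg⟩ := exists_prime_orderOf_dvd_card' p hd
  have hgp : g ^ p = 1 := by
    have h := congrArg Subtype.val (hg ▸ pow_orderOf_eq_one (⟨g, hgN⟩ : ↥(Subgroup.normalizer (B.V : Set G))))
    simpa using h
  have hg1 : g ≠ 1 := fun e => by
    subst e
    rw [show (⟨1, hgN⟩ : ↥(Subgroup.normalizer (B.V : Set G))) = 1 from rfl, orderOf_one] at hg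
    exact hp.one_lt.ne hg
  set Fx := B.V ⊓ Subgroup.centralizer ({g} : Set G) with hFx
  have hmod := fixed_modEq (p := p) (IsPGroup.of_card (n := 1) (by
    rw [Nat.card_zpowers, orderOf_eq_prime hgp hg1, pow_one])) B.V hgN
  have hVp : IsPGroup 2 ↥B.V := IsPGroup.of_card (n := 11) B.card_V
  obtain ⟨k, hk⟩ := IsPGroup.iff_card.1 (hVp.to_le (inf_le_left : Fx ≤ B.V))
  have hk11 : k < 11 := by
    have hle := Subgroup.card_le_of_le (inf_le_left : Fx ≤ B.V)
    rw [hk, B.card_V] at hle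
    have hk' : k ≤ 11 := (Nat.pow_le_pow_iff_right (by norm_num : 1 < 2)).1 hle
    refine lt_of_le_of_ne hk' fun e => ?_
    have hFV : Fx = B.V := Subgroup.eq_of_le_of_card_ge inf_le_left (by rw [hk, e, B.card_V])
    have hgV : g ∈ B.V := B.centralizer_V (Subgroup.mem_centralizer_iff.2 fun v hv => by
      have : v ∈ Fx := hFV.symm ▸ hv
      exact mem_centralizer_singleton_iff'.1 this.2)
    have h2 : g ^ 2 = 1 := B.V_elementary.2 g hgV
    have := pow_gcd_eq_one.2 (And.intro hgp h2)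
    rw [(Nat.coprime_primes hp Nat.prime_two).2 hp2, pow_one] at this
    exact hg1 this
  rw [B.card_V, hk] at hmod
  have hcop : Nat.Coprime p (2 ^ k) := ((Nat.coprime_primes hp Nat.prime_two).2 hp2).pow_right k
  have h1 : 2 ^ (11 - k) ≡ 1 [MOD p] := by
    refine Nat.ModEq.cancel_left_of_coprime (c := 2 ^ k) hcop ?_
    rw [← pow_add, Nat.add_sub_cancel' hk11.le, mul_one]
    exact hmod
  have := hj ⟨11 - k - 1, by omega⟩
  rw [show (⟨11 - k - 1, by omega⟩ : Fin 11).1 + 1 = 11 - k by simp; omega] at this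
  exact this (h1.trans (by rfl) |> fun h => by rw [Nat.ModEq, Nat.mod_eq_of_lt hp.one_lt] at h; exact h)

end HexBase

end CfsgLib.JankoFour
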