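import Cfsg.Agent.Lib.JankoFourHexad.Actions

/-!
# Generators acting on the extraspecial group modulo its centre (owner: helper28)
-/

set_option autoImplicit false

namespace CfsgLib.JankoFour

open Cfsg CfsgLib.ThreeTrans
open CfsgLib.JankoFourHexad

variable {G : Type*} [Group G] [Finite G]

namespace HexBase

variable {S : Setting G} (B : HexBase S)

/-- The element with a given code modulo the centre. -/
def q (n : ℕ) : G := B.U (n % 64) * B.W (n / 64)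

/-- `g` acts modulo the centre by `f`. -/
def ActsQ (g : G) (f : ℕ → ℕ) : Prop :=
  ∀ n < 4096, f n < 4096 ∧ g * B.q n * g⁻¹ * (B.q (f n))⁻¹ ∈ Subgroup.zpowers S.z

/-- `k` fixes the first fixed space and translates the second by `f`. -/
def Moves (k : G) (f : ℕ → ℕ) : Prop :=
  (∀ u, k * B.U u * k⁻¹ = B.U u) ∧
    ∀ w < 64, ∃ c ∈ Subgroup.zpowers S.z, k * B.W w * k⁻¹ = c * B.U (f w) * B.W w

theorem q_mem (n : ℕ) : B.q n ∈ S.E := mul_mem (B.X.F1_le_E (B.U_mem _)) (B.X.F2_le_E (B.W_mem _))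

theorem el_q {n : ℕ} (hn : n < 8192) : B.el n * (B.q (n / 2))⁻¹ ∈ Subgroup.zpowers S.z := by
  have h1 : eU n = n / 2 % 64 := by
    show (n >>> 1) &&& (2 ^ 6 - 1) = _
    rw [Nat.and_two_pow_sub_one_eq_mod, Nat.shiftRight_eq_div_pow]
  have h2 : eW n = n / 2 / 64 := by
    show n >>> 7 = _
    rw [Nat.shiftRight_eq_div_pow, Nat.div_div_eq_div_mul]
  rw [el, q, h1, h2, show zpar S.z n * B.U (n / 2 % 64) * B.W (n / 2 / 64) *
    (B.U (n / 2 % 64) * B.W (n / 2 / 64))⁻¹ = zpar S.z n by group]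
  rcases zpar_mem (c := S.z) n with e | e <;> rw [e]
  exacts [one_mem _, Subgroup.mem_zpowers _]

theorem moves_one : B.Moves 1 (fun _ => 0) :=
  ⟨fun u => by simp, fun w _ => ⟨1, one_mem _, by simp [B.U_zero]⟩⟩

theorem moves_mul {k l : G} {f g : ℕ → ℕ} (hk : B.Moves k f) (hl : B.Moves l g) (hkz : Commute k S.z) :
    B.Moves (k * l) (fun w => Nat.xor (g w) (f w)) := by
  refine ⟨fun u => ?_, fun w hw => ?_⟩
  · calc k * l * B.U u * (k * l)⁻¹ = k * (l * B.U u * l⁻¹) * k⁻¹ := by group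
      _ = _ := by rw [hl.1, hk.1]
  · obtain ⟨c, hc, e⟩ := hl.2 w hw
    obtain ⟨d, hd, e'⟩ := hk.2 w hw
    refine ⟨c * d, mul_mem hc hd, ?_⟩
    have hkc : k * c * k⁻¹ = c := by
      rw [(Frame.commute_z_zpowers (S := S) hkz hc).eq, mul_inv_cancel_right]
    have hdU : Commute d (B.U (g w)) :=
      (Frame.commute_z_zpowers (S := S) (S.hE.commute_z (B.X.F1_le_E (B.U_mem _))) hd).symm
    calc k * l * B.W w * (k * l)⁻¹ = k * (l * B.W w * l⁻¹) * k⁻¹ := by group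
      _ = (k * c * k⁻¹) * (k * B.U (g w) * k⁻¹) * (k * B.W w * k⁻¹) := by rw [e]; group
      _ = c * B.U (g w) * (d * B.U (f w) * B.W w) := by rw [hkc, hk.1, e']
      _ = c * (d * B.U (g w)) * B.U (f w) * B.W w := by rw [hdU.eq]; group
      _ = _ := by rw [← B.U_xor]; group

theorem eV_parts : ∀ k : Fin 4, ∀ w : Fin 64, eU (eV k.1 (Nat.shiftLeft w.1 7)) = Nat.shiftRight (phiK k.1 w.1) 1 ∧
    eW (eV k.1 (Nat.shiftLeft w.1 7)) = w.1 := by decide +kernel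

theorem moves_kl (k : Fin 4) : B.Moves (B.X.kl k.1) (fun w => Nat.shiftRight (phiK k.1 w) 1) := by
  refine ⟨B.kl_U k, fun w hw => ?_⟩
  refine ⟨zpar S.z (eV k.1 (Nat.shiftLeft w 7)), ?_, ?_⟩
  · rcases zpar_mem (c := S.z) (eV k.1 (Nat.shiftLeft w 7)) with e | e <;> rw [e]
    exacts [one_mem _, Subgroup.mem_zpowers _]
  · obtain ⟨h1, h2⟩ := eV_parts k ⟨w, hw⟩
    dsimp only at h1 h2
    rw [B.kl_W k hw, el_zW, h1, h2]

theorem moves_ite (b : Bool) (k : Fin 4) :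
    B.Moves (if b then B.X.kl k.1 else 1) (fun w => if b then Nat.shiftRight (phiK k.1 w) 1 else 0) := by
  cases b
  · simpa using B.moves_one
  · simpa using B.moves_kl k

theorem phiS_parts : ∀ n : Fin 16, ∀ w : Fin 64,
    Nat.xor (if n.1.testBit 3 then Nat.shiftRight (phiK 3 w.1) 1 else 0)
      (Nat.xor (if n.1.testBit 2 then Nat.shiftRight (phiK 2 w.1) 1 else 0)
        (Nat.xor (if n.1.testBit 1 then Nat.shiftRight (phiK 1 w.1) 1 else 0)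
          (if n.1.testBit 0 then Nat.shiftRight (phiK 0 w.1) 1 else 0))) = Nat.shiftRight (phiS n.1 w.1) 1 := by
  decide +kernel

theorem moves_prod4 (n : Fin 16) : B.Moves (prod4 B.X.kl n.1) (fun w => Nat.shiftRight (phiS n.1 w) 1) := by
  have hz : ∀ (b : Bool) (i : ℕ), Commute (if b then B.X.kl i else 1) S.z := fun b i => by
    split_ifs
    exacts [Frame.commute_z (B.X.kl_mem i), Commute.one_left _]
  have h : B.Moves (prod4 B.X.kl n.1) _ := B.moves_mul (B.moves_mul (B.moves_mul (B.moves_ite (n.1.testBit 0) 0)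
    (B.moves_ite (n.1.testBit 1) 1) (hz _ _)) (B.moves_ite (n.1.testBit 2) 2) ((hz _ _).mul_left (hz _ _)))
    (B.moves_ite (n.1.testBit 3) 3) (((hz _ _).mul_left (hz _ _)).mul_left (hz _ _))
  refine ⟨h.1, fun w hw => ?_⟩
  obtain ⟨c, hc, e⟩ := h.2 w hw
  exact ⟨c, hc, by dsimp only; rw [← phiS_parts n ⟨w, hw⟩]; exact e⟩

theorem mAB_zero : ∀ m : Fin 3, mAB m.1 0 = 0 := by decide +kernel

/-- The action of `n2`. -/
theorem exists_n2 : ∃ m : Fin 3, ∃ l : Fin 3, ∃ e : Fin 64, mAB m.1 e.1 = e.1 ∧ e.1 ≠ 0 ∧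
    ∀ u < 64, mT e.1 l.1 u < 64 ∧ B.X.n2 * B.U u * B.X.n2⁻¹ = B.W (mT e.1 l.1 u) ∧
      B.X.n2 * B.W u * B.X.n2⁻¹ = B.U (mT e.1 l.1 u) := by
  have hn := B.X.hn2
  have hcom := B.X.F.commute_p hn
  have hab : B.X.F.a * B.X.F.b ∈ S.C := mul_mem B.X.F.haC B.X.F.hbC
  obtain ⟨m, c, hc, hga⟩ := B.exists_lift_form (mul_mem (mul_mem hn B.X.F.haC) (inv_mem hn)) hab
    (by rw [S.f_conj_C hn B.X.F.haC, S.f_mul_C B.X.F.haC B.X.F.hbC, B.X.hex.n2r])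
  obtain ⟨l, d, hd, hgb⟩ := B.exists_lift_form (mul_mem (mul_mem hn B.X.F.hbC) (inv_mem hn))
    (mul_mem B.X.F.haC (mul_mem B.X.F.hbC B.X.F.hbC))
    (by rw [S.f_conj_C hn B.X.F.hbC, S.f_mul_C B.X.F.haC (mul_mem B.X.F.hbC B.X.F.hbC),
      S.f_mul_C B.X.F.hbC B.X.F.hbC, B.X.hex.n2s])
  have hactA : B.Acts2 (B.X.n2 * B.X.F.a * B.X.n2⁻¹) (mAB (m % 3)) := by
    rw [hga]
    refine B.acts2_central (B.acts2_congr
      (B.acts2_mul (B.pPow_acts m) (B.acts2_mul B.a_acts B.b_acts)) (k := mAB (m % 3))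
      (fun u _ => by rw [mAB, mPow_mod]) |> fun h => ?_) hc
    intro v hv
    have hcp : Commute (B.X.F.p ^ m) (B.X.F.a * B.X.F.b) := ((B.X.F.commute_p hab).symm).pow_left m
    rw [← hcp.eq]; exact h v hv
  have hactB : B.Acts2 (B.X.n2 * B.X.F.b * B.X.n2⁻¹) (mAB2 (l % 3)) := by
    rw [hgb]
    refine B.acts2_central (fun v hv => ?_) hd
    have hcp : Commute (B.X.F.p ^ l) (B.X.F.a * (B.X.F.b * B.X.F.b)) :=
      ((B.X.F.commute_p (mul_mem B.X.F.haC (mul_mem B.X.F.hbC B.X.F.hbC))).symm).pow_left l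
    rw [← hcp.eq]
    exact B.acts2_congr (B.acts2_mul (B.pPow_acts l) (B.acts2_mul B.a_acts (B.acts2_mul B.b_acts B.b_acts)))
      (fun u _ => by rw [mAB2, mPow_mod]) v hv
  have hfix : ∀ {y : G}, y ∈ B.X.F.W 0 → Commute (B.X.n2 * y * B.X.n2⁻¹) (B.X.n2 * B.X.F.a * B.X.n2⁻¹) :=
    fun {y} hy => by
      refine LargeData.commute_conj_iff'.2 ?_
      have := (S.mem_fixE.1 hy).2
      rwa [Frame.el, pow_zero, mul_one] at this
  -- the image of `c0`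
  obtain ⟨w, hw, cw, hcw, ew⟩ := B.mem_F2_code (show B.X.n2 * B.c0 * B.X.n2⁻¹ ∈ B.X.F2 from ⟨_, B.hc1, rfl⟩)
  have hw1 := B.orbit_conj hn B.hcp
  rw [ew] at hw1
  obtain rfl := B.orbit_sign hcw (fun v => B.X.F2_le_E (B.W_mem v)) B.W_zero B.W_xor
    (fun v hv => (B.p_acts v hv).2.2) hw hw1
  rw [one_mul] at ew
  -- the image of `d0`
  have hd1 : B.X.n2 * B.d0 * B.X.n2⁻¹ ∈ B.X.F1 := by
    have h := B.X.conj_F1 (mul_mem hn hn) B.X.norm_n22 (B.X.mem_F2_iff.1 B.hd2)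
    rwa [show B.X.n2 * B.X.n2 * (B.X.n2⁻¹ * B.d0 * B.X.n2) * (B.X.n2 * B.X.n2)⁻¹ =
      B.X.n2 * B.d0 * B.X.n2⁻¹ by group] at h
  obtain ⟨u, hu, cu, hcu, eu⟩ := B.mem_F1_code hd1
  have hu1 := B.orbit_conj hn B.hdp
  rw [eu] at hu1
  obtain rfl := B.orbit_sign hcu (fun v => B.X.F1_le_E (B.U_mem v)) B.U_zero B.U_xor
    (fun v hv => (B.p_acts v hv).2.1) hu hu1
  rw [one_mul] at eu
  have hbw : mAB (m % 3) w = w := by
    have h := hfix B.hcW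
    rw [ew] at h
    refine B.W_inj (hactA w hw).1 hw ?_
    rw [← (hactA w hw).2.2, ← h.eq, mul_inv_cancel_right]
  have hbu : mAB (m % 3) u = u := by
    have h := hfix B.hdW
    rw [eu] at h
    refine B.U_inj (hactA u hu).1 hu ?_
    rw [← (hactA u hu).2.1, ← h.eq, mul_inv_cancel_right]
  have ew' : B.X.n2 * B.c1 * B.X.n2⁻¹ = B.W (mP w) := by
    rw [← (B.p_acts w hw).2.2, ← ew]
    calc B.X.n2 * B.c1 * B.X.n2⁻¹ = (B.X.n2 * B.X.F.p) * B.c0 * (B.X.n2 * B.X.F.p)⁻¹ := by group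
      _ = _ := by rw [hcom.eq]; group
  have eu' : B.X.n2 * B.d1 * B.X.n2⁻¹ = B.U (mP u) := by
    rw [← (B.p_acts u hu).2.1, ← eu]
    calc B.X.n2 * B.d1 * B.X.n2⁻¹ = (B.X.n2 * B.X.F.p) * B.d0 * (B.X.n2 * B.X.F.p)⁻¹ := by group
      _ = _ := by rw [hcom.eq]; group
  have hmPu : mP u < 64 := (linOK_P ⟨u, hu⟩).2
  have hmPw : mP w < 64 := (linOK_P ⟨w, hw⟩).2
  have hp0 : pairB u w = 0 := by
    rw [← B.pair_zero_iff hu hw, ← eu, ← ew]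
    exact LargeData.commute_conj_iff'.2 B.hcd.symm
  have hp1 : pairB u (mP w) ≠ 0 := by
    rw [Ne, ← B.pair_zero_iff hu hmPw, ← eu, ← ew']
    exact fun h => B.hncd (LargeData.commute_conj_iff'.1 h).symm
  obtain rfl : u = w := mAB_pair ⟨m % 3, Nat.mod_lt _ (by norm_num)⟩ ⟨u, hu⟩ ⟨w, hw⟩ hbu hbw hp0 hp1
  have hne : u ≠ 0 := fun e => hp1 (by rw [e]; exact (pairB_zero ⟨mP 0, by decide⟩).2)
  refine ⟨⟨m % 3, Nat.mod_lt _ (by norm_num)⟩, ⟨l % 3, Nat.mod_lt _ (by norm_num)⟩, ⟨u, hu⟩, hbu, hne, ?_⟩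
  have hT := linOK_T ⟨l % 3, Nat.mod_lt _ (by norm_num)⟩ ⟨u, hu⟩
  intro v hv
  refine ⟨(hT ⟨v, hv⟩).2, conj_lin B.W_zero B.W_xor hT (fun j hj => ?_) hv,
    conj_lin B.U_zero B.U_xor hT (fun j hj => ?_) hv⟩
  · rw [mT_basis ⟨l % 3, Nat.mod_lt _ (by norm_num)⟩ ⟨u, hu⟩ ⟨j, hj⟩]
    dsimp only
    rw [cU]
    split_ifs
    · exact (bc_iter B hw rfl (fun v hv => ⟨(hactB v hv).1, (hactB v hv).2.2⟩) ew _).2
    · exact (bc_iter B hmPw rfl (fun v hv => ⟨(hactB v hv).1, (hactB v hv).2.2⟩) ew' _).2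
  · rw [mT_basis ⟨l % 3, Nat.mod_lt _ (by norm_num)⟩ ⟨u, hu⟩ ⟨j, hj⟩]
    dsimp only
    rw [dW]
    split_ifs
    · exact (bc_iter B hu rfl (fun v hv => ⟨(hactB v hv).1, (hactB v hv).2.1⟩) eu _).2
    · exact (bc_iter B hmPu rfl (fun v hv => ⟨(hactB v hv).1, (hactB v hv).2.1⟩) eu' _).2

theorem qGen_parts : ∀ g : Fin 4, ∀ n : Fin 64, ∀ w : Fin 64,
    qGen g.1 (n.1 + 64 * w.1) = Nat.xor n.1 (Nat.shiftRight (phiK g.1 w.1) 1) + 64 * w.1 ∧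
    Nat.xor n.1 (Nat.shiftRight (phiK g.1 w.1) 1) < 64 ∧
    qGen (g.1 + 4) (n.1 + 64 * w.1) = n.1 + 64 * Nat.xor w.1 (phiB g.1 n.1) ∧
    Nat.xor w.1 (phiB g.1 n.1) < 64 := by decide +kernel

theorem qGen_eight : ∀ n : Fin 64, ∀ w : Fin 64, qGen 8 (n.1 + 64 * w.1) = mP n.1 + 64 * mP w.1 := by
  decide +kernel

theorem q_mk {u w : ℕ} (hu : u < 64) : B.q (u + 64 * w) = B.U u * B.W w := by
  rw [q, Nat.add_mul_mod_self_left, Nat.mod_eq_of_lt hu, Nat.add_mul_div_left _ _ (by norm_num : 0 < 64),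
    Nat.div_eq_of_lt hu, zero_add]

theorem mul_mem_z {c x : G} (hc : c ∈ Subgroup.zpowers S.z) : c * x * x⁻¹ ∈ Subgroup.zpowers S.z := by
  rwa [mul_inv_cancel_right]

/-- Every generator is induced by an element centralizing `P`. -/
theorem exists_gen (g : Fin 9) : ∃ t ∈ S.C, B.ActsQ t (qGen g.1) := by
  have hcz : ∀ {x c : G}, x ∈ S.E → c ∈ Subgroup.zpowers S.z → Commute x c := fun hx hc =>
    Frame.commute_z_zpowers (S := S) (S.hE.commute_z hx) hc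
  have hsplit : ∀ n < 4096, ∃ u : Fin 64, ∃ w : Fin 64, n = u.1 + 64 * w.1 := fun n hn =>
    ⟨⟨n % 64, Nat.mod_lt _ (by norm_num)⟩, ⟨n / 64, by omega⟩, (Nat.mod_add_div n 64).symm⟩
  rcases (show g.1 < 4 ∨ (4 ≤ g.1 ∧ g.1 < 8) ∨ g.1 = 8 by omega) with h | h | h
  · refine ⟨B.X.kl g.1, B.X.kl_mem _, fun n hn => ?_⟩
    obtain ⟨u, w, rfl⟩ := hsplit n hn
    obtain ⟨e1, e2, -, -⟩ := qGen_parts ⟨g.1, h⟩ u w
    dsimp only at e1 e2
    refine ⟨by rw [e1]; omega, ?_⟩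
    obtain ⟨hU, hW⟩ := B.moves_kl ⟨g.1, h⟩
    obtain ⟨c, hc, e⟩ := hW w.1 w.2
    rw [e1, B.q_mk u.2, B.q_mk e2, ← B.U_xor]
    dsimp only at e hU
    rw [show B.X.kl g.1 * (B.U u.1 * B.W w.1) * (B.X.kl g.1)⁻¹ =
      (B.X.kl g.1 * B.U u.1 * (B.X.kl g.1)⁻¹) * (B.X.kl g.1 * B.W w.1 * (B.X.kl g.1)⁻¹) by group, hU, e,
      show B.U u.1 * (c * B.U (Nat.shiftRight (phiK g.1 w.1) 1) * B.W w.1) =
        (B.U u.1 * c) * B.U (Nat.shiftRight (phiK g.1 w.1) 1) * B.W w.1 by group,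
      (hcz (B.X.F1_le_E (B.U_mem _)) hc).eq, show c * B.U u.1 * B.U (Nat.shiftRight (phiK g.1 w.1) 1) * B.W w.1 =
        c * (B.U u.1 * B.U (Nat.shiftRight (phiK g.1 w.1) 1) * B.W w.1) by group]
    exact mul_mem_z hc
  · obtain ⟨m, l, e, hm, he, hT⟩ := B.exists_n2
    obtain ⟨n0, hn0⟩ := mAB_gen m e l hm he ⟨g.1 - 4, by omega⟩
    set k := prod4 B.X.kl n0.1
    have hkC : k ∈ S.C := HexFrame.prod4_mem (fun i _ => B.X.kl_mem i) _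
    refine ⟨B.X.n2 * k * B.X.n2⁻¹, mul_mem (mul_mem B.X.hn2 hkC) (inv_mem B.X.hn2), fun n hn => ?_⟩
    obtain ⟨u, w, rfl⟩ := hsplit n hn
    obtain ⟨-, -, e1, e2⟩ := qGen_parts ⟨g.1 - 4, by omega⟩ u w
    dsimp only at e1 e2
    rw [show g.1 - 4 + 4 = g.1 by omega] at e1
    refine ⟨by rw [e1]; omega, ?_⟩
    obtain ⟨u', hu'⟩ := mT_surj m e l hm he u
    obtain ⟨w', hw'⟩ := mT_surj m e l hm he w
    obtain ⟨hU, hW⟩ := B.moves_prod4 n0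
    obtain ⟨c, hc, ec⟩ := hW u'.1 u'.2
    set f := Nat.shiftRight (phiS n0.1 u'.1) 1
    have hf64 : f < 64 := by
      have : ∀ n : Fin 16, ∀ w : Fin 64, Nat.shiftRight (phiS n.1 w.1) 1 < 64 := by decide +kernel
      exact this n0 u'
    have hTf : mT e.1 l.1 f = phiB (g.1 - 4) u.1 := (hn0 u').trans (by rw [hu'])
    have a1 : B.X.n2 * k * B.X.n2⁻¹ * B.W w.1 * (B.X.n2 * k * B.X.n2⁻¹)⁻¹ = B.W w.1 := by
      calc B.X.n2 * k * B.X.n2⁻¹ * B.W w.1 * (B.X.n2 * k * B.X.n2⁻¹)⁻¹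
          = B.X.n2 * k * B.X.n2⁻¹ * (B.X.n2 * B.U w'.1 * B.X.n2⁻¹) * (B.X.n2 * k * B.X.n2⁻¹)⁻¹ := by
            rw [(hT w'.1 w'.2).2.1, hw']
        _ = B.X.n2 * (k * B.U w'.1 * k⁻¹) * B.X.n2⁻¹ := by group
        _ = _ := by rw [hU, (hT w'.1 w'.2).2.1, hw']
    have hcn : B.X.n2 * c * B.X.n2⁻¹ = c := by
      rw [(Frame.commute_z_zpowers (S := S) (Frame.commute_z B.X.hn2) hc).eq, mul_inv_cancel_right]
    have a2 : B.X.n2 * k * B.X.n2⁻¹ * B.U u.1 * (B.X.n2 * k * B.X.n2⁻¹)⁻¹ =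
        c * B.W (phiB (g.1 - 4) u.1) * B.U u.1 := by
      calc B.X.n2 * k * B.X.n2⁻¹ * B.U u.1 * (B.X.n2 * k * B.X.n2⁻¹)⁻¹
          = B.X.n2 * k * B.X.n2⁻¹ * (B.X.n2 * B.W u'.1 * B.X.n2⁻¹) * (B.X.n2 * k * B.X.n2⁻¹)⁻¹ := by
            rw [(hT u'.1 u'.2).2.2, hu']
        _ = B.X.n2 * (k * B.W u'.1 * k⁻¹) * B.X.n2⁻¹ := by group
        _ = (B.X.n2 * c * B.X.n2⁻¹) * (B.X.n2 * B.U f * B.X.n2⁻¹) * (B.X.n2 * B.W u'.1 * B.X.n2⁻¹) := by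
            rw [ec]; simp only [f]; group
        _ = _ := by rw [hcn, (hT f hf64).2.1, (hT u'.1 u'.2).2.2, hu', hTf]
    rw [e1, B.q_mk u.2, B.q_mk u.2, ← B.W_xor]
    set pb := phiB (g.1 - 4) u.1
    have hpb : pb < 64 := hTf ▸ (hT f hf64).1
    have hUW := B.UW_rel u.2 hpb
    set ζ := zpar S.z (pairB u.1 pb) with hζ
    have hζz : ζ ∈ Subgroup.zpowers S.z := by
      rcases zpar_mem (c := S.z) (pairB u.1 pb) with e' | e' <;> rw [hζ, e']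
      exacts [one_mem _, Subgroup.mem_zpowers _]
    have hWU : B.W pb * B.U u.1 = ζ⁻¹ * (B.U u.1 * B.W pb) := by
      rw [hUW, (hcz (mul_mem (B.X.F2_le_E (B.W_mem _)) (B.X.F1_le_E (B.U_mem _))) hζz).eq, inv_mul_cancel_left]
    have hcomm : B.W w.1 * B.W pb = B.W pb * B.W w.1 := B.X.F2_comm (B.W_mem _) (B.W_mem _)
    rw [show B.X.n2 * k * B.X.n2⁻¹ * (B.U u.1 * B.W w.1) * (B.X.n2 * k * B.X.n2⁻¹)⁻¹ =
      (B.X.n2 * k * B.X.n2⁻¹ * B.U u.1 * (B.X.n2 * k * B.X.n2⁻¹)⁻¹) *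
        (B.X.n2 * k * B.X.n2⁻¹ * B.W w.1 * (B.X.n2 * k * B.X.n2⁻¹)⁻¹) by group, a1, a2,
      show c * B.W pb * B.U u.1 = c * (B.W pb * B.U u.1) by group, hWU, hcomm,
      show c * (ζ⁻¹ * (B.U u.1 * B.W pb)) * B.W w.1 = (c * ζ⁻¹) * (B.U u.1 * (B.W pb * B.W w.1)) by group]
    exact mul_mem_z (mul_mem hc (inv_mem hζz))
  · refine ⟨B.X.F.p, B.X.F.hpC, fun n hn => ?_⟩
    obtain ⟨u, w, rfl⟩ := hsplit n hn
    rw [h, qGen_eight u w]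
    have hu := B.p_acts u.1 u.2
    have hw := B.p_acts w.1 w.2
    refine ⟨by omega, ?_⟩
    rw [B.q_mk u.2, B.q_mk hu.1, show B.X.F.p * (B.U u.1 * B.W w.1) * B.X.F.p⁻¹ =
      (B.X.F.p * B.U u.1 * B.X.F.p⁻¹) * (B.X.F.p * B.W w.1 * B.X.F.p⁻¹) by group, hu.2.1, hw.2.2, mul_inv_cancel]
    exact one_mem _

end HexBase

end CfsgLib.JankoFour
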