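import Cfsg.Agent.Lib.JankoFourHexad.Transvection

/-!
# A frame adapted to two hexads (owner: helper28)

The second lift is the conjugate of the first by a lift of `n1`, the four group lifts to a four group
permuted by it, and its first involution is trivial on the last plane.
-/

set_option autoImplicit false

namespace CfsgLib.JankoFour

open Cfsg CfsgLib.ThreeTrans
open CfsgLib.JankoFour.M22 (Grp)
open CfsgLib.JankoFourHexad

variable {G : Type*} [Group G]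

/-- The adapted frame. -/
structure HexFrame (S : Setting G) where
  /-- the frame -/
  F : Frame S
  /-- a lift of `n1` -/
  n1 : G
  /-- a lift of `n2` -/
  n2 : G
  /-- a lift of `c` -/
  c : G
  hn1 : n1 ∈ S.C
  hn2 : n2 ∈ S.C
  hc : c ∈ S.C
  hab : n1 * F.a * n1⁻¹ = F.b
  hex : Hex (S.f F.a) (S.f F.b) (S.f F.v) (S.f F.w) (S.f n1) (S.f n2) (S.f c)
  tab : HexTables (S.f F.a) (S.f F.b) (S.f F.v) (S.f F.w) (S.f n1) (S.f n2) (S.f c)
  hvv : F.v * F.v = 1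
  hvw : F.b * F.w * F.b⁻¹ = F.v * F.w
  hvW : ∀ e ∈ F.W 2, Commute F.v e

variable [Finite G]

namespace Frame

variable {S : Setting G} (F : Frame S)

theorem commute_p_C {x : G} (hx : x ∈ S.C) : Commute x F.p := F.commute_p hx

theorem acts_of {x : G} (hx : x ∈ S.C) (hxx : x * x = 1) (ha : Commute x F.a) (i : ℕ) : F.Acts i x :=
  ⟨(S.mem_C.1 hx).1, F.commute_p hx, ha.mul_right ((F.commute_p hx).pow_right i), hxx⟩

/-- An involution fixing all planes is `1` in the Mathieu group. -/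
theorem f_eq_one_of_fix {x : G} (hx : x ∈ S.C) (h : ∀ i < 3, ∀ e ∈ F.W i, Commute x e) : S.f x = 1 := by
  have hxE : x ∈ Subgroup.centralizer (S.E : Set G) := Subgroup.mem_centralizer_iff.2 fun e he => by
    obtain ⟨a, ha, b, hb, t, ht, rfl⟩ := F.decomp he
    exact (((h 0 (by norm_num) a ha).mul_right (h 1 (by norm_num) b hb)).mul_right (h 2 (by norm_num) t ht)).eq.symm
  rw [S.hE.hcent] at hxE
  exact (S.f_eq_one_iff (S.C_le_H0 hx)).2 (Subgroup.mem_sup_left (S.mem_E_of_zpowers hxE))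

end Frame

namespace Setting

variable (S : Setting G)

theorem exists_hexFrame : Nonempty (HexFrame S) := by
  haveI : Fact (Nat.Prime 3) := ⟨Nat.prime_three⟩
  obtain ⟨r, s, v', w', m1, m2, m3, H, T⟩ := exists_hex
  obtain ⟨a0, ha0C, ha0, rfl⟩ := S.exists_lift_three H.cfg.hr
  obtain ⟨n1, hn1, rfl⟩ := S.exists_C m1
  obtain ⟨n2, hn2, rfl⟩ := S.exists_C m2
  obtain ⟨c, hc, rfl⟩ := S.exists_C m3
  set b0 := n1 * a0 * n1⁻¹ with hb0d
  have hb0C : b0 ∈ S.C := mul_mem (mul_mem hn1 ha0C) (inv_mem hn1)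
  have hb0 : b0 ^ 3 = 1 := by rw [hb0d, conj_pow, ha0, mul_one, mul_inv_cancel]
  obtain rfl : S.f b0 = s := by rw [hb0d, S.f_conj_C hn1 ha0C, H.n1r]
  have hconjC : b0 * a0 * b0⁻¹ ∈ S.C := mul_mem (mul_mem hb0C ha0C) (inv_mem hb0C)
  set p := a0⁻¹ * (b0 * a0 * b0⁻¹) with hp
  have hpC : p ∈ S.C := mul_mem (inv_mem ha0C) hconjC
  have hp1 : S.f p = 1 := by
    rw [hp, S.f_mul_C (inv_mem ha0C) hconjC, S.f_inv_C ha0C, S.f_conj_C hb0C ha0C, ← H.cfg.hrs.eq]; group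
  have hba0 : b0 * a0 * b0⁻¹ = a0 * p := by rw [hp, mul_inv_cancel_left]
  have hcp : Commute p a0 := S.ker_central hpC hp1 ha0C
  have hp3 : p ^ 3 = 1 := by
    have : (b0 * a0 * b0⁻¹) ^ 3 = 1 := by rw [conj_pow, ha0]; simp
    rwa [hba0, hcp.symm.mul_pow, ha0, one_mul] at this
  have hpP : p ∈ S.P := S.ker_three hpC hp1 (n := 1) hp3
  have hpne : p ≠ 1 := fun e => S.not_commute_lifts ha0C hb0C ha0 hb0 H.cfg
    (show Commute a0 b0 from (mul_inv_eq_iff_eq_mul.1 (by rw [hba0, e, mul_one])).symm)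
  have hcomm_p : ∀ {x : G}, x ∈ S.C → Commute x p := fun hx => (S.mem_C.1 hx).2 p hpP
  -- the four group
  obtain ⟨v1, hv1C, hv1, rfl⟩ := S.exists_inv_lift H.cfg.hv
  have hfw1 : S.f (b0 * v1 * b0⁻¹) = w' := by rw [S.f_conj_C hb0C hv1C, H.cfg.hsv]
  subst hfw1
  set w1 := b0 * v1 * b0⁻¹ with hw1d
  have hw1C : w1 ∈ S.C := mul_mem (mul_mem hb0C hv1C) (inv_mem hb0C)
  have hw1 : w1 * w1 = 1 := by rw [hw1d, conj_mul, hv1, mul_one, mul_inv_cancel]
  have hvw1 : Commute v1 w1 := S.inv_commute hv1C hw1C hv1 hw1 H.cfg.hvw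
  have h2C : b0 * w1 * b0⁻¹ ∈ S.C := mul_mem (mul_mem hb0C hw1C) (inv_mem hb0C)
  have hcase : b0 * w1 * b0⁻¹ = v1 * w1 ∨ b0 * w1 * b0⁻¹ = v1 * w1 * S.z := by
    refine S.lift_eq (mul_mem hv1C hw1C) h2C ?_ ?_ ?_
    · rw [hvw1.mul_pow, show (4 : ℕ) = 2 * 2 from rfl, pow_mul, pow_mul, pow_two v1, pow_two w1, hv1, hw1]
      simp
    · rw [conj_pow, show (4 : ℕ) = 2 * 2 from rfl, pow_mul, pow_two w1, hw1]
      simp
    · rw [S.f_mul_C hv1C hw1C, S.f_conj_C hb0C hw1C, H.cfg.hsw]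
  obtain ⟨v2, hv2C, hv2, hfv2, hfw2, h22⟩ : ∃ v2 ∈ S.C, v2 * v2 = 1 ∧ S.f v2 = S.f v1 ∧
      S.f (b0 * v2 * b0⁻¹) = S.f w1 ∧
      b0 * (b0 * v2 * b0⁻¹) * b0⁻¹ = v2 * (b0 * v2 * b0⁻¹) := by
    rcases hcase with e | e
    · exact ⟨v1, hv1C, hv1, rfl, rfl, e⟩
    · have hvz : Commute v1 S.z := (S.mem_C.1 hv1C).1
      have hbz : Commute b0 S.z := (S.mem_C.1 hb0C).1
      have hf : S.f (v1 * S.z) = S.f v1 := by
        rw [S.f_mul_C hv1C S.z_mem_C, (S.f_eq_one_iff (S.C_le_H0 S.z_mem_C)).2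
          (Subgroup.mem_sup_left S.hE.z_mem), mul_one]
      have hbz' : b0 * (v1 * S.z) * b0⁻¹ = w1 * S.z := by
        rw [show b0 * (v1 * S.z) * b0⁻¹ = w1 * (b0 * S.z * b0⁻¹) by rw [hw1d]; group, hbz.eq, mul_inv_cancel_right]
      refine ⟨v1 * S.z, mul_mem hv1C S.z_mem_C, ?_, hf, ?_, ?_⟩
      · rw [mul_assoc, ← mul_assoc S.z, ← hvz.eq, mul_assoc, S.z_sq, mul_one, hv1]
      · rw [S.f_conj_C hb0C (mul_mem hv1C S.z_mem_C), hf, hw1d, S.f_conj_C hb0C hv1C]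
      · rw [hbz', show b0 * (w1 * S.z) * b0⁻¹ = b0 * w1 * b0⁻¹ * (b0 * S.z * b0⁻¹) by group, hbz.eq,
          mul_inv_cancel_right, e, show v1 * S.z * (w1 * S.z) = v1 * (S.z * w1) * S.z by group,
          ← ((S.mem_C.1 hw1C).1).eq, show v1 * (w1 * S.z) * S.z = v1 * w1 * S.z * S.z by group]
  rw [← hfv2, ← hfw2] at H T
  set w2 := b0 * v2 * b0⁻¹ with hw2d
  have hw2C : w2 ∈ S.C := mul_mem (mul_mem hb0C hv2C) (inv_mem hb0C)
  have hw2 : w2 * w2 = 1 := by rw [hw2d, conj_mul, hv2, mul_one, mul_inv_cancel]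
  have hav : Commute a0 v2 := S.inv_commute_three ha0C hv2C ha0 hv2 H.cfg.hrv
  have haw : Commute a0 w2 := S.inv_commute_three ha0C hw2C ha0 hw2 H.cfg.hrw
  have hv4 : v2 ^ 4 = 1 := by rw [show (4 : ℕ) = 2 * 2 from rfl, pow_mul, pow_two v2, hv2, one_pow]
  let F0 : Frame S := ⟨p, a0, b0, v2, w2, hpP, orderOf_eq_prime hp3 hpne, ha0C, hb0C, hv2C, ha0, hb0, hba0,
    rfl, hv4, hav, haw, H.cfg⟩
  -- shifting by powers of `p`
  have hshift : ∀ j : ℕ, (∀ e ∈ F0.W (2 + j), Commute v2 e) → Nonempty (HexFrame S) := by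
    intro j hj
    have hpj : p ^ j ∈ S.C := pow_mem hpC j
    have hfj : ∀ {x : G}, x ∈ S.C → S.f (x * p ^ j) = S.f x := fun {x} hx => by
      rw [S.f_mul_C hx hpj, S.f_pow_C hpC, hp1, one_pow, mul_one]
    have hcj : ∀ {x : G}, x ∈ S.C → Commute x (p ^ j) := fun hx => (hcomm_p hx).pow_right j
    have h3j : ∀ {x : G}, x ∈ S.C → x ^ 3 = 1 → (x * p ^ j) ^ 3 = 1 := fun hx h => by
      rw [(hcj hx).mul_pow, h, one_mul, ← pow_mul, mul_comm, pow_mul, hp3, one_pow]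
    have hab' : n1 * (a0 * p ^ j) * n1⁻¹ = b0 * p ^ j := by
      rw [show n1 * (a0 * p ^ j) * n1⁻¹ = b0 * (n1 * p ^ j * n1⁻¹) by rw [hb0d]; group, (hcj hn1).eq,
        mul_inv_cancel_right]
    have hconjv : ∀ {x : G}, x ∈ S.C → b0 * p ^ j * x * (b0 * p ^ j)⁻¹ = b0 * x * b0⁻¹ := fun {x} hx => by
      rw [show b0 * p ^ j * x * (b0 * p ^ j)⁻¹ = b0 * (p ^ j * x * (p ^ j)⁻¹) * b0⁻¹ by group,
        (hcj hx).eq.symm, mul_inv_cancel_right]
    have hba' : b0 * p ^ j * (a0 * p ^ j) * (b0 * p ^ j)⁻¹ = a0 * p ^ j * p := by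
      rw [hconjv (mul_mem ha0C hpj), show b0 * (a0 * p ^ j) * b0⁻¹ = b0 * a0 * b0⁻¹ * (b0 * p ^ j * b0⁻¹) by group,
        hba0, (hcj hb0C).eq, mul_inv_cancel_right, mul_assoc, ← pow_succ', pow_succ, mul_assoc]
    have H' := H
    rw [← hfj ha0C, ← hfj hb0C] at H'
    have T' := T
    rw [← hfj ha0C, ← hfj hb0C] at T'
    let F' : Frame S := ⟨p, a0 * p ^ j, b0 * p ^ j, v2, w2, hpP, orderOf_eq_prime hp3 hpne,
      mul_mem ha0C hpj, mul_mem hb0C hpj, hv2C, h3j ha0C ha0, h3j hb0C hb0, hba', hconjv hv2C, hv4,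
      hav.mul_left (hcj hv2C).symm, haw.mul_left (hcj hw2C).symm, H'.cfg⟩
    refine ⟨⟨F', n1, n2, c, hn1, hn2, hc, hab', H', T', hv2, ?_, ?_⟩⟩
    · show b0 * p ^ j * w2 * (b0 * p ^ j)⁻¹ = v2 * w2
      rw [hconjv hw2C, h22]
    · intro e he
      refine hj e ?_
      obtain ⟨heE, hec⟩ := S.mem_fixE.1 he
      refine S.mem_fixE.2 ⟨heE, ?_⟩
      have e1 : F'.el 2 = F0.el (2 + j) := by
        show a0 * p ^ j * p ^ 2 = a0 * p ^ (2 + j)
        rw [mul_assoc, ← pow_add, add_comm j]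
      rwa [e1] at hec
  -- one of the three involutions is trivial on the first plane
  have hAv : F0.Acts 0 v2 := F0.acts_of hv2C hv2 hav.symm 0
  have hAw : F0.Acts 0 w2 := F0.acts_of hw2C hw2 haw.symm 0
  have hvwC : v2 * w2 ∈ S.C := mul_mem hv2C hw2C
  have hcvw : Commute v2 w2 := S.inv_commute hv2C hw2C hv2 hw2 H.cfg.hvw
  have hvw2 : v2 * w2 * (v2 * w2) = 1 := by
    rw [mul_assoc, ← mul_assoc w2, ← hcvw.eq, mul_assoc, hw2, mul_one, hv2]
  have hAvw : F0.Acts 0 (v2 * w2) := F0.acts_of hvwC hvw2 (hav.mul_right haw).symm 0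
  have hback : ∀ (i : ℕ) {x : G}, x ∈ S.C → (∀ e ∈ F0.W (i + 1), Commute (b0 * x * b0⁻¹) e) →
      ∀ e ∈ F0.W i, Commute x e := fun i x _ h e he => by
    have := h _ (F0.b_W he)
    exact LargeData.commute_conj_iff'.1 this
  have hfrom : ∀ x : G, (∀ e ∈ F0.W 0, Commute x e) → ∀ e ∈ F0.W 3, Commute x e := fun x h e he =>
    h e (by rw [← F0.W_mod 3] at he; exact he)
  rcases F0.plane_cases hAv with h | h
  · exact hshift 1 (by rw [show 2 + 1 = 3 from rfl]; exact hfrom v2 h)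
  rcases F0.plane_cases hAw with h' | h'
  · exact hshift 0 (hback 2 hv2C (hfrom w2 h'))
  · have h3 := F0.product_trivial hAv hAw hAvw hcvw h h'
    have h4 : ∀ e ∈ F0.W 2, Commute w2 e := hback 2 hw2C (by rw [h22]; exact hfrom _ h3)
    exact hshift 2 (by
      intro e he
      have he' : e ∈ F0.W 1 := by rw [← F0.W_mod 4] at he; exact he
      exact hback 1 hv2C h4 e he')

end Setting

end CfsgLib.JankoFour
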