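import Cfsg.Agent.Lib.JankoFourHexad.Fixer
import Cfsg.Agent.Lib.JankoFourHexad.CentChecks

/-!
# The common centralizer of `z` and a code not conjugate to `z` normalizes `V` (owner: helper28)
-/

set_option autoImplicit false
set_option linter.unusedSectionVars false
set_option maxRecDepth 100000

namespace CfsgLib.JankoFour

open Cfsg CfsgLib.ThreeTrans
open CfsgLib.JankoFourHexad
open CfsgLib.Sporadic (forallLt_elim)

variable {G : Type*} [Group G] [Finite G]

namespace HexBase

variable {S : Setting G} (B : HexBase S)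

theorem exists_of_count {n : ℕ} {f : ℕ → Bool} (h : (!Nat.beq (CfsgLib.Sporadic.countLt n f) 0) = true) :
    ∃ x < n, f x = true := by
  by_contra hno
  rw [CfsgLib.Sporadic.countLt_eq, Finset.card_eq_zero.2 (Finset.filter_eq_empty_iff.2 fun x hx hb =>
    hno ⟨x, Finset.mem_range.1 hx, hb⟩)] at h
  simp at h

theorem small_of_E {n : ℕ} (hn : n < 2048) (h : B.vel n ∈ S.E) : n < 128 := by
  have hk : Nat.shiftRight n 7 < 16 := by
    show n >>> 7 < 16
    rw [Nat.shiftRight_eq_div_pow]; omega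
  have h1 : B.Pk (Nat.shiftRight n 7) = B.Pk 0 := by
    rw [← B.f_vel hn, (S.f_eq_one_iff (S.hEH0 h)).2 (Subgroup.mem_sup_left h), B.Pk_eq (by norm_num)]
    simp [prod4]
  have h0 := B.Pk_inj hk (by norm_num) h1
  change n >>> 7 = 0 at h0
  rw [Nat.shiftRight_eq_div_pow] at h0
  omega

theorem vel_q {n : ℕ} (hn : n < 128) :
    n / 2 < 64 ∧ B.vel n * (B.q (n / 2))⁻¹ ∈ Subgroup.zpowers S.z :=
  ⟨by omega, B.el_vel hn ▸ B.el_q (by omega)⟩

theorem word_zero_norm {t : G} (htC : t ∈ S.C) (ht : B.ActsQ t (qWord (wordData.getD 0 []))) :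
    t ∈ Subgroup.normalizer (B.X.F1 : Set G) := by
  refine norm_of_map (Subgroup.eq_of_le_of_card_ge ?_
    (by rw [Subgroup.card_map_of_injective (MulAut.conj t).injective]))
  rintro _ ⟨x, hx, rfl⟩
  obtain ⟨u, hu, c, hc, rfl⟩ := B.mem_F1_code hx
  obtain ⟨-, hd⟩ := ht u (by omega)
  rw [show qWord (wordData.getD 0 []) u = u by rw [word_first]; rfl] at hd
  have hq : B.q u = B.U u := by rw [q, Nat.mod_eq_of_lt hu, Nat.div_eq_of_lt hu, W_zero, mul_one]
  rw [hq] at hd
  show t * (c * B.U u) * t⁻¹ ∈ B.X.F1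
  rw [show t * (c * B.U u) * t⁻¹ = (t * c * t⁻¹) * (t * B.U u * t⁻¹ * (B.U u)⁻¹) * B.U u by group,
    z_pow_comm (Frame.commute_z htC) hc]
  exact mul_mem (mul_mem (B.zpowers_le_F1 hc) (B.zpowers_le_F1 hd)) (B.U_mem u)

/-- An element of `H0` sending a code not conjugate to `z` to another normalizes `V`. -/
theorem conj_duad_inner {h : G} (hh : h ∈ S.H0) {d e : ℕ} (hd : d < 2048) (he : e < 2048)
    (hdD : dMask.testBit d = true) (heD : dMask.testBit e = true) (hde : h * B.vel d * h⁻¹ = B.vel e)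
    (hD : ∀ a ∈ B.NV, ∀ n < 2048, dMask.testBit n = true → dMask.testBit (B.act a n) = true) : h ∈ B.NV := by
  obtain ⟨j, t, htC, ht, ha⟩ := B.exists_word_rep hh
  have hhz : Commute h S.z := mem_centralizer_singleton_iff'.1 (S.hH0 hh)
  have haH : t⁻¹ * h ∈ S.H0 := mul_mem (inv_mem (S.C_le_H0 htC)) hh
  have haV : t⁻¹ * h ∈ B.NV := (B.norm_eq.symm ▸ Subgroup.mem_inf.2 ⟨haH, ha⟩ :
    t⁻¹ * h ∈ S.H0 ⊓ Subgroup.normalizer (B.V : Set G)).2
  have hj : j.1 = 0 := by
    by_contra hj
    set d' := B.act (t⁻¹ * h) d with hd'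
    have hd'lt : d' < 2048 := B.act_lt _ _
    have hv : t * B.vel d' * t⁻¹ = B.vel e := by
      rw [hd', B.vel_act haV hd, ← hde]; group
    by_cases hlow : d' < 128
    · have heE : B.vel e ∈ S.E := hv ▸ S.hE.conj_mem (Frame.commute_z htC) (B.el_vel hlow ▸ B.el_mem _)
      obtain ⟨hu, hcu⟩ := B.vel_q hlow
      obtain ⟨hu', hcu'⟩ := B.vel_q (B.small_of_E he heE)
      obtain ⟨h1, h2⟩ := ht (d' / 2) (by omega)
      have heq : qWord (wordData.getD j.1 []) (d' / 2) = e / 2 := by
        refine B.q_inj h1 (by omega) ?_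
        have hc2 := z_pow_comm (Frame.commute_z htC) hcu
        have e1 : B.q (qWord (wordData.getD j.1 []) (d' / 2)) * (B.q (e / 2))⁻¹ =
            (t * B.q (d' / 2) * t⁻¹ * (B.q (qWord (wordData.getD j.1 []) (d' / 2)))⁻¹)⁻¹ *
              (t * (B.vel d' * (B.q (d' / 2))⁻¹) * t⁻¹)⁻¹ * (B.vel e * (B.q (e / 2))⁻¹) := by
          rw [← hv]; group
        rw [e1]
        exact mul_mem (mul_mem (inv_mem h2) (inv_mem (by rw [hc2]; exact hcu))) hcu'
      have hs : ∀ a : ℕ, Nat.shiftRight a 1 = a / 2 := fun a => by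
        show a >>> 1 = a / 2
        rw [Nat.shiftRight_eq_div_pow, pow_one]
      have hc := forallLt_elim hexad_duad j.2
      simp only [Bool.or_eq_true, Nat.beq_eq] at hc
      have hc := forallLt_elim (hc.resolve_left hj) hlow
      simp only [Bool.or_eq_true, Bool.not_eq_true'] at hc
      have hc := forallLt_elim (hc.resolve_left (by rw [hD _ haV d hd hdD]; exact Bool.noConfusion)) (B.small_of_E he heE)
      simp only [Bool.or_eq_true, Bool.not_eq_true', heD, Bool.true_eq_false, false_or, hs, heq] at hc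
      simp at hc
    · -- a code outside `E`: the commutators with `E` lie in two hexads
      have hk0 : d' / 128 ≠ 0 := by omega
      have he128 : e / 128 ≠ 0 := fun h0 => hlow (B.small_of_E hd'lt (by
        have heE : B.vel e ∈ S.E := B.el_vel (show e < 128 by omega) ▸ B.el_mem _
        rw [← hv] at heE
        have := S.hE.conj_mem (Frame.commute_z htC).inv_left heE
        rwa [show t⁻¹ * (t * B.vel d' * t⁻¹) * t⁻¹⁻¹ = B.vel d' by group] at this))
      have hc := forallLt_elim hexad_shift j.2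
      simp only [Bool.or_eq_true, Nat.beq_eq] at hc
      have hc := forallLt_elim (hc.resolve_left hj) (show e / 128 < 16 by omega)
      simp only [Bool.or_eq_true, Nat.beq_eq] at hc
      obtain ⟨w, hw, hbit⟩ := exists_of_count (hc.resolve_left he128)
      rw [Bool.not_eq_true'] at hbit
      -- the commutator with the element of the second hexad
      set x := B.vel e with hx
      have hxV : x ∈ B.V := B.vel_mem he
      have htE : t⁻¹ * B.W w * t ∈ S.E := by
        have := S.hE.conj_mem (Frame.commute_z htC).inv_left (B.X.F2_le_E (B.W_mem w))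
        rwa [inv_inv] at this
      set y := B.vel d' with hy
      set c := t⁻¹ * B.W w * t
      have hF : y * c * y⁻¹ * c⁻¹ ∈ B.X.F1 := by
        refine B.mem_F1_of_V ?_ (mul_mem (S.hE.conj_mem ?_ htE) (inv_mem htE))
        · rw [show y * c * y⁻¹ * c⁻¹ = y * (c * y⁻¹ * c⁻¹) by group]
          exact mul_mem (B.vel_mem hd'lt) (B.conj_mem (B.EP_norm (Subgroup.mem_sup_left htE)) (inv_mem (B.vel_mem hd'lt)))
        · exact mem_centralizer_singleton_iff'.1 (S.hH0 (B.V_le_H0 (B.vel_mem hd'lt)))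
      obtain ⟨u, hu, c1, hc1, eu⟩ := B.mem_F1_code hF
      have himg : t * (y * c * y⁻¹ * c⁻¹) * t⁻¹ = x * B.W w * x⁻¹ * (B.W w)⁻¹ := by
        rw [← hv]; simp only [c]; group
      rw [eu] at himg
      -- the value of the commutator
      have hx2 : x * B.W w * x⁻¹ * (B.W w)⁻¹ * (B.q (Nat.shiftRight (phiS (e / 128) w) 1))⁻¹ ∈ Subgroup.zpowers S.z := by
        have hk16 : e / 128 < 16 := by omega
        obtain ⟨hkU, hkW⟩ := B.moves_prod4 ⟨e / 128, hk16⟩
        obtain ⟨c2, hc2, ek⟩ := hkW w hw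
        dsimp only at ek
        set f := Nat.shiftRight (phiS (e / 128) w) 1
        have hf64 : f < 64 := by
          have : ∀ n : Fin 16, ∀ w : Fin 64, Nat.shiftRight (phiS n.1 w.1) 1 < 64 := by decide +kernel
          exact this ⟨_, hk16⟩ ⟨w, hw⟩
        have hq : B.q f = B.U f := by rw [q, Nat.mod_eq_of_lt hf64, Nat.div_eq_of_lt hf64, W_zero, mul_one]
        rw [hq, hx, B.vel_split ⟨e, he⟩, show Nat.shiftRight e 7 = e / 128 by
          show e >>> 7 = _; rw [Nat.shiftRight_eq_div_pow], B.gprod_kl]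
        set k := prod4 B.X.kl (e / 128)
        set zz := zpar S.z e * B.U (eU e)
        have hzzE : zz ∈ S.E := mul_mem (zpar_E e) (B.X.F1_le_E (B.U_mem _))
        have hr : zz * B.W w * zz⁻¹ * (B.W w)⁻¹ ∈ Subgroup.zpowers S.z := by
          rcases S.hE.conj_eq_or hzzE (B.X.F2_le_E (B.W_mem w)) with e1 | e1 <;> rw [e1]
          · rw [mul_inv_cancel]; exact one_mem _
          · rw [mul_inv_cancel_right]
            exact Subgroup.mem_zpowers _
        have hzU : zz * B.U f * zz⁻¹ = B.U f := by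
          have hcm : Commute zz (B.U f) := by
            have h1 : zz ∈ B.X.F1 := mul_mem (by
              rcases zpar_mem (c := S.z) e with e1 | e1 <;> rw [e1]
              exacts [one_mem _, B.X.z_F1]) (B.U_mem _)
            exact B.X.F1_comm h1 (B.U_mem f)
          rw [hcm.eq, mul_inv_cancel_right]
        have hzc2 : zz * c2 * zz⁻¹ = c2 := z_pow_comm (S.hE.commute_z hzzE) hc2
        set r := zz * B.W w * zz⁻¹ * (B.W w)⁻¹
        have e3 : zz * k * B.W w * (zz * k)⁻¹ * (B.W w)⁻¹ * (B.U f)⁻¹ = c2 * r := by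
          have hrU : Commute r (B.U f) :=
            (Frame.commute_z_zpowers (S := S) (S.hE.commute_z (B.X.F1_le_E (B.U_mem f))) hr).symm
          calc zz * k * B.W w * (zz * k)⁻¹ * (B.W w)⁻¹ * (B.U f)⁻¹
              = zz * (k * B.W w * k⁻¹) * zz⁻¹ * (B.W w)⁻¹ * (B.U f)⁻¹ := by group
            _ = (zz * c2 * zz⁻¹) * (zz * B.U f * zz⁻¹) * r * (B.U f)⁻¹ := by rw [ek]; simp only [r]; group
            _ = _ := by rw [hzc2, hzU, mul_assoc c2, ← hrU.eq]; group
        rw [e3]
        exact mul_mem hc2 hr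
      rw [← himg] at hx2
      obtain ⟨h1, h2⟩ := ht u (by omega)
      have hqu : B.q u = B.U u := by rw [q, Nat.mod_eq_of_lt hu, Nat.div_eq_of_lt hu, W_zero, mul_one]
      set f := Nat.shiftRight (phiS (e / 128) w) 1
      have hf : f < 4096 := by
        have : ∀ n : Fin 16, ∀ w : Fin 64, Nat.shiftRight (phiS n.1 w.1) 1 < 4096 := by decide +kernel
        exact this ⟨_, by omega⟩ ⟨w, hw⟩
      have heq : qWord (wordData.getD j.1 []) u = f := by
        refine B.q_inj h1 hf ?_
        have e4 : B.q (qWord (wordData.getD j.1 []) u) * (B.q f)⁻¹ =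
            (t * B.q u * t⁻¹ * (B.q (qWord (wordData.getD j.1 []) u))⁻¹)⁻¹ * (t * c1 * t⁻¹)⁻¹ *
              (t * (c1 * B.U u) * t⁻¹ * (B.q f)⁻¹) := by rw [hqu]; group
        rw [e4]
        exact mul_mem (mul_mem (inv_mem h2) (inv_mem (by rw [z_pow_comm (Frame.commute_z htC) hc1]; exact hc1))) hx2
      rw [← heq, (word_ok j).2 ⟨u, hu⟩] at hbit
      exact Bool.noConfusion hbit
  rw [hj] at ht
  have htV : t ∈ B.NV := (B.norm_eq.symm ▸ Subgroup.mem_inf.2 ⟨S.C_le_H0 htC, B.word_zero_norm htC ht⟩ :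
    t ∈ S.H0 ⊓ Subgroup.normalizer (B.V : Set G)).2
  simpa using mul_mem htV haV

/-- `C(z) ⊓ C(d)` normalizes `V`. -/
theorem cent_z_duad [IsSimpleGroup G] (hG : ¬ IsMulCommutative G) (hJ : IsOfJankoFourType G) {d : ℕ}
    (hd : d < 2048) (hdD : dMask.testBit d = true) {g : G} (hgz : Commute g S.z) (hgd : Commute g (B.vel d)) :
    g ∈ B.NV := by
  obtain ⟨-, hD, -⟩ := B.duads_spec hG hJ
  have hact : ∀ a ∈ B.NV, ∀ n < 2048, dMask.testBit n = true → dMask.testBit (B.act a n) = true := fun a ha n hn h => by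
    obtain ⟨h1, h2⟩ := (hD n hn).1 h
    exact (hD _ (B.act_lt _ _)).2 ⟨fun e => h1 (B.act_inj ha hn (by norm_num) (e.trans (B.act_zero ha).symm)),
      fun c => h2 ((B.isZc_act ha hn).1 c)⟩
  have hfix : g * B.vel d * g⁻¹ = B.vel d := by rw [hgd.eq, mul_inv_cancel_right]
  by_cases hg0 : g ∈ S.H0
  · exact B.conj_duad_inner hg0 hd hd hdD hdD hfix hact
  obtain ⟨n, hnz, hn0, hn⟩ := B.exists_outer_norm hJ
  have hh : n⁻¹ * g ∈ S.H0 := S.hidx _ _ hnz.inv_left hgz (fun c => hn0 (by simpa using inv_mem c)) hg0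
  have := B.conj_duad_inner hh hd (B.act_lt n⁻¹ d) hdD (hact _ (inv_mem hn) d hd hdD) (by
    rw [B.vel_act (inv_mem hn) hd]
    calc n⁻¹ * g * B.vel d * (n⁻¹ * g)⁻¹ = n⁻¹ * (g * B.vel d * g⁻¹) * n := by group
      _ = _ := by rw [hfix, inv_inv]) hact
  simpa using mul_mem hn this

end HexBase

end CfsgLib.JankoFour
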