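import Mathlib

/-!
# Codes for the extraspecial group and the elementary abelian group of order `2 ^ 11` (owner: helper28)

Scalars `0, 1, ω, ω + 1` are the numbers `0, 1, 2, 3`; a vector of three scalars is a number below 64.
An element of the extraspecial group is `bit 0` for the involution, `bits 1-6` for the fixed space of the
first four groups and `bits 7-12` for that of the second.  An element of the elementary abelian group of
order `2 ^ 11` has the same bits `0-6` and four further bits for the pairs `01, 12, 34, 45` of lines.
-/

set_option autoImplicit false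

namespace CfsgLib.JankoFourHexad

/-- Scalar product. -/
def fm (a b : ℕ) : ℕ := Nat.land (Nat.shiftRight 2625168384 (2 * (4 * a + b))) 3

/-- Conjugate scalar. -/
def fc (a : ℕ) : ℕ := Nat.land (Nat.shiftRight 180 (2 * a)) 3

/-- A coordinate. -/
def co (u i : ℕ) : ℕ := Nat.land (Nat.shiftRight u (2 * i)) 3

/-- A vector from its coordinates. -/
def vec (a b c : ℕ) : ℕ := Nat.lor a (Nat.lor (Nat.shiftLeft b 2) (Nat.shiftLeft c 4))

/-- A scalar multiple. -/
def sm (s u : ℕ) : ℕ := vec (fm s (co u 0)) (fm s (co u 1)) (fm s (co u 2))

/-- The hermitian pairing. -/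
def herm (u w : ℕ) : ℕ :=
  Nat.xor (fm (fc (co u 0)) (co w 0)) (Nat.xor (fm (fc (co u 1)) (co w 1)) (fm (fc (co u 2)) (co w 2)))

/-- The commutator pairing. -/
def pairB (u w : ℕ) : ℕ := Nat.shiftRight (herm u w) 1

/-- The six lines of the first fixed space. -/
def oA (i : ℕ) : ℕ := Nat.land (Nat.shiftRight 49280254209 (6 * i)) 63

/-- The six lines of the second fixed space. -/
def oB (i : ℕ) : ℕ := Nat.land (Nat.shiftRight 57401038422 (6 * i)) 63

/-- The first line of the `k`-th pair. -/
def pfst (k : ℕ) : ℕ := if k < 2 then k else k + 1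

/-- The contribution of a line to a commutator with a four group element, as a code of the fixed space. -/
def phiA (i w : ℕ) : ℕ :=
  Nat.lor (if herm (oA i) w = 0 then 0 else 1) (Nat.shiftLeft (sm (herm (oA i) w) (oA i)) 1)

/-- The commutator of the basis element `k` of the first four groups with a vector. -/
def phiK (k w : ℕ) : ℕ := Nat.xor (phiA (pfst k) w) (phiA (pfst k + 1) w)

/-- The commutator of an element of the first four groups with a vector. -/
def phiS (n w : ℕ) : ℕ :=
  Nat.xor (if Nat.testBit n 0 then phiK 0 w else 0)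
    (Nat.xor (if Nat.testBit n 1 then phiK 1 w else 0)
      (Nat.xor (if Nat.testBit n 2 then phiK 2 w else 0) (if Nat.testBit n 3 then phiK 3 w else 0)))

/-- The part of a code in the first fixed space. -/
def eU (n : ℕ) : ℕ := Nat.land (Nat.shiftRight n 1) 63

/-- The part of a code in the second fixed space. -/
def eW (n : ℕ) : ℕ := Nat.shiftRight n 7

/-- The product of the extraspecial group. -/
def emul (m n : ℕ) : ℕ := Nat.xor (Nat.xor m n) (pairB (eU n) (eW m))

/-- Multiplication by the scalar `ω` on the extraspecial group. -/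
def eP (n : ℕ) : ℕ :=
  Nat.lor (Nat.land n 1) (Nat.lor (Nat.shiftLeft (sm 2 (eU n)) 1) (Nat.shiftLeft (sm 2 (eW n)) 7))

/-- The action of the element `k` of the first four groups on the extraspecial group. -/
def eV (k n : ℕ) : ℕ := Nat.xor n (phiK k (eW n))

/-- The vector sum of two lines of the second fixed space weighted by the pairing with a vector. -/
def phiB (k u : ℕ) : ℕ :=
  Nat.xor (sm (herm (oB (pfst k)) u) (oB (pfst k))) (sm (herm (oB (pfst k + 1)) u) (oB (pfst k + 1)))

/-- The action of a generator on the extraspecial group modulo its centre. -/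
def qGen (g n : ℕ) : ℕ :=
  if g < 4 then Nat.xor n (Nat.shiftRight (phiK g (Nat.shiftRight n 6)) 1)
  else if g < 8 then Nat.xor n (Nat.shiftLeft (phiB (g - 4) (Nat.land n 63)) 6)
  else Nat.lor (sm 2 (Nat.land n 63)) (Nat.shiftLeft (sm 2 (Nat.shiftRight n 6)) 6)

/-- Translation of the elementary abelian group by a vector of the second fixed space. -/
def vT (w n : ℕ) : ℕ :=
  Nat.xor n (Nat.xor (pairB (eU n) w) (phiS (Nat.shiftRight n 7) w))

end CfsgLib.JankoFourHexad
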