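import Cfsg.Agent.Lib.JankoFourHexad.FixChecks

/-!
# Checks on the sixteen tables of the Sylow subgroup (owner: helper28)
-/

set_option autoImplicit false
set_option maxRecDepth 100000

namespace CfsgLib.JankoFourHexad

/-- The table of a product of the two inner involutions. -/
def rsTab (k : ℕ) : ℕ := kWord (altWord rTab) (kWord (altWord sTab) k)

/-- The sixteen tables. -/
def sylTab (i k : ℕ) : ℕ :=
  Nat.iterate rsTab (i % 4) (Nat.iterate (kWord (altWord rTab)) (i / 4 % 2) (Nat.iterate tauTab (i / 8) k))

theorem sylTab_inj : ∀ i j : Fin 16, (∀ k : Fin 16, sylTab i.1 k.1 = sylTab j.1 k.1) → i = j := by decide +kernel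

theorem rTab_lt : rTab < 360 ∧ sTab < 360 := by decide +kernel

theorem xfold_four : ∀ k : Fin 16, xfold (fun j => 2 ^ j) k.1 4 = k.1 := by decide +kernel

theorem tauTab_lt : ∀ k : Fin 16, tauTab k.1 < 16 := by decide +kernel

end CfsgLib.JankoFourHexad
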