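import Cfsg.Agent.Lib.JankoFourHexad.Fixer
import Cfsg.Agent.Lib.JankoFourHexad.TableChecks

/-!
# The action on the fixed points of `P` in `V` and a Sylow subgroup split over `z` (owner: helper28)
-/

set_option autoImplicit false
set_option linter.unusedSectionVars false
set_option maxRecDepth 100000

namespace CfsgLib.JankoFour

open Cfsg CfsgLib.ThreeTrans
open CfsgLib.JankoFourHexad
open CfsgLib.JankoFour.M22 (Grp)
open CfsgLib.Sporadic (forallLt_elim)

variable {G : Type*} [Group G] [Finite G]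

namespace HexBase

variable {S : Setting G} (B : HexBase S)

theorem gMap_act_fixed {x : G} (hx : x ∈ B.L) {n : ℕ} (hn : n < 2048) (hfix : gMap 2 n = n) :
    gMap 2 (B.act x n) = B.act x n := by
  obtain ⟨hxN, hxn, -⟩ := B.mem_L.1 hx
  obtain ⟨h1, h2⟩ := B.p_actsV.2 _ (B.act_lt x n)
  refine B.vel_inj h1 (B.act_lt x n) ?_
  rw [← h2, B.vel_act hxN hn]
  obtain ⟨i, hi⟩ := B.X.F.P_eq ((hxn.inv S).2 _ B.X.F.hpP)
  rw [inv_inv] at hi
  have hc : Commute B.X.F.p (B.vel n) := by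
    have := (B.p_actsV.2 n hn).2
    rw [hfix] at this
    exact mul_inv_eq_iff_eq_mul.1 this
  have hc' := (hc.pow_left i).eq
  calc B.X.F.p * (x * B.vel n * x⁻¹) * B.X.F.p⁻¹
      = x * ((x⁻¹ * B.X.F.p * x) * B.vel n * (x⁻¹ * B.X.F.p * x)⁻¹) * x⁻¹ := by group
    _ = _ := by rw [hi, hc', mul_inv_cancel_right]

theorem shift_lt' {k : ℕ} (hk : k < 16) : k <<< 7 < 2048 := by rw [Nat.shiftLeft_eq]; omega

theorem rep_facts {k : ℕ} (hk : k < 16) : gMap 2 (repCode k) = repCode k ∧ repCode k < 2048 ∧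
    gMap 2 (k <<< 7) = k <<< 7 ∧ (k ≠ 0 → dMask.testBit (repCode k) = true) ∧ repCode k / 128 = k := by
  have h := forallLt_elim rep_spec hk
  simp only [Bool.and_eq_true, Nat.beq_eq, Nat.blt_eq, Bool.or_eq_true] at h
  refine ⟨h.1.1.1.1, h.1.1.1.2, h.1.1.2, fun h0 => h.1.2.resolve_left h0, ?_⟩
  have := h.2
  rwa [show ∀ a b : ℕ, Nat.shiftRight a b = a >>> b from fun _ _ => rfl, Nat.shiftRight_eq_div_pow] at this

/-- The table of an element. -/
noncomputable def tab (x : G) (k : ℕ) : ℕ := B.act x (k <<< 7) / 128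

theorem tab_lt (x : G) (k : ℕ) : B.tab x k < 16 := by
  have := B.act_lt x (k <<< 7)
  rw [tab]; omega

theorem fixed_split {n : ℕ} (hn : n < 2048) (hfix : gMap 2 n = n) : ∃ b < 2, n = b ^^^ (n / 128) <<< 7 := by
  have h := forallLt_elim fixed_parts hn
  simp only [hfix, Nat.beq_refl, Bool.not_true, Bool.false_or, Nat.beq_eq] at h
  refine ⟨n % 2, Nat.mod_lt _ (by norm_num), ?_⟩
  rw [show ∀ a b : ℕ, Nat.shiftRight a b = a >>> b from fun _ _ => rfl, Nat.shiftRight_eq_div_pow,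
    show ∀ a b : ℕ, Nat.land a b = a &&& b from fun _ _ => rfl, Nat.and_one_is_mod,
    show ∀ a b : ℕ, Nat.shiftLeft a b = a <<< b from fun _ _ => rfl] at h
  exact h

theorem act_one {x : G} (hx : x ∈ B.L) : B.act x 1 = 1 :=
  B.act_eq (B.mem_L.1 hx).1 (by norm_num) (by norm_num) (by
    rw [vel_one, (B.mem_L.1 hx).2.1.1.eq, mul_inv_cancel_right])

theorem act_div {x : G} (hx : x ∈ B.L) {n : ℕ} (hn : n < 2048) (hfix : gMap 2 n = n) :
    B.act x n / 128 = B.tab x (n / 128) := by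
  obtain ⟨b, hb, e⟩ := fixed_split hn hfix
  conv_lhs => rw [e, B.act_xor (B.mem_L.1 hx).1]
  rw [tab, show (128 : ℕ) = 2 ^ 7 from rfl, ← Nat.shiftRight_eq_div_pow, ← Nat.shiftRight_eq_div_pow,
    Nat.shiftRight_xor_distrib]
  have h0 : B.act x b >>> 7 = 0 := by
    rcases (show b = 0 ∨ b = 1 by omega) with rfl | rfl
    · rw [B.act_zero (B.mem_L.1 hx).1]; rfl
    · rw [B.act_one hx]; rfl
  rw [h0, Nat.zero_xor, Nat.shiftRight_eq_div_pow, Nat.shiftRight_eq_div_pow]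

theorem tab_mul {x y : G} (hx : x ∈ B.L) (hy : y ∈ B.L) {k : ℕ} (hk : k < 16) :
    B.tab (x * y) k = B.tab x (B.tab y k) := by
  rw [tab, B.act_mul (B.mem_L.1 hx).1 (B.mem_L.1 hy).1 (shift_lt' hk),
    B.act_div hx (B.act_lt _ _) (B.gMap_act_fixed hy (shift_lt' hk) (rep_facts hk).2.2.1)]
  rfl

theorem tab_one {k : ℕ} (hk : k < 16) : B.tab 1 k = k := by
  rw [tab, B.act_eq (one_mem _) (shift_lt' hk) (shift_lt' hk) (by group), Nat.shiftLeft_eq]
  omega

theorem tab_inv {x : G} (hx : x ∈ B.L) {k : ℕ} (hk : k < 16) : B.tab x (B.tab x⁻¹ k) = k := by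
  rw [← B.tab_mul hx (inv_mem hx) hk, mul_inv_cancel, B.tab_one hk]

theorem tab_xor {x : G} (hx : x ∈ B.L) (k l : ℕ) : B.tab x (k ^^^ l) = B.tab x k ^^^ B.tab x l := by
  rw [tab, tab, tab, Nat.shiftLeft_xor_distrib, B.act_xor (B.mem_L.1 hx).1]
  simp only [show (128 : ℕ) = 2 ^ 7 from rfl, ← Nat.shiftRight_eq_div_pow, Nat.shiftRight_xor_distrib]

theorem act_rep [IsSimpleGroup G] (hG : ¬ IsMulCommutative G) (hJ : IsOfJankoFourType G) {x : G} (hx : x ∈ B.L)
    {k : ℕ} (hk : k < 16) : B.act x (repCode k) = repCode (B.tab x k) := by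
  obtain ⟨hfix, hlt, -, hD0, hdiv⟩ := rep_facts hk
  have hxN := (B.mem_L.1 hx).1
  have hdiv' : B.act x (repCode k) / 128 = B.tab x k := by rw [B.act_div hx hlt hfix, hdiv]
  by_cases h0 : k = 0
  · subst h0
    rw [show repCode 0 = 0 from rfl, B.act_zero hxN] at hdiv' ⊢
    rw [← hdiv']; rfl
  obtain ⟨-, hD, -⟩ := B.duads_spec hG hJ
  obtain ⟨hne, hz⟩ := (hD _ hlt).1 (hD0 h0)
  have hd : dMask.testBit (B.act x (repCode k)) = true := (hD _ (B.act_lt _ _)).2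
    ⟨fun e => hne (B.act_inj hxN hlt (by norm_num) (e.trans (B.act_zero hxN).symm)), fun c => hz ((B.isZc_act hxN hlt).1 c)⟩
  have h := forallLt_elim rep_unique (B.act_lt x (repCode k))
  simp only [B.gMap_act_fixed hx hlt hfix, hd, Nat.beq_refl, Bool.not_true, Bool.false_or, Nat.beq_eq] at h
  rw [show ∀ a b : ℕ, Nat.shiftRight a b = a >>> b from fun _ _ => rfl, Nat.shiftRight_eq_div_pow] at h
  rwa [show (2 : ℕ) ^ 7 = 128 from rfl, hdiv'] at h

theorem tab_form [IsSimpleGroup G] (hG : ¬ IsMulCommutative G) (hJ : IsOfJankoFourType G) {x : G} (hx : x ∈ B.L)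
    {k l : ℕ} (hk : k < 16) (hl : l < 16) : omK (B.tab x k) (B.tab x l) = omK k l := by
  have hkl : k ^^^ l < 16 := Nat.xor_lt_two_pow (n := 4) hk hl
  have hxN := (B.mem_L.1 hx).1
  show ((repCode (B.tab x k) ^^^ repCode (B.tab x l)) ^^^ repCode (B.tab x k ^^^ B.tab x l)) &&& 1 =
    ((repCode k ^^^ repCode l) ^^^ repCode (k ^^^ l)) &&& 1
  rw [← B.tab_xor hx, ← B.act_rep hG hJ hx hk, ← B.act_rep hG hJ hx hl, ← B.act_rep hG hJ hx hkl,
    ← B.act_xor hxN, ← B.act_xor hxN]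
  set s := repCode k ^^^ repCode l ^^^ repCode (k ^^^ l) with hs
  have hdiv : s / 128 = 0 := by
    simp only [hs, show (128 : ℕ) = 2 ^ 7 from rfl, ← Nat.shiftRight_eq_div_pow, Nat.shiftRight_xor_distrib]
    rw [Nat.shiftRight_eq_div_pow, Nat.shiftRight_eq_div_pow, Nat.shiftRight_eq_div_pow]
    show repCode k / 128 ^^^ repCode l / 128 ^^^ repCode (k ^^^ l) / 128 = 0
    rw [(rep_facts hk).2.2.2.2, (rep_facts hl).2.2.2.2, (rep_facts hkl).2.2.2.2, Nat.xor_self]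
  have hslt : s < 2048 := Nat.xor_lt_two_pow (n := 11) (Nat.xor_lt_two_pow (n := 11) (rep_facts hk).2.1 (rep_facts hl).2.1)
    (rep_facts hkl).2.1
  have hpN := B.actsV_norm B.p_actsV
  have hfix : gMap 2 s = s := by
    have e : ∀ c < 16, B.act B.X.F.p (repCode c) = repCode c := fun c hc => by
      rw [B.act_of_actsV B.p_actsV (rep_facts hc).2.1, (rep_facts hc).1]
    rw [← B.act_of_actsV B.p_actsV hslt, hs, B.act_xor hpN, B.act_xor hpN, e k hk, e l hl, e _ hkl]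
  obtain ⟨b, hb, e⟩ := fixed_split hslt hfix
  rw [hdiv] at e
  simp only [Nat.zero_shiftLeft, Nat.xor_zero] at e
  rw [e]
  rcases (show b = 0 ∨ b = 1 by omega) with rfl | rfl
  · rw [B.act_zero hxN]
  · rw [B.act_one hx]

theorem tab_conj {x : G} (hxC : x ∈ S.C) (hx : x ∈ B.L) {k : ℕ} (hk : k < 16) :
    B.Pk (B.tab x k) = S.f x * B.Pk k * (S.f x)⁻¹ := by
  obtain ⟨hxN, -, -⟩ := B.mem_L.1 hx
  have h1 : B.Pk (B.tab x k) = S.f (B.vel (B.act x (k <<< 7))) := by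
    rw [B.f_vel (B.act_lt _ _), show ∀ a b : ℕ, Nat.shiftRight a b = a >>> b from fun _ _ => rfl,
      Nat.shiftRight_eq_div_pow]
    rfl
  rw [h1, B.vel_act hxN (shift_lt' hk)]
  exact S.f_conj_C hxC (B.velK_mem hk)

theorem tab_tw (i : Fin 360) {k : ℕ} (hk : k < 16) : B.tab (B.tw (altWord i.1)) k = kWord (altWord i.1) k := by
  obtain ⟨h1, h2⟩ := B.tw_Pk (altWord i.1) (alt_gens i) k hk
  refine B.Pk_inj (B.tab_lt _ _) h1 ?_
  rw [B.tab_conj (B.tw_mem _) (B.tw_L _) hk]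
  exact h2

theorem L_inner {x : G} (hx : x ∈ B.L) (h0 : x ∈ S.H0) : x ∈ S.C :=
  S.norm_inner_mem_C (B.mem_L.1 hx).2.1 h0

/-- Elements with trivial table are central in `C`. -/
theorem tab_ker {x : G} (hx : x ∈ B.L) (ht : ∀ k < 16, B.tab x k = k) : x ∈ S.C ∧ S.f x = 1 := by
  have hinner : ∀ {y : G}, y ∈ B.L → y ∈ S.H0 → (∀ k < 16, B.tab y k = k) → y ∈ S.C ∧ S.f y = 1 := by
    intro y hy hy0 hty
    have hyC := B.L_inner hy hy0
    refine ⟨hyC, ?_⟩
    obtain ⟨⟨⟨e, heP⟩, k, i⟩, he⟩ := B.nmap_surjective ⟨y, hy0, (B.mem_L.1 hy).1⟩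
    have e' : e * B.vel (Nat.shiftLeft k.1 7) * B.tw (altWord i.1) = y := congrArg Subtype.val he
    have hf : S.f y = B.Pk k.1 * S.f (B.tw (altWord i.1)) := by
      rw [← e', S.f_mul (mul_mem (S.EP_le_H0 heP) (S.C_le_H0 (B.velK_mem k.2))) (S.C_le_H0 (B.tw_mem _)),
        S.f_mul (S.EP_le_H0 heP) (S.C_le_H0 (B.velK_mem k.2)), (S.f_eq_one_iff (S.EP_le_H0 heP)).2 heP, one_mul]
      rfl
    obtain rfl : i = ⟨0, by norm_num⟩ := by
      refine altTab_inj fun l hl => ?_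
      show kWord (altWord i.1) l = kWord (altWord 0) l
      rw [alt_zero, ← B.tab_tw i hl]
      show B.tab (B.tw (altWord i.1)) l = l
      refine B.Pk_inj (B.tab_lt _ _) hl ?_
      have h1 := B.tab_conj hyC hy hl
      rw [hty l hl, hf] at h1
      rw [B.tab_conj (B.tw_mem _) (B.tw_L _) hl]
      have hc : Commute (B.Pk k.1) (B.Pk l) := by
        show _ = _
        rw [B.Pk_mul k.2 hl, B.Pk_mul hl k.2]
        exact congrArg B.Pk (Nat.xor_comm _ _)
      calc S.f (B.tw (altWord i.1)) * B.Pk l * (S.f (B.tw (altWord i.1)))⁻¹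
          = (B.Pk k.1)⁻¹ * (B.Pk k.1 * S.f (B.tw (altWord i.1)) * B.Pk l *
              (B.Pk k.1 * S.f (B.tw (altWord i.1)))⁻¹) * B.Pk k.1 := by group
        _ = B.Pk l := by rw [← h1, mul_assoc, ← hc.eq, inv_mul_cancel_left]
    have htw : B.tw (altWord (⟨0, by norm_num⟩ : Fin 360).1) = 1 := by rw [show altWord 0 = [] from alt_zero]; rfl
    rw [htw, S.f_one, mul_one] at hf
    set kk := prod4 B.X.kl k.1
    have hkk : kk ∈ S.C := HexFrame.prod4_mem (fun i _ => B.X.kl_mem i) _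
    have hPk : B.Pk k.1 = S.f kk := by rw [B.Pk_eq k.2, B.X.f_prod4]
    have hyk : kk⁻¹ * y ∈ B.L := B.ker_L (mul_mem (inv_mem hkk) hyC) (by
      rw [S.f_mul_C (inv_mem hkk) hyC, S.f_inv_C hkk, hf, hPk, inv_mul_cancel])
    have hkkF : kk ∈ Subgroup.normalizer (B.X.F2 : Set G) := by
      have := mul_mem (B.mem_L.1 hy).2.2 (inv_mem (B.mem_L.1 hyk).2.2)
      rwa [mul_inv_rev, inv_inv, mul_inv_cancel_left] at this
    obtain ⟨hU, hW⟩ := B.moves_prod4 k
    have hk0 : k.1 = 0 := shift_inj k fun w => by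
      obtain ⟨c, hc, e1⟩ := hW w.1 w.2
      dsimp only at e1
      have h2 := (Subgroup.mem_normalizer_iff.1 hkkF _).1 (B.W_mem w.1)
      rw [e1] at h2
      set f := Nat.shiftRight (phiS k.1 w.1) 1
      have hf64 : f < 64 := by
        have : ∀ n : Fin 16, ∀ w : Fin 64, Nat.shiftRight (phiS n.1 w.1) 1 < 64 := by decide +kernel
        exact this k w
      obtain ⟨w2, hw2, c2, hc2, e2⟩ := B.mem_F2_code h2
      have e3 : B.U f * B.W (Nat.xor w.1 w2) = c⁻¹ * c2 := by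
        rw [← B.W_xor]
        calc B.U f * (B.W w.1 * B.W w2) = c⁻¹ * (c * B.U f * B.W w.1) * B.W w2 := by group
          _ = c⁻¹ * c2 * (B.W w2 * B.W w2) := by rw [e2]; group
          _ = _ := by rw [W_sq, mul_one]
      exact (B.U_mul_W_eq hf64 (Nat.xor_lt_two_pow (n := 6) w.2 hw2) (mul_mem (inv_mem hc) hc2) e3).1
    rw [hf, hk0, B.Pk_eq (by norm_num)]
    simp [prod4]
  by_cases hx0 : x ∈ S.H0
  · exact hinner hx hx0 ht
  exfalso
  obtain ⟨hxN, hxn, -⟩ := B.mem_L.1 hx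
  have hcen : ∀ {g : G}, g ∈ B.L → g ∈ S.C → ∃ c ∈ S.C, S.f c = 1 ∧ x * g * x⁻¹ = g * c := by
    intro g hg hgC
    have hxi : ∀ k < 16, B.tab x⁻¹ k = k := fun k hk => by
      conv_lhs => rw [← ht _ (B.tab_lt x⁻¹ k), B.tab_inv hx hk]
    have hconj := S.conj_C hxn hgC
    have hmem : g⁻¹ * (x * g * x⁻¹) ∈ B.L := mul_mem (inv_mem hg) (mul_mem (mul_mem hx hg) (inv_mem hx))
    have hC : g⁻¹ * (x * g * x⁻¹) ∈ S.C := mul_mem (inv_mem hgC) hconj
    refine ⟨_, hC, (hinner hmem (S.C_le_H0 hC) fun k hk => ?_).2, (mul_inv_cancel_left _ _).symm⟩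
    rw [B.tab_mul (inv_mem hg) (mul_mem (mul_mem hx hg) (inv_mem hx)) hk, B.tab_mul (mul_mem hx hg) (inv_mem hx) hk,
      hxi k hk, B.tab_mul hx hg hk, ht _ (B.tab_lt _ _), ← B.tab_mul (inv_mem hg) hg hk, inv_mul_cancel,
      B.tab_one hk]
  obtain ⟨c1, hc1, hf1, e1⟩ := hcen B.a_L B.X.F.haC
  obtain ⟨c2, hc2, hf2, e2⟩ := hcen B.b_L B.X.F.hbC
  have hba : B.X.F.b * B.X.F.a * B.X.F.b⁻¹ = B.X.F.a * B.X.F.p := by
    have h := B.X.F.b_pow_el 1 0
    rw [pow_one, B.X.F.el_zero, Frame.el, pow_one] at h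
    exact h
  have h := congrArg (fun y => x * y * x⁻¹) hba
  rw [show x * (B.X.F.b * B.X.F.a * B.X.F.b⁻¹) * x⁻¹ =
      (x * B.X.F.b * x⁻¹) * (x * B.X.F.a * x⁻¹) * (x * B.X.F.b * x⁻¹)⁻¹ by group,
    show x * (B.X.F.a * B.X.F.p) * x⁻¹ = (x * B.X.F.a * x⁻¹) * (x * B.X.F.p * x⁻¹) by group, e1, e2,
    S.outer_inverts hxn hx0 B.X.F.hpP,
    show B.X.F.b * c2 * (B.X.F.a * c1) * (B.X.F.b * c2)⁻¹ = B.X.F.b * (c2 * (B.X.F.a * c1) * c2⁻¹) * B.X.F.b⁻¹ by group,
    (S.ker_central hc2 hf2 (mul_mem B.X.F.haC hc1)).eq, mul_inv_cancel_right,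
    show B.X.F.b * (B.X.F.a * c1) * B.X.F.b⁻¹ = (B.X.F.b * B.X.F.a * B.X.F.b⁻¹) * (B.X.F.b * c1 * B.X.F.b⁻¹) by group,
    hba, ← (S.ker_central hc1 hf1 B.X.F.hbC).eq, mul_inv_cancel_right, mul_assoc, mul_assoc, mul_left_cancel_iff,
    ← (S.ker_central hc1 hf1 B.X.F.hpC).eq, mul_left_cancel_iff] at h
  have hp2 : B.X.F.p ^ 2 = 1 := by rw [pow_two]; nth_rw 1 [h]; exact inv_mul_cancel _
  have := orderOf_dvd_of_pow_eq_one hp2
  rw [B.X.F.hp3] at this
  norm_num at this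

theorem exists_tau [IsSimpleGroup G] (hG : ¬ IsMulCommutative G) (hJ : IsOfJankoFourType G) :
    ∃ x ∈ B.L, x ∉ S.H0 ∧ ∀ k < 16, B.tab x k = tauTab k := by
  obtain ⟨n, hn, hn0⟩ := B.exists_outer_L hJ
  have hlin : ∀ k < 16, B.tab n k = xfold (fun j => if Nat.beq j 0 then B.tab n 1 else if Nat.beq j 1 then B.tab n 2
      else if Nat.beq j 2 then B.tab n 4 else B.tab n 8) k 4 := by
    intro k hk
    have h0 : B.tab n 0 = 0 := by rw [tab, Nat.zero_shiftLeft, B.act_zero (B.mem_L.1 hn).1]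
    have key : ∀ m, B.tab n (xfold (fun j => 2 ^ j) k m) = xfold (fun j => B.tab n (2 ^ j)) k m := by
      intro m
      induction m with
      | zero => exact h0
      | succ m ih =>
        rw [xfold_succ, xfold_succ, show ∀ a b : ℕ, Nat.xor a b = a ^^^ b from fun _ _ => rfl, B.tab_xor hn, ih]
        split_ifs
        · rfl
        · rw [h0]; rfl
    conv_lhs => rw [← show xfold (fun j => 2 ^ j) k 4 = k from xfold_four ⟨k, hk⟩]
    rw [key 4]
    simp only [xfold_succ]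
    rfl
  set a := B.tab n 1 with ha
  set b := B.tab n 2 with hb
  set c := B.tab n 4 with hc
  set d := B.tab n 8 with hd
  set T := packTab a b c d with hT
  have hget : ∀ k < 16, Nat.land (Nat.shiftRight T (4 * k)) 15 = B.tab n k := fun k hk => by
    rw [hT, hlin k hk]
    exact fold_get _ (fun l hl => (hlin l hl) ▸ B.tab_lt n l) hk
  have hform := fun {k l : ℕ} (hk : k < 16) (hl : l < 16) => B.tab_form hG hJ hn hk hl
  have hbeq : ∀ {x y : ℕ}, x = y → Nat.beq x y = true := fun e => by rw [e, Nat.beq_refl]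
  have h := forallLt_elim table_split (B.tab_lt n 1)
  have h := forallLt_elim h (B.tab_lt n 2)
  simp only [hbeq (hform (by norm_num : (1 : ℕ) < 16) (by norm_num : (2 : ℕ) < 16)), Bool.not_true, Bool.false_or] at h
  have h := forallLt_elim h (B.tab_lt n 4)
  simp only [hbeq (hform (by norm_num : (1 : ℕ) < 16) (by norm_num : (4 : ℕ) < 16)),
    hbeq (hform (by norm_num : (2 : ℕ) < 16) (by norm_num : (4 : ℕ) < 16)), Bool.not_true, Bool.false_or] at h
  have h := forallLt_elim h (B.tab_lt n 8)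
  simp only [hbeq (hform (by norm_num : (1 : ℕ) < 16) (by norm_num : (8 : ℕ) < 16)),
    hbeq (hform (by norm_num : (2 : ℕ) < 16) (by norm_num : (8 : ℕ) < 16)),
    hbeq (hform (by norm_num : (4 : ℕ) < 16) (by norm_num : (8 : ℕ) < 16)), Bool.not_true, Bool.false_or] at h
  have hall : CfsgLib.Sporadic.forallLt 16 (fun k => CfsgLib.Sporadic.forallLt 16 fun l =>
      Nat.beq (omK (Nat.land (Nat.shiftRight T (4 * k)) 15) (Nat.land (Nat.shiftRight T (4 * l)) 15)) (omK k l)) = true := by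
    rw [CfsgLib.Sporadic.forallLt_iff]
    intro k hk
    rw [CfsgLib.Sporadic.forallLt_iff]
    intro l hl
    rw [hget k hk, hget l hl]
    exact hbeq (hform hk hl)
  rw [← ha, ← hb, ← hc, ← hd, ← hT, hall] at h
  simp only [Bool.not_true, Bool.false_or, Bool.or_eq_true, List.any_eq_true, Nat.beq_eq] at h
  -- reading off an entry
  have hentry : ∀ (t : ℕ), t ∈ altTab → ∀ R, t = R → ∃ i : Fin 360, ∀ k < 16,
      Nat.land (Nat.shiftRight R (4 * k)) 15 = kWord (altWord i.1) k := by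
    intro t ht R e
    obtain ⟨i, hi, hi'⟩ := List.mem_iff_getElem.1 ht
    rw [alt_length] at hi
    refine ⟨⟨i, hi⟩, fun k hk => ?_⟩
    have := alt_tab ⟨i, hi⟩ ⟨k, hk⟩
    rwa [List.getD_eq_getElem altTab 0 (by rw [alt_length]; exact hi), hi', e] at this
  rcases h with ⟨t, ht, e⟩ | ⟨t, ht, e⟩
  · exfalso
    obtain ⟨i, hi⟩ := hentry t ht T e
    have htw := B.tw_L (altWord i.1)
    have hk1 := B.tab_ker (mul_mem (inv_mem htw) hn) fun k hk => by
      rw [B.tab_mul (inv_mem htw) hn hk, ← hget k hk, hi k hk, ← B.tab_tw i hk, ← B.tab_mul (inv_mem htw) htw hk,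
        inv_mul_cancel, B.tab_one hk]
    refine hn0 ?_
    have := mul_mem (S.C_le_H0 (B.tw_mem (altWord i.1))) (S.C_le_H0 hk1.1)
    rwa [mul_inv_cancel_left] at this
  · obtain ⟨i, hi⟩ := hentry t ht _ e
    have htw := B.tw_L (altWord i.1)
    refine ⟨n * (B.tw (altWord i.1))⁻¹, mul_mem hn (inv_mem htw), fun h' => hn0 ?_, fun k hk => ?_⟩
    · simpa using mul_mem h' (S.C_le_H0 (B.tw_mem (altWord i.1)))
    set l := B.tab (B.tw (altWord i.1))⁻¹ k
    have hl : l < 16 := B.tab_lt _ _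
    have h1 : tauTab (B.tab n l) = k := by
      have h2 := hi l hl
      rw [tauPack, fold_get _ (fun j hj => ?_) hl, hget l hl] at h2
      · rw [h2, ← B.tab_tw i hl, B.tab_inv htw hk]
      · rw [hget j hj]; exact tauTab_lt ⟨_, B.tab_lt n j⟩
    rw [B.tab_mul hn (inv_mem htw) hk, show B.tab n l = tauTab k from ?_]
    have hinv : tauTab (tauTab (B.tab n l)) = B.tab n l := by
      have := forallLt_elim dihedral_tables (B.tab_lt n l)
      simp only [Bool.and_eq_true, Nat.beq_eq] at this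
      exact this.1.1.2
    rw [← hinv, h1]

end HexBase

end CfsgLib.JankoFour
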