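import Cfsg.Agent.Lib.JankoFour.Planes
import Cfsg.Agent.Lib.JankoFourHexad.Lifts

/-!
# Involutions on a plane (owner: helper28)

An involution centralizing `P` and the element defining a plane is trivial on it or a transvection; of two
commuting ones moving the plane the product is trivial on it.
-/

set_option autoImplicit false

namespace CfsgLib.JankoFour

open Cfsg CfsgLib.ThreeTrans

variable {G : Type*} [Group G] [Finite G]

namespace Setting

variable (S : Setting G)

/-- Commuting with a product in the extraspecial group. -/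
theorem commute_mul_iff {x y y' : G} (hx : x ∈ S.E) (hy : y ∈ S.E) (hy' : y' ∈ S.E) :
    Commute x (y * y') ↔ (Commute x y ↔ Commute x y') := by
  have hc : ∀ {a : G}, a ∈ S.E → ∀ b : G, x * a * x⁻¹ = b → (Commute x a ↔ b = a) := fun {a} _ b e => by
    rw [← e]; exact ⟨fun c => by rw [c.eq, mul_inv_cancel_right], fun c => mul_inv_eq_iff_eq_mul.1 c⟩
  have hne : ∀ {a : G}, S.z * a ≠ a := fun {a} e => S.hE.z_ne_one (mul_eq_right.1 e)
  rcases S.hE.conj_eq_or hx hy with e | e <;> rcases S.hE.conj_eq_or hx hy' with e' | e'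
  all_goals
    rw [hc hy _ e, hc hy' _ e', hc (mul_mem hy hy') (x * (y * y') * x⁻¹) rfl,
      show x * (y * y') * x⁻¹ = (x * y * x⁻¹) * (x * y' * x⁻¹) by group, e, e']
  · simp
  · rw [show y * (S.z * y') = y * S.z * y' by group, (S.hE.commute_z hy).eq, mul_assoc]
    simp [hne]
  · rw [mul_assoc]
    simp [hne]
  · rw [show S.z * y * (S.z * y') = S.z * (y * S.z) * y' by group, (S.hE.commute_z hy).eq,
      show S.z * (S.z * y) * y' = S.z * S.z * (y * y') by group, S.z_sq, one_mul]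
    simp [hne]

end Setting

/-- The commutator of conjugation. -/
def delta (t e : G) : G := t * e * t⁻¹ * e⁻¹

theorem conj_eq_delta (t e : G) : t * e * t⁻¹ = delta t e * e := (inv_mul_cancel_right _ _).symm

namespace Frame

variable {S : Setting G} (F : Frame S)

theorem W_le_E {i : ℕ} : F.W i ≤ S.E := inf_le_left

/-- An element of `E` fixed by `p` modulo the centre is central. -/
theorem p_fixed {e : G} (he : e ∈ S.E) (h : F.p * e * F.p⁻¹ * e⁻¹ ∈ Subgroup.zpowers S.z) :
    e ∈ Subgroup.zpowers S.z := by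
  refine F.fixed_p he ?_
  have hpz : Commute F.p S.z := commute_z F.hpC
  have hez : Commute e S.z := S.hE.commute_z he
  refine (S.z_commute_three F.p_pow hez ?_ hpz)
  rcases S.hE.eq_or h with h' | h'
  · left
    exact mul_inv_eq_iff_eq_mul.2 (mul_inv_eq_iff_eq_mul.1 (mul_inv_eq_one.1 h')).symm
  · right
    have e1 : F.p * e = S.z * e * F.p := mul_inv_eq_iff_eq_mul.1 (mul_inv_eq_iff_eq_mul.1 h')
    refine mul_inv_eq_iff_eq_mul.2 ?_
    rw [mul_assoc F.p, ← hez.eq, show F.p * (e * S.z) = F.p * e * S.z by group, e1,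
      show S.z * e * F.p * S.z = S.z * (e * (F.p * S.z)) by group, hpz.eq, ← mul_assoc e, hez.eq,
      show S.z * (S.z * e * F.p) = S.z * S.z * (e * F.p) by group, S.z_sq, one_mul]

theorem p_conj_W {i : ℕ} {e : G} (he : e ∈ F.W i) : F.p * e * F.p⁻¹ ∈ F.W i :=
  S.commute_fixE (F.commute_p (F.el_mem i)).symm (commute_z F.hpC) he

/-- A subgroup of `E` invariant under `p` does not have order four. -/
theorem card_ne_four {M : Subgroup G} (hM : M ≤ S.E) (hz : S.z ∈ M)
    (hinv : ∀ e ∈ M, F.p * e * F.p⁻¹ ∈ M) : Nat.card M ≠ 4 := by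
  intro h4
  set Z := (Subgroup.zpowers S.z).subgroupOf M with hZ
  have hZc : Nat.card Z = 2 := by
    rw [Nat.card_congr (Subgroup.subgroupOfEquivOfLe (Subgroup.zpowers_le.2 hz)).toEquiv, Nat.card_zpowers, S.hE.hz]
  have hidx : Z.index = 2 := by
    have := Z.card_mul_index
    rw [hZc, h4] at this
    omega
  have hlt : ¬ M ≤ Subgroup.zpowers S.z := fun h => by
    have := Subgroup.card_le_of_le h
    rw [h4, Nat.card_zpowers, S.hE.hz] at this
    omega
  obtain ⟨e, he, hez⟩ := SetLike.not_le_iff_exists.1 hlt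
  refine hez (F.p_fixed (hM he) ?_)
  have h1 : F.p * e * F.p⁻¹ ∉ Subgroup.zpowers S.z := fun h => by
    have hfix : F.p⁻¹ * (F.p * e * F.p⁻¹) * F.p ∈ Subgroup.zpowers S.z := by
      rcases S.hE.eq_or h with e' | e' <;> rw [e']
      · simp
      · rw [((commute_z F.hpC).inv_left).eq, inv_mul_cancel_right]; exact Subgroup.mem_zpowers _
    exact hez (by rwa [show F.p⁻¹ * (F.p * e * F.p⁻¹) * F.p = e by group] at hfix)
  have := (Subgroup.mul_mem_iff_of_index_two hidx (a := (⟨_, hinv e he⟩ : M)) (b := ⟨e⁻¹, inv_mem he⟩)).2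
    ⟨fun a => absurd a h1, fun a => absurd (inv_mem_iff.1 (show e⁻¹ ∈ Subgroup.zpowers S.z from a)) hez⟩
  exact this

variable {t : G}

/-- The condition on an element acting on a plane. -/
structure Acts (i : ℕ) (t : G) : Prop where
  hz : Commute t S.z
  hp : Commute t F.p
  hel : Commute t (F.el i)
  hsq : t * t = 1

theorem Acts.conj_W {i : ℕ} (h : F.Acts i t) {e : G} (he : e ∈ F.W i) : t * e * t⁻¹ ∈ F.W i :=
  S.commute_fixE h.hel h.hz he

theorem Acts.delta_mem {i : ℕ} (h : F.Acts i t) {e : G} (he : e ∈ F.W i) : delta t e ∈ F.W i :=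
  mul_mem (h.conj_W F he) (inv_mem he)

theorem delta_p {i : ℕ} (h : F.Acts i t) (e : G) :
    delta t (F.p * e * F.p⁻¹) = F.p * delta t e * F.p⁻¹ := by
  rw [delta, show t * (F.p * e * F.p⁻¹) * t⁻¹ = F.p * (t * e * t⁻¹) * F.p⁻¹ by
    rw [show t * (F.p * e * F.p⁻¹) * t⁻¹ = (t * F.p) * e * (t * F.p)⁻¹ by group, h.hp.eq]; group, delta]
  group

/-- The elements whose commutator is central. -/
def fixMod (i : ℕ) (h : F.Acts i t) : Subgroup G where
  carrier := {e | e ∈ F.W i ∧ delta t e ∈ Subgroup.zpowers S.z}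
  one_mem' := ⟨one_mem _, by simp [delta]⟩
  mul_mem' := by
    rintro a b ⟨ha, ha'⟩ ⟨hb, hb'⟩
    refine ⟨mul_mem ha hb, ?_⟩
    have hc := commute_z_zpowers (S := S) (S.hE.commute_z (F.W_le_E ha)) hb'
    rw [show delta t (a * b) = delta t a * (a * delta t b * a⁻¹) by simp only [delta]; group, hc.eq,
      mul_inv_cancel_right]
    exact mul_mem ha' hb'
  inv_mem' := by
    rintro a ⟨ha, ha'⟩
    refine ⟨inv_mem ha, ?_⟩
    have hc := commute_z_zpowers (S := S) (S.hE.commute_z (F.W_le_E (inv_mem ha))) (inv_mem ha')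
    rw [show delta t a⁻¹ = a⁻¹ * (delta t a)⁻¹ * a⁻¹⁻¹ by simp only [delta]; group, hc.eq, mul_inv_cancel_right]
    exact inv_mem ha'

theorem mem_fixMod {i : ℕ} {h : F.Acts i t} {e : G} :
    e ∈ F.fixMod i h ↔ e ∈ F.W i ∧ delta t e ∈ Subgroup.zpowers S.z := Iff.rfl

theorem fixMod_le {i : ℕ} (h : F.Acts i t) : F.fixMod i h ≤ F.W i := fun _ he => he.1

theorem z_fixMod {i : ℕ} (h : F.Acts i t) : S.z ∈ F.fixMod i h :=
  ⟨F.z_mem i, by rw [delta, h.hz.eq, mul_inv_cancel_right, mul_inv_cancel]; exact one_mem _⟩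

theorem p_fixMod {i : ℕ} (h : F.Acts i t) {e : G} (he : e ∈ F.fixMod i h) :
    F.p * e * F.p⁻¹ ∈ F.fixMod i h := by
  refine ⟨F.p_conj_W he.1, ?_⟩
  rw [F.delta_p h]
  rcases S.hE.eq_or he.2 with e' | e' <;> rw [e']
  · simp
  · rw [(commute_z F.hpC).eq, mul_inv_cancel_right]; exact Subgroup.mem_zpowers _

theorem delta_fixMod {i : ℕ} (h : F.Acts i t) {e : G} (he : e ∈ F.W i) : delta t e ∈ F.fixMod i h := by
  refine ⟨h.delta_mem F he, ?_⟩
  have hti : t⁻¹ = t := inv_eq_of_mul_eq_one_left h.hsq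
  have h1 : t * delta t e * t⁻¹ = (delta t e)⁻¹ := by
    calc t * delta t e * t⁻¹ = (t * t) * e * (t⁻¹ * e⁻¹ * t⁻¹) := by simp only [delta]; group
      _ = (delta t e)⁻¹ := by simp only [delta, h.hsq, one_mul, hti, mul_inv_rev, inv_inv]; group
  rw [delta, h1, ← mul_inv_rev]
  exact inv_mem (S.hE.sq_mem (F.W_le_E (h.delta_mem F he)))

/-- Either trivial on the plane or moving it with eight fixed points modulo the centre. -/
theorem plane_cases {i : ℕ} (h : F.Acts i t) :
    (∀ e ∈ F.W i, Commute t e) ∨ Nat.card (F.fixMod i h) = 8 := by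
  classical
  set W := F.W i with hW
  set Z := (Subgroup.zpowers S.z).subgroupOf W with hZ
  have hcz : ∀ x ∈ W, ∀ c ∈ Subgroup.zpowers S.z, Commute x c := fun x hx c hc =>
    commute_z_zpowers (S := S) (S.hE.commute_z (F.W_le_E hx)) hc
  haveI : Z.Normal := ⟨fun n hn g => by
    have : Commute (g : G) n := hcz _ g.2 _ hn
    rwa [show g * n * g⁻¹ = n from Subtype.ext (by
      show (g : G) * n * (g : G)⁻¹ = n; rw [this.eq, mul_inv_cancel_right])]⟩
  have hWc : Nat.card W = 32 := F.card_W_all i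
  have hZc : Nat.card Z = 2 := by
    rw [Nat.card_congr (Subgroup.subgroupOfEquivOfLe (Subgroup.zpowers_le.2 (F.z_mem i))).toEquiv,
      Nat.card_zpowers, S.hE.hz]
  let ψ : ↥W →* ↥W ⧸ Z := MonoidHom.mk' (fun e => QuotientGroup.mk' Z ⟨_, h.delta_mem F e.2⟩) fun a b => by
    rw [← map_mul, QuotientGroup.mk'_eq_mk']
    refine ⟨⟨(delta t (a : G) * (a : G) * delta t (b : G) * (a : G)⁻¹)⁻¹ *
      (delta t (a : G) * delta t (b : G)), ?_⟩, ?_, ?_⟩
    · exact mul_mem (inv_mem (mul_mem (mul_mem (mul_mem (h.delta_mem F a.2) a.2) (h.delta_mem F b.2))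
        (inv_mem a.2))) (mul_mem (h.delta_mem F a.2) (h.delta_mem F b.2))
    · have key : (delta t (a : G) * (a : G) * delta t (b : G) * (a : G)⁻¹)⁻¹ * (delta t (a : G) * delta t (b : G)) ∈
          Subgroup.zpowers S.z := by
        rw [show (delta t (a : G) * (a : G) * delta t (b : G) * (a : G)⁻¹)⁻¹ * (delta t (a : G) * delta t (b : G)) =
          (a : G) * (delta t (b : G))⁻¹ * (a : G)⁻¹ * (delta t (b : G))⁻¹⁻¹ by group]
        exact S.hE.comm_mem (F.W_le_E a.2) (F.W_le_E (inv_mem (h.delta_mem F b.2)))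
      exact key
    · refine Subtype.ext ?_
      show delta t ((a : G) * b) * _ = delta t (a : G) * delta t (b : G)
      simp only [delta]; group
  have hker : Nat.card ψ.ker = Nat.card (F.fixMod i h) := by
    refine Nat.card_congr ?_
    exact
      { toFun := fun e => ⟨e.1, e.1.2, (QuotientGroup.eq_one_iff (N := Z) ⟨_, h.delta_mem F e.1.2⟩).1 (show ψ e.1 = 1 from e.2)⟩
        invFun := fun e => ⟨⟨e.1, e.2.1⟩, (QuotientGroup.eq_one_iff (N := Z) ⟨_, h.delta_mem F e.2.1⟩).2 e.2.2⟩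
        left_inv := fun _ => rfl
        right_inv := fun _ => rfl }
  set R := (ψ.range.comap (QuotientGroup.mk' Z)).map W.subtype with hR
  have hRc : Nat.card R = 2 * Nat.card ψ.range := by
    rw [hR, Subgroup.card_subtype, ← Subgroup.card_mul_index (Z.subgroupOf (ψ.range.comap (QuotientGroup.mk' Z)))]
    have h1 : Z ≤ ψ.range.comap (QuotientGroup.mk' Z) := fun x hx => by
      rw [Subgroup.mem_comap, QuotientGroup.mk'_apply, (QuotientGroup.eq_one_iff x).2 hx]; exact one_mem _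
    rw [Nat.card_congr (Subgroup.subgroupOfEquivOfLe h1).toEquiv, hZc]
    congr 1
    rw [← Subgroup.relIndex]
    calc Z.relIndex (ψ.range.comap (QuotientGroup.mk' Z))
        = ((⊥ : Subgroup (↥W ⧸ Z)).comap (QuotientGroup.mk' Z)).relIndex (ψ.range.comap (QuotientGroup.mk' Z)) := by
          rw [MonoidHom.comap_bot, QuotientGroup.ker_mk']
      _ = (⊥ : Subgroup (↥W ⧸ Z)).relIndex ((ψ.range.comap (QuotientGroup.mk' Z)).map (QuotientGroup.mk' Z)) :=
          Subgroup.relIndex_comap _ _ _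
      _ = Nat.card ψ.range := by
          rw [Subgroup.map_comap_eq_self_of_surjective (QuotientGroup.mk'_surjective Z), Subgroup.relIndex_bot_left]
  have hprod : Nat.card (F.fixMod i h) * Nat.card ψ.range = 32 := by
    rw [← hWc, ← hker, ← Subgroup.card_mul_index ψ.ker, Subgroup.index_ker]
  have hRle : R ≤ F.fixMod i h := by
    rintro _ ⟨x, hx, rfl⟩
    obtain ⟨e, he⟩ := hx
    have he' : x⁻¹ * ⟨_, h.delta_mem F e.2⟩ ∈ Z := by
      rw [← QuotientGroup.eq_one_iff, QuotientGroup.mk_mul, QuotientGroup.mk_inv]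
      rw [show (QuotientGroup.mk (⟨_, h.delta_mem F e.2⟩ : ↥W) : ↥W ⧸ Z) = ψ e from rfl, he]
      exact inv_mul_cancel _
    have h1 : (x : G)⁻¹ * delta t (e : G) ∈ F.fixMod i h :=
      Subgroup.zpowers_le.2 (F.z_fixMod h) he'
    have h2 := mul_mem (F.delta_fixMod h e.2) (inv_mem h1)
    rwa [show delta t (e : G) * ((x : G)⁻¹ * delta t (e : G))⁻¹ = (x : G) by group] at h2
  have hzR : S.z ∈ R := ⟨⟨S.z, F.z_mem i⟩, by
    rw [SetLike.mem_coe, Subgroup.mem_comap, QuotientGroup.mk'_apply,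
      (QuotientGroup.eq_one_iff _).2 (show (⟨S.z, F.z_mem i⟩ : ↥W) ∈ Z from Subgroup.mem_zpowers _)]
    exact one_mem _, rfl⟩
  have hRp : ∀ e ∈ R, F.p * e * F.p⁻¹ ∈ R := by
    rintro _ ⟨x, ⟨e, he⟩, rfl⟩
    refine ⟨⟨_, F.p_conj_W x.2⟩, ⟨⟨_, F.p_conj_W e.2⟩, ?_⟩, rfl⟩
    show QuotientGroup.mk' Z _ = QuotientGroup.mk' Z _
    change QuotientGroup.mk' Z _ = QuotientGroup.mk' Z x at he
    rw [QuotientGroup.mk'_eq_mk'] at he ⊢
    obtain ⟨c, hc, hce⟩ := he
    refine ⟨c, hc, Subtype.ext ?_⟩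
    show delta t (F.p * (e : G) * F.p⁻¹) * (c : G) = F.p * (x : G) * F.p⁻¹
    rw [F.delta_p h, ← show delta t (e : G) * (c : G) = (x : G) from congrArg Subtype.val hce,
      show F.p * (delta t (e : G) * c) * F.p⁻¹ = F.p * delta t (e : G) * F.p⁻¹ * (F.p * c * F.p⁻¹) by group,
      (commute_z_zpowers (S := S) (commute_z F.hpC) (show (c : G) ∈ Subgroup.zpowers S.z from hc)).eq,
      mul_inv_cancel_right]
  have hR4 := F.card_ne_four (fun x hx => F.W_le_E (F.fixMod_le h (hRle hx))) hzR hRp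
  have hK4 := F.card_ne_four (fun x hx => F.W_le_E (F.fixMod_le h hx)) (F.z_fixMod h) fun e => F.p_fixMod h
  have hle := Subgroup.card_le_of_le hRle
  rw [hRc] at hR4 hle
  have hdvd : Nat.card (F.fixMod i h) ∣ 32 := ⟨_, hprod.symm⟩
  have hmem : Nat.card (F.fixMod i h) ∈ Nat.divisors 32 := Nat.mem_divisors.2 ⟨hdvd, by norm_num⟩
  rw [show Nat.divisors 32 = {1, 2, 4, 8, 16, 32} by decide] at hmem
  simp only [Finset.mem_insert, Finset.mem_singleton] at hmem
  rcases hmem with e | e | e | e | e | e <;> rw [e] at hprod hle hK4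
  · omega
  · omega
  · omega
  · exact Or.inr e
  · omega
  · left
    have hall : F.fixMod i h = W :=
      Subgroup.eq_of_le_of_card_ge (F.fixMod_le h) (by rw [hWc, e])
    intro x hx
    have hx' : x ∈ F.fixMod i h := hall ▸ hx
    set x1 := F.p * x * F.p⁻¹ with hx1
    set x2 := F.p * x1 * F.p⁻¹ with hx2
    have hmul : ∀ {a b : G}, a ∈ F.fixMod i h → b ∈ F.fixMod i h → delta t (a * b) = delta t a * delta t b := by
      intro a b ha hb
      rw [show delta t (a * b) = delta t a * (a * delta t b * a⁻¹) by simp only [delta]; group,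
        (hcz _ ha.1 _ hb.2).eq, mul_inv_cancel_right]
    have hconst : ∀ {a : G}, a ∈ F.fixMod i h → delta t (F.p * a * F.p⁻¹) = delta t a := fun {a} ha => by
      rw [F.delta_p h, (commute_z_zpowers (S := S) (commute_z F.hpC) ha.2).eq, mul_inv_cancel_right]
    have hx1' := F.p_fixMod h hx'
    have hx2' := F.p_fixMod h hx1'
    have hsum : x * x1 * x2 ∈ Subgroup.zpowers S.z := by
      refine orbit_mem F.hpC F.p_pow (F.W_le_E hx) fun c hc hcp _ => F.fixed_p hc hcp
    have h0 : delta t (x * x1 * x2) = 1 := by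
      rcases S.hE.eq_or hsum with e' | e' <;> rw [e', delta]
      · simp
      · rw [h.hz.eq, mul_inv_cancel_right, mul_inv_cancel]
    rw [hmul (mul_mem hx' hx1') hx2', hmul hx' hx1', (hconst hx1').trans (hconst hx'), hconst hx'] at h0
    have hsq : delta t x * delta t x = 1 := by
      rcases S.hE.eq_or hx'.2 with e' | e' <;> rw [e'] <;> simp [S.z_sq]
    rw [hsq, one_mul] at h0
    exact mul_inv_eq_iff_eq_mul.1 (mul_inv_eq_one.1 h0)

/-- In a plane of eight fixed points the classes of one element exhaust. -/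
theorem fixMod_classes {i : ℕ} (h : F.Acts i t) (h8 : Nat.card (F.fixMod i h) = 8) {c : G}
    (hc : c ∈ F.fixMod i h) (hcz : c ∉ Subgroup.zpowers S.z) {k : G} (hk : k ∈ F.fixMod i h) :
    k ∈ Subgroup.zpowers S.z ∨ k * c⁻¹ ∈ Subgroup.zpowers S.z ∨
      k * (F.p * c * F.p⁻¹)⁻¹ ∈ Subgroup.zpowers S.z ∨
      k * (F.p * (F.p * c * F.p⁻¹) * F.p⁻¹)⁻¹ ∈ Subgroup.zpowers S.z := by
  classical
  set c1 := F.p * c * F.p⁻¹ with hc1
  set c2 := F.p * c1 * F.p⁻¹ with hc2
  set r : Fin 4 → G := fun j => [1, c, c1, c2].getD j.1 1 with hr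
  have hrK : ∀ j, r j ∈ F.fixMod i h := by
    intro j; fin_cases j
    exacts [one_mem _, hc, F.p_fixMod h hc, F.p_fixMod h (F.p_fixMod h hc)]
  have hfix : ∀ {x : G}, x ∈ S.E → F.p * x * F.p⁻¹ * x⁻¹ ∈ Subgroup.zpowers S.z → x ∈ Subgroup.zpowers S.z :=
    fun hx => F.p_fixed hx
  have hcE : c ∈ S.E := F.W_le_E hc.1
  have hc1E : c1 ∈ S.E := F.W_le_E (F.p_fixMod h hc).1
  have hup : ∀ {x : G}, x ∈ S.E → x ∉ Subgroup.zpowers S.z → F.p * x * F.p⁻¹ ∉ Subgroup.zpowers S.z := by
    intro x hx hxz hh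
    refine hxz ?_
    have hfix' : F.p⁻¹ * (F.p * x * F.p⁻¹) * F.p ∈ Subgroup.zpowers S.z := by
      rw [(commute_z_zpowers (S := S) (commute_z F.hpC).inv_left hh).eq, inv_mul_cancel_right]; exact hh
    rwa [show F.p⁻¹ * (F.p * x * F.p⁻¹) * F.p = x by group] at hfix'
  have n1 : c1 ∉ Subgroup.zpowers S.z := hup hcE hcz
  have n2 : c2 ∉ Subgroup.zpowers S.z := hup hc1E n1
  have n10 : c1 * c⁻¹ ∉ Subgroup.zpowers S.z := fun hh => hcz (hfix hcE hh)
  have n21 : c2 * c1⁻¹ ∉ Subgroup.zpowers S.z := fun hh => n1 (hfix hc1E hh)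
  have hc3 : F.p * c2 * F.p⁻¹ = c := by
    rw [hc2, hc1, show F.p * (F.p * (F.p * c * F.p⁻¹) * F.p⁻¹) * F.p⁻¹ = F.p ^ 3 * c * (F.p ^ 3)⁻¹ by
      rw [pow_succ, pow_two]; group, F.p_pow]
    simp
  have n20 : c2 * c⁻¹ ∉ Subgroup.zpowers S.z := fun hh => by
    have h' : F.p * c2 * F.p⁻¹ * c2⁻¹ ∈ Subgroup.zpowers S.z := by
      rw [hc3, show c * c2⁻¹ = (c2 * c⁻¹)⁻¹ by group]; exact inv_mem hh
    exact n2 (hfix (F.W_le_E (F.p_fixMod h (F.p_fixMod h hc)).1) h')
  have hdist : ∀ a b : Fin 4, r a * (r b)⁻¹ ∈ Subgroup.zpowers S.z → a = b := by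
    intro a b hab
    have hba := inv_mem hab
    rw [mul_inv_rev, inv_inv] at hba
    fin_cases a <;> fin_cases b <;> simp only [hr] at hab hba ⊢ <;> simp at hab hba ⊢
    all_goals first
      | exact hcz hab | exact hcz hba | exact n1 hab | exact n1 hba | exact n2 hab | exact n2 hba
      | exact n10 hab | exact n10 hba | exact n20 hab | exact n20 hba | exact n21 hab | exact n21 hba
  let q : Fin 4 × ↥(Subgroup.zpowers S.z) → ↥(F.fixMod i h) := fun jc =>
    ⟨(jc.2 : G) * r jc.1, mul_mem (Subgroup.zpowers_le.2 (F.z_fixMod h) jc.2.2) (hrK jc.1)⟩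
  have hq : Function.Bijective q := by
    refine (Nat.bijective_iff_injective_and_card q).2 ⟨?_, ?_⟩
    · rintro ⟨a, u⟩ ⟨b, w⟩ e
      have e' : (u : G) * r a = (w : G) * r b := congrArg Subtype.val e
      obtain rfl : a = b := hdist a b (by
        rw [show r a * (r b)⁻¹ = (u : G)⁻¹ * ((u : G) * r a) * (r b)⁻¹ by group, e',
          show (u : G)⁻¹ * ((w : G) * r b) * (r b)⁻¹ = (u : G)⁻¹ * w by group]
        exact mul_mem (inv_mem u.2) w.2)
      exact Prod.ext rfl (Subtype.ext (mul_right_cancel e'))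
    · rw [Nat.card_prod, h8, Nat.card_fin, Nat.card_zpowers, S.hE.hz]
  obtain ⟨⟨j, u⟩, e⟩ := hq.2 ⟨k, hk⟩
  have e' : (u : G) * r j = k := congrArg Subtype.val e
  have hm : k * (r j)⁻¹ ∈ Subgroup.zpowers S.z := by rw [← e', mul_inv_cancel_right]; exact u.2
  fin_cases j
  · exact Or.inl (by simpa [hr] using hm)
  · exact Or.inr (Or.inl (by simpa [hr] using hm))
  · exact Or.inr (Or.inr (Or.inl (by simpa [hr] using hm)))
  · exact Or.inr (Or.inr (Or.inr (by simpa [hr] using hm)))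

/-- Elements fixed modulo the centre commute with the commutators. -/
theorem commute_fixed_delta {i : ℕ} (h : F.Acts i t) {k e : G} (hk : k ∈ F.fixMod i h) (he : e ∈ F.W i) :
    Commute k (delta t e) := by
  have hE : ∀ {x : G}, x ∈ F.W i → x ∈ S.E := fun hx => F.W_le_E hx
  have hk' : t * k * t⁻¹ = delta t k * k := conj_eq_delta t k
  have h0 : Commute (t * k * t⁻¹) (t * e * t⁻¹) ↔ Commute k e := LargeData.commute_conj_iff'
  rw [hk', conj_eq_delta t e] at h0
  have hz' : Commute (delta t k) (delta t e * e) :=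
    (commute_z_zpowers (S := S) (S.hE.commute_z (hE (mul_mem (h.delta_mem F he) he))) hk.2).symm
  have h1 : Commute (delta t k * k) (delta t e * e) ↔ Commute k (delta t e * e) := by
    refine ⟨fun h' => ?_, fun h' => hz'.mul_left h'⟩
    have := hz'.inv_left.mul_left h'
    rwa [inv_mul_cancel_left] at this
  rw [h1, S.commute_mul_iff (hE hk.1) (hE (h.delta_mem F he)) (hE he)] at h0
  by_contra hne
  by_cases hke : Commute k e <;> simp [hne, hke] at h0

/-- A moved element commutes with its commutator. -/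
theorem commute_delta {i : ℕ} (h : F.Acts i t) {d : G} (hd : d ∈ F.W i) : Commute d (delta t d) := by
  set c := delta t d with hc
  set d1 := F.p * d * F.p⁻¹ with hd1
  set c1 := F.p * c * F.p⁻¹ with hc1
  have hcK := F.delta_fixMod h hd
  have hd1W := F.p_conj_W hd
  have hE : ∀ {x : G}, x ∈ F.W i → x ∈ S.E := fun hx => F.W_le_E hx
  have hc1K := F.p_fixMod h hcK
  have hA : Commute c c1 := by
    rw [hc1, ← F.delta_p h]; exact F.commute_fixed_delta h hcK hd1W
  -- the conjugates of `d` and its image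
  have key : Commute (c * d) (c1 * d1) ↔ Commute d d1 := by
    rw [hc, ← conj_eq_delta, hc1, ← F.delta_p h, ← conj_eq_delta]
    exact LargeData.commute_conj_iff'
  have expand : Commute (c * d) (c1 * d1) ↔ ((Commute c1 c ↔ Commute c1 d) ↔ (Commute d1 c ↔ Commute d1 d)) := by
    rw [S.commute_mul_iff (mul_mem (hE hcK.1) (hE hd)) (hE hc1K.1) (hE hd1W)]
    rw [Commute.symm_iff (a := c * d) (b := c1), Commute.symm_iff (a := c * d) (b := d1),
      S.commute_mul_iff (hE hc1K.1) (hE hcK.1) (hE hd), S.commute_mul_iff (hE hd1W) (hE hcK.1) (hE hd)]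
  have hcross : Commute c1 d ↔ Commute d1 c := by
    rw [expand, Commute.symm_iff (a := d) (b := d1)] at key
    have := hA.symm
    tauto
  -- rotate by `p`
  set c2 := F.p * c1 * F.p⁻¹ with hc2
  have hc3 : F.p * c2 * F.p⁻¹ = c := by
    rw [hc2, hc1, show F.p * (F.p * (F.p * c * F.p⁻¹) * F.p⁻¹) * F.p⁻¹ = F.p ^ 3 * c * (F.p ^ 3)⁻¹ by
      rw [pow_succ, pow_two]; group, F.p_pow]
    simp
  have hrot : Commute d1 c ↔ Commute d c2 := by
    conv_lhs => rw [← hc3]
    exact LargeData.commute_conj_iff'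
  have h12 : Commute d (c1 * c2) := by
    rw [S.commute_mul_iff (hE hd) (hE hc1K.1) (hE (F.p_fixMod h hc1K).1), Commute.symm_iff]
    exact hcross.trans hrot
  have hsum : c * c1 * c2 ∈ Subgroup.zpowers S.z :=
    orbit_mem F.hpC F.p_pow (hE hcK.1) fun x hx hxp _ => F.fixed_p hx hxp
  have h3 : Commute d (c * (c1 * c2)) := by
    rw [← mul_assoc]; exact commute_z_zpowers (S := S) (S.hE.commute_z (hE hd)) hsum
  have := h3.mul_right h12.inv_right
  rwa [mul_inv_cancel_right] at this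

/-- Of two commuting moving involutions the product is trivial. -/
theorem product_trivial {i : ℕ} {u : G} (h : F.Acts i t) (hu : F.Acts i u) (htu : F.Acts i (t * u))
    (hc : Commute t u) (h8 : Nat.card (F.fixMod i h) = 8) (hu8 : Nat.card (F.fixMod i hu) = 8) :
    ∀ e ∈ F.W i, Commute (t * u) e := by
  classical
  have hE : ∀ {x : G}, x ∈ F.W i → x ∈ S.E := fun hx => F.W_le_E hx
  -- `u` fixes the same classes
  have hsame : F.fixMod i h = F.fixMod i hu := by
    refine Subgroup.eq_of_le_of_card_ge (fun e he => ⟨he.1, ?_⟩) (by rw [h8, hu8])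
    by_contra hn
    have hez : e ∉ Subgroup.zpowers S.z := fun h' => hn (by
      rcases S.hE.eq_or h' with e' | e' <;> rw [e', delta]
      · simp
      · rw [hu.hz.eq, mul_inv_cancel_right, mul_inv_cancel]; exact one_mem _)
    have hmem : u * e * u⁻¹ ∈ F.fixMod i h := by
      refine ⟨hu.conj_W F he.1, ?_⟩
      rw [show delta t (u * e * u⁻¹) = u * delta t e * u⁻¹ by
        simp only [delta]
        rw [show t * (u * e * u⁻¹) * t⁻¹ = (t * u) * e * (t * u)⁻¹ by group, hc.eq]; group,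
        (commute_z_zpowers (S := S) hu.hz he.2).eq, mul_inv_cancel_right]
      exact he.2
    rcases F.fixMod_classes h h8 he hez hmem with h' | h' | h' | h'
    · refine hez ?_
      have e' := (commute_z_zpowers (S := S) hu.hz.inv_left h').eq
      have hu' : e = u⁻¹ * (u * e * u⁻¹) * u := by group
      rw [hu', e', inv_mul_cancel_right]; exact h'
    · exact hn h'
    all_goals
      refine hn ?_
      have hui : u⁻¹ = u := inv_eq_of_mul_eq_one_left hu.hsq
      have hzu : ∀ c ∈ Subgroup.zpowers S.z, u * c * u⁻¹ = c := fun c hc' => by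
        rw [(commute_z_zpowers (S := S) hu.hz hc').eq, mul_inv_cancel_right]
      have hzp : ∀ c ∈ Subgroup.zpowers S.z, F.p * c * F.p⁻¹ = c := fun c hc' => by
        rw [(commute_z_zpowers (S := S) (commute_z F.hpC) hc').eq, mul_inv_cancel_right]
      have hup : ∀ x : G, u * (F.p * x * F.p⁻¹) * u⁻¹ = F.p * (u * x * u⁻¹) * F.p⁻¹ := fun x => by
        rw [show u * (F.p * x * F.p⁻¹) * u⁻¹ = (u * F.p) * x * (u * F.p)⁻¹ by group, hu.hp.eq]; group
      have huu : u * (u * e * u⁻¹) * u⁻¹ = e := by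
        rw [show u * (u * e * u⁻¹) * u⁻¹ = (u * u) * e * (u * u)⁻¹ by group, hu.hsq]; simp
      have hpe : ∀ x : G, F.p * (F.p * (F.p * x * F.p⁻¹) * F.p⁻¹) * F.p⁻¹ = x := fun x => by
        rw [show F.p * (F.p * (F.p * x * F.p⁻¹) * F.p⁻¹) * F.p⁻¹ = F.p ^ 3 * x * (F.p ^ 3)⁻¹ by
          rw [pow_succ, pow_two]; group, F.p_pow]
        simp
      obtain ⟨c, hc', hce⟩ : ∃ c ∈ Subgroup.zpowers S.z, u * e * u⁻¹ = c * _ :=
        ⟨_, h', (inv_mul_cancel_right _ _).symm⟩
      have hdist : ∀ x : G, F.p * (c * x) * F.p⁻¹ = c * (F.p * x * F.p⁻¹) := fun x => by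
        rw [show F.p * (c * x) * F.p⁻¹ = (F.p * c * F.p⁻¹) * (F.p * x * F.p⁻¹) by group, hzp c hc']
      have h2 := huu
      rw [hce, show ∀ x : G, u * (c * x) * u⁻¹ = (u * c * u⁻¹) * (u * x * u⁻¹) from fun x => by group, hzu c hc'] at h2
    · rw [hup, hce, hdist, ← mul_assoc] at h2
      refine absurd (F.p_fixed (hE he.1) ?_) hez
      have h4 : F.p * (F.p * (F.p * e * F.p⁻¹) * F.p⁻¹) * F.p⁻¹ = F.p * ((c * c)⁻¹ * e) * F.p⁻¹ :=
        congrArg (fun x => F.p * x * F.p⁻¹) (eq_inv_mul_iff_mul_eq.2 h2)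
      rw [hpe, show F.p * ((c * c)⁻¹ * e) * F.p⁻¹ = (F.p * (c * c)⁻¹ * F.p⁻¹) * (F.p * e * F.p⁻¹) by group,
        hzp _ (inv_mem (mul_mem hc' hc'))] at h4
      rw [show F.p * e * F.p⁻¹ = c * c * e from eq_mul_of_inv_mul_eq h4.symm, mul_inv_cancel_right]
      exact mul_mem hc' hc'
    · rw [hup, hup, hce, hdist, hdist, hpe, ← mul_assoc] at h2
      refine absurd (F.p_fixed (hE he.1) ?_) hez
      rw [show F.p * e * F.p⁻¹ = (c * c)⁻¹ * e from eq_inv_mul_iff_mul_eq.2 h2, mul_inv_cancel_right]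
      exact inv_mem (mul_mem hc' hc')
  have hKW : F.fixMod i h < F.W i := lt_of_le_of_ne (F.fixMod_le h) fun e => by
    rw [e, F.card_W_all] at h8; omega
  obtain ⟨d, hd, hdK⟩ := SetLike.exists_of_lt hKW
  set c := delta t d with hcdef
  set c' := delta u d with hc'def
  have hcK : c ∈ F.fixMod i h := F.delta_fixMod h hd
  have hc'K : c' ∈ F.fixMod i h := hsame ▸ F.delta_fixMod hu hd
  have hcz : c ∉ Subgroup.zpowers S.z := fun e => hdK ⟨hd, e⟩
  have hc'z : c' ∉ Subgroup.zpowers S.z := fun e => hdK (by rw [hsame]; exact ⟨hd, e⟩)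
  have hdc : Commute d c := F.commute_delta h hd
  have hdc' : Commute d c' := F.commute_delta hu hd
  have hzd : ∀ w ∈ Subgroup.zpowers S.z, Commute d w := fun w hw =>
    commute_z_zpowers (S := S) (S.hE.commute_z (hE hd)) hw
  have hcc : c' * c⁻¹ ∈ Subgroup.zpowers S.z := by
    by_contra hne
    -- otherwise `d` commutes with all fixed classes
    set c1 := F.p * c * F.p⁻¹ with hc1
    set c2 := F.p * c1 * F.p⁻¹ with hc2
    have hsum : c * c1 * c2 ∈ Subgroup.zpowers S.z :=
      orbit_mem F.hpC F.p_pow (hE hcK.1) fun x hx hxp _ => F.fixed_p hx hxp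
    have hsumd := hzd _ hsum
    have hboth : Commute d c1 ∧ Commute d c2 := by
      rcases F.fixMod_classes h h8 hcK hcz hc'K with e | e | e | e
      · exact absurd e hc'z
      · exact absurd e hne
      · have h1 : Commute d c1 := by
          have := ((hzd _ e).inv_right).mul_right hdc'
          rwa [show (c' * c1⁻¹)⁻¹ * c' = c1 by group] at this
        refine ⟨h1, ?_⟩
        have := ((hdc.mul_right h1).inv_right).mul_right hsumd
        rwa [inv_mul_cancel_left] at this
      · have h2 : Commute d c2 := by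
          have := ((hzd _ e).inv_right).mul_right hdc'
          rwa [show (c' * c2⁻¹)⁻¹ * c' = c2 by group] at this
        refine ⟨?_, h2⟩
        have := (hdc.inv_right.mul_right hsumd).mul_right h2.inv_right
        rwa [show c⁻¹ * (c * c1 * c2) * c2⁻¹ = c1 by group] at this
    refine hcz (F.center_W i hcK.1 ?_)
    set d1 := F.p * d * F.p⁻¹ with hd1
    have hd1W := F.p_conj_W hd
    have hd1c : Commute d1 c := by
      have h' : Commute (F.p * d * F.p⁻¹) (F.p * c2 * F.p⁻¹) := LargeData.commute_conj_iff'.2 hboth.2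
      rwa [hc2, hc1, show F.p * (F.p * (F.p * c * F.p⁻¹) * F.p⁻¹) * F.p⁻¹ = F.p ^ 3 * c * (F.p ^ 3)⁻¹ by
        rw [pow_succ, pow_two]; group, F.p_pow, one_mul, inv_one, mul_one] at h'
    let M : Subgroup G := F.W i ⊓ Subgroup.centralizer ({c} : Set G)
    have hKM : ∀ k ∈ F.fixMod i h, Commute k c := fun k hk => by
      rcases F.fixMod_classes h h8 hcK hcz hk with e | e | e | e
      · exact (commute_z_zpowers (S := S) (S.hE.commute_z (hE hcK.1)) e).symm
      all_goals
        have hzc := (commute_z_zpowers (S := S) (S.hE.commute_z (hE hcK.1)) e).symm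
      · have := hzc.mul_left (Commute.refl c); rwa [inv_mul_cancel_right] at this
      · have h11 : Commute c1 c := by
          rw [hc1, ← F.delta_p h]
          exact (F.commute_fixed_delta h hcK hd1W).symm
        have := hzc.mul_left h11; rwa [inv_mul_cancel_right] at this
      · have h22 : Commute c2 c := by
          rw [hc2, hc1, ← F.delta_p h, ← F.delta_p h]
          exact (F.commute_fixed_delta h hcK (F.p_conj_W hd1W)).symm
        have := hzc.mul_left h22; rwa [inv_mul_cancel_right] at this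
    have hMc : ∀ {x : G}, x ∈ F.W i → Commute x c → x ∈ M := fun hx hxc =>
      ⟨hx, mem_centralizer_singleton_iff'.2 hxc.eq⟩
    let r : Fin 3 → G := fun j => [1, d, d1].getD j.1 1
    have hrM : ∀ j, r j ∈ M := by
      intro j; fin_cases j
      exacts [one_mem _, hMc hd hdc, hMc hd1W hd1c]
    have hd1K : d1 ∉ F.fixMod i h := fun e => hdK (by
      have := F.p_fixMod h (F.p_fixMod h e)
      rwa [hd1, show F.p * (F.p * (F.p * d * F.p⁻¹) * F.p⁻¹) * F.p⁻¹ = F.p ^ 3 * d * (F.p ^ 3)⁻¹ by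
        rw [pow_succ, pow_two]; group, F.p_pow, one_mul, inv_one, mul_one] at this)
    have hdd : d1 * d⁻¹ ∉ F.fixMod i h := fun e => hcz (F.p_fixed (hE hcK.1) (by
      have e2 := e.2
      rw [show delta t (d1 * d⁻¹) = delta t d1 * (d1 * d⁻¹) * (delta t d)⁻¹ * (d1 * d⁻¹)⁻¹ by
        simp only [delta]; group] at e2
      rw [hd1, F.delta_p h, ← hd1, ← hcdef, ← hc1] at e2
      have hcm := S.hE.comm_mem (hE e.1) (hE hcK.1)
      have h' := mul_mem e2 hcm
      rwa [show c1 * (d1 * d⁻¹) * c⁻¹ * (d1 * d⁻¹)⁻¹ *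
          ((d1 * d⁻¹) * c * (d1 * d⁻¹)⁻¹ * c⁻¹) = c1 * c⁻¹ by group] at h'))
    let q : Fin 3 × ↥(F.fixMod i h) → ↥M := fun jk =>
      ⟨(jk.2 : G) * r jk.1, mul_mem (hMc jk.2.2.1 (hKM _ jk.2.2)) (hrM jk.1)⟩
    have hq : Function.Injective q := by
      rintro ⟨a, k⟩ ⟨b, l⟩ e
      have e' : (k : G) * r a = (l : G) * r b := congrArg Subtype.val e
      have hab : r a * (r b)⁻¹ ∈ F.fixMod i h := by
        rw [show r a * (r b)⁻¹ = (k : G)⁻¹ * ((k : G) * r a) * (r b)⁻¹ by group, e',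
          show (k : G)⁻¹ * ((l : G) * r b) * (r b)⁻¹ = (k : G)⁻¹ * l by group]
        exact mul_mem (inv_mem k.2) l.2
      have hba := inv_mem hab
      rw [mul_inv_rev, inv_inv] at hba
      obtain rfl : a = b := by
        fin_cases a <;> fin_cases b <;> simp [r] at hab hba ⊢
        all_goals first
          | exact hdK hab | exact hdK hba | exact hd1K hab | exact hd1K hba | exact hdd hab | exact hdd hba
      exact Prod.ext rfl (Subtype.ext (mul_right_cancel e'))
    have h24 := Nat.card_le_card_of_injective q hq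
    rw [Nat.card_prod, h8, Nat.card_fin] at h24
    have hMW : M = F.W i := by
      refine Subgroup.eq_of_le_of_card_ge inf_le_left ?_
      have hdv := Subgroup.card_dvd_of_le (inf_le_left : M ≤ F.W i)
      rw [F.card_W_all] at hdv ⊢
      have hmem : Nat.card M ∈ Nat.divisors 32 := Nat.mem_divisors.2 ⟨hdv, by norm_num⟩
      rw [show Nat.divisors 32 = {1, 2, 4, 8, 16, 32} by decide] at hmem
      simp only [Finset.mem_insert, Finset.mem_singleton] at hmem
      omega
    exact fun x hx => mem_centralizer_singleton_iff'.1 ((hMW.symm ▸ hx : x ∈ M).2)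
  -- the product fixes more
  refine (F.plane_cases htu).resolve_right fun htu8 => ?_
  have hle : F.fixMod i h ≤ F.fixMod i htu := fun e he => by
    refine ⟨he.1, ?_⟩
    rw [show delta (t * u) e = t * delta u e * t⁻¹ * delta t e by simp only [delta]; group,
      (commute_z_zpowers (S := S) h.hz (hsame ▸ he : e ∈ F.fixMod i hu).2).eq, mul_inv_cancel_right]
    exact mul_mem (hsame ▸ he : e ∈ F.fixMod i hu).2 he.2
  have hdtu : d ∈ F.fixMod i htu := by
    refine ⟨hd, ?_⟩
    rw [show delta (t * u) d = t * c' * t⁻¹ * c by simp only [delta, hc'def, hcdef]; group,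
      show t * c' * t⁻¹ = delta t c' * c' from conj_eq_delta t c']
    have h2 : c' * c ∈ Subgroup.zpowers S.z := by
      rw [show c' * c = (c' * c⁻¹) * (c * c) by group]
      exact mul_mem hcc (S.hE.sq_mem (hE hcK.1))
    rw [mul_assoc]
    exact mul_mem hc'K.2 h2
  exact hdK ((Subgroup.eq_of_le_of_card_ge hle (by rw [htu8, h8])).symm ▸ hdtu)

end Frame

end CfsgLib.JankoFour
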