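import Cfsg.Agent.Lib.JankoFourHexad.ActionChecks

/-!
# Linear maps of the elementary abelian group of order `2 ^ 11` in codes (owner: helper28)
-/

set_option autoImplicit false
set_option maxRecDepth 100000

namespace CfsgLib.JankoFourHexad

/-- Images of the basis under a map of the first fixed space and a table on the four lifts with signs `δ`. -/
def vImg (f : ℕ → ℕ) (tab : ℕ → ℕ) (δ j : ℕ) : ℕ :=
  if j = 0 then 1 else if j < 7 then Nat.shiftLeft (f (2 ^ (j - 1))) 1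
  else Nat.lor (if Nat.testBit δ (j - 7) then 1 else 0) (Nat.shiftLeft (tab (j - 7)) 7)

/-- The linear map of the first hexad normalizer outside the Sylow 3-group. -/
def mC (u : ℕ) : ℕ := Nat.xor (sm (co u 0) 21) (Nat.xor (sm (co u 1) 16) (sm (co u 2) 4))

/-- The table of the identity. -/
def tabOne (i : ℕ) : ℕ := 2 ^ i

/-- The table of `a`. -/
def tA (i : ℕ) : ℕ := [1, 2, 12, 4].getD i 0

/-- The table of `b`. -/
def tB (i : ℕ) : ℕ := [2, 3, 4, 8].getD i 0

/-- The table of `c`. -/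
def tC (i : ℕ) : ℕ := [9, 2, 14, 8].getD i 0

/-- The images of the basis under the generators without `c`. -/
def gImg (g j : ℕ) : ℕ :=
  if g = 0 then vImg mA tA 0 j else if g = 1 then vImg mB tB 0 j else if g = 2 then vImg mP tabOne 0 j
  else vT (2 ^ (g - 3)) (2 ^ j)

/-- The linear map of a generator without `c`. -/
def gMap (g n : ℕ) : ℕ := xfold (gImg g) n 11

/-- The linear map of `c` with signs `δ`. -/
def cMap (δ n : ℕ) : ℕ := xfold (vImg mC tC δ) n 11

theorem linOK_C : linOK mC := by unfold linOK; decide +kernel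

theorem xfold_U : ∀ u : Fin 64, xfold (fun j => 2 ^ (j + 1)) u.1 6 = Nat.shiftLeft u.1 1 := by decide +kernel

theorem xfold_K : ∀ k : Fin 16, xfold (fun j => 2 ^ (j + 7)) k.1 4 = Nat.shiftLeft k.1 7 := by decide +kernel

theorem vsplit (n : Fin 2048) :
    Nat.xor (Nat.xor (Nat.land n.1 1) (Nat.shiftLeft (eU n.1) 1)) (Nat.shiftLeft (Nat.shiftRight n.1 7) 7) = n.1 := by
  revert n; decide +kernel

theorem gImg_lt : ∀ g : Fin 9, ∀ j : Fin 11, gImg g.1 j.1 < 2048 := by decide +kernel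

theorem vImgC_lt : ∀ δ : Fin 16, ∀ j : Fin 11, vImg mC tC δ.1 j.1 < 2048 := by decide +kernel

theorem kl_shift : ∀ k : Fin 4, ∀ w : Fin 64, phiK k.1 w.1 < 128 ∧
    emul (phiK k.1 w.1) (Nat.shiftLeft w.1 7) = eV k.1 (Nat.shiftLeft w.1 7) ∧
    pairB (eU (phiK k.1 w.1)) w.1 = 0 := by decide +kernel

theorem vT_basis : ∀ w : Fin 64, ∀ j : Fin 11, vT w.1 (2 ^ j.1) < 2048 ∧
    (j.1 = 0 → vT w.1 (2 ^ j.1) = 1) ∧
    (1 ≤ j.1 → j.1 < 7 → vT w.1 (2 ^ j.1) = Nat.xor (pairB (2 ^ (j.1 - 1)) w.1) (2 ^ j.1)) ∧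
    (7 ≤ j.1 → vT w.1 (2 ^ j.1) = Nat.xor (phiK (j.1 - 7) w.1) (2 ^ j.1)) := by decide +kernel

theorem mC_swap : ∀ j : Fin 3, mC (2 ^ (2 * j.1 + 1)) = mP (mC (2 ^ (2 * j.1))) := by decide +kernel

end CfsgLib.JankoFourHexad
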