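import Cfsg.Agent.Lib.JankoFourHexad.Generators
import Cfsg.Agent.Lib.JankoFourHexad.VChecks

/-!
# The elementary abelian subgroup of order `2 ^ 11` (owner: helper28)
-/

set_option autoImplicit false
set_option linter.unusedSectionVars false

namespace CfsgLib.JankoFour

open Cfsg CfsgLib.ThreeTrans
open CfsgLib.JankoFourHexad

variable {G : Type*} [Group G] [Finite G]

namespace HexBase

variable {S : Setting G} (B : HexBase S)

/-- The basis. -/
def vb (j : ℕ) : G := if j = 0 then S.z else if j < 7 then B.cU (j - 1) else B.X.kl (j - 7)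

/-- The element with a given code. -/
def vel (n : ℕ) : G := gprod B.vb n 11

theorem kl_z (i : ℕ) : Commute (B.X.kl i) S.z := Frame.commute_z (B.X.kl_mem i)

theorem kl_cU {i : ℕ} (hi : i < 4) (j : ℕ) : Commute (B.X.kl i) (B.cU j) :=
  (B.X.mem_F1_iff.1 (B.cU_mem j).1).2 i hi

theorem vb_comm {i j : ℕ} (hi : i < 11) (hj : j < 11) : Commute (B.vb i) (B.vb j) := by
  unfold vb
  have h0 : ∀ k, Commute S.z (B.cU k) := fun k => (S.hE.commute_z (B.cU_E k)).symm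
  split_ifs
  exacts [Commute.refl _, h0 _, (B.kl_z _).symm, (h0 _).symm, B.X.F1_comm (B.cU_mem _).1 (B.cU_mem _).1,
    (B.kl_cU (by omega) _).symm, B.kl_z _, B.kl_cU (by omega) _, B.X.kl_commute _ _]

theorem vb_sq (i : ℕ) : B.vb i * B.vb i = 1 := by
  unfold vb; split_ifs
  exacts [S.z_sq, B.cU_sq _, B.X.kl_sq _]

theorem vel_xor (a b : ℕ) : B.vel a * B.vel b = B.vel (Nat.xor a b) :=
  gprod_add (fun i hi j hj => B.vb_comm hi hj) (fun i _ => B.vb_sq i) a b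

theorem vel_zero : B.vel 0 = 1 := gprod_zero _ _

theorem vel_two_pow {j : ℕ} (hj : j < 11) : B.vel (2 ^ j) = B.vb j := (gprod_single _ j 11).trans (if_pos hj)

theorem vel_sq (a : ℕ) : B.vel a * B.vel a = 1 := by
  rw [vel_xor, show Nat.xor a a = 0 from Nat.xor_self a, vel_zero]

theorem vel_comm (a b : ℕ) : Commute (B.vel a) (B.vel b) :=
  show B.vel a * B.vel b = B.vel b * B.vel a by
    rw [vel_xor, vel_xor]; exact congrArg B.vel (Nat.xor_comm a b)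

theorem vel_one : B.vel 1 = S.z := (B.vel_two_pow (j := 0) (by norm_num)).trans (if_pos rfl)

theorem vel_land (n : ℕ) : B.vel (Nat.land n 1) = zpar S.z n := by
  rw [show Nat.land n 1 = n % 2 from Nat.and_one_is_mod n, zpar, Nat.testBit_zero]
  rcases Nat.mod_two_eq_zero_or_one n with e | e <;> simp [e, B.vel_zero, B.vel_one]

theorem vel_U {u : ℕ} (hu : u < 64) : B.vel (Nat.shiftLeft u 1) = B.U u := by
  rw [← xfold_U ⟨u, hu⟩, ← gprod_hom B.vel_zero B.vel_xor]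
  refine gprod_congr fun j hj => ?_
  rw [B.vel_two_pow (by omega), vb, if_neg (by omega), if_pos (by omega), Nat.add_sub_cancel]

theorem vel_K {k : ℕ} (hk : k < 16) : B.vel (Nat.shiftLeft k 7) = gprod B.X.kl k 4 := by
  rw [← xfold_K ⟨k, hk⟩, ← gprod_hom B.vel_zero B.vel_xor]
  refine gprod_congr fun j hj => ?_
  rw [B.vel_two_pow (by omega), vb, if_neg (by omega), if_neg (by omega), Nat.add_sub_cancel]

theorem vel_kl {i : ℕ} (hi : i < 4) : B.vel (2 ^ (i + 7)) = B.X.kl i := by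
  rw [B.vel_two_pow (by omega), vb, if_neg (by omega), if_neg (by omega), Nat.add_sub_cancel]

theorem vel_split (n : Fin 2048) :
    B.vel n.1 = zpar S.z n.1 * B.U (eU n.1) * gprod B.X.kl (Nat.shiftRight n.1 7) 4 := by
  have hk : Nat.shiftRight n.1 7 < 16 := by
    show n.1 >>> 7 < 16
    rw [Nat.shiftRight_eq_div_pow]; omega
  conv_lhs => rw [← vsplit n]
  rw [← B.vel_xor, ← B.vel_xor, B.vel_land, B.vel_U (eU_lt _), B.vel_K hk]

theorem el_vel {n : ℕ} (hn : n < 128) : B.el n = B.vel n := by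
  have h : Nat.shiftRight n 7 = 0 := by
    show n >>> 7 = 0
    rw [Nat.shiftRight_eq_div_pow]; omega
  rw [B.vel_split ⟨n, by omega⟩, el, h, gprod_zero, show eW n = 0 from h, W_zero]

theorem gprod_kl (k : ℕ) : gprod B.X.kl k 4 = prod4 B.X.kl k := by
  show (((1 : G) * _) * _ * _) * _ = _
  rw [one_mul]
  rfl

theorem vel_eq_one {n : ℕ} (hn : n < 2048) (h : B.vel n = 1) : n = 0 := by
  set k := Nat.shiftRight n 7 with hk'
  have hk : k < 16 := by
    show n >>> 7 < 16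
    rw [Nat.shiftRight_eq_div_pow]; omega
  rw [B.vel_split ⟨n, hn⟩, B.gprod_kl] at h
  have hE : zpar S.z n * B.U (eU n) ∈ S.E := mul_mem (zpar_E n) (B.X.F1_le_E (B.U_mem _))
  have hK : prod4 B.X.kl k = (zpar S.z n * B.U (eU n))⁻¹ := eq_inv_of_mul_eq_one_right h
  have hf : prod4 B.X.ke k = 1 := by
    rw [← B.X.f_prod4, hK, S.f_inv (S.hEH0 hE), (S.f_eq_one_iff (S.hEH0 hE)).2 (Subgroup.mem_sup_left hE), inv_one]
  have hk0 : k = 0 := B.X.hex.indep k hk hf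
  rw [hk0] at hK
  have hU : B.U (eU n) * B.W 0 = zpar S.z n := by
    have e : zpar S.z n * B.U (eU n) = 1 := by
      rw [← inv_eq_one, ← hK, ← B.gprod_kl, gprod_zero]
    rw [W_zero, mul_one, eq_inv_of_mul_eq_one_right e, inv_eq_of_mul_eq_one_right (zpar_sq S.z_sq n)]
  have hzm : zpar S.z n ∈ Subgroup.zpowers S.z := by
    rcases zpar_mem (c := S.z) n with e | e <;> rw [e]
    exacts [one_mem _, Subgroup.mem_zpowers _]
  obtain ⟨hu, -, hz⟩ := B.U_mul_W_eq (eU_lt n) (by norm_num) hzm hU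
  have hb : Nat.land n 1 = 0 := by
    rw [show Nat.land n 1 = n % 2 from Nat.and_one_is_mod n]
    rcases Nat.mod_two_eq_zero_or_one n with e | e
    · exact e
    · exfalso
      have : n.testBit 0 = true := by rw [Nat.testBit_zero, decide_eq_true e]
      rw [zpar, this, if_pos rfl] at hz
      exact S.hE.z_ne_one hz
  have hs := vsplit ⟨n, hn⟩
  dsimp only at hs
  rw [hb, hu, ← hk', hk0] at hs
  exact hs.symm

theorem vel_inj {m n : ℕ} (hm : m < 2048) (hn : n < 2048) (h : B.vel m = B.vel n) : m = n :=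
  Nat.xor_eq_zero_iff.1 (B.vel_eq_one (Nat.xor_lt_two_pow (n := 11) hm hn) (by
    show B.vel (Nat.xor m n) = 1
    rw [← B.vel_xor, h, vel_sq]))

/-- The elementary abelian subgroup. -/
def V : Subgroup G where
  carrier := {x | ∃ n < 2048, B.vel n = x}
  one_mem' := ⟨0, by norm_num, B.vel_zero⟩
  mul_mem' := by
    rintro _ _ ⟨a, ha, rfl⟩ ⟨b, hb, rfl⟩
    exact ⟨_, Nat.xor_lt_two_pow (n := 11) ha hb, (B.vel_xor a b).symm⟩
  inv_mem' := by
    rintro _ ⟨a, ha, rfl⟩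
    exact ⟨a, ha, (inv_eq_of_mul_eq_one_right (B.vel_sq a)).symm⟩

theorem mem_V {x : G} : x ∈ B.V ↔ ∃ n < 2048, B.vel n = x := Iff.rfl

theorem vel_mem {n : ℕ} (hn : n < 2048) : B.vel n ∈ B.V := ⟨n, hn, rfl⟩

theorem z_mem_V : S.z ∈ B.V := ⟨1, by norm_num, B.vel_one⟩

/-- `V` in coordinates. -/
noncomputable def vEquiv : Fin 2048 ≃ B.V :=
  Equiv.ofBijective (fun n => ⟨B.vel n.1, B.vel_mem n.2⟩)
    ⟨fun a b e => Fin.ext (B.vel_inj a.2 b.2 (congrArg Subtype.val e)),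
      fun ⟨x, n, hn, e⟩ => ⟨⟨n, hn⟩, Subtype.ext e⟩⟩

theorem card_V : Nat.card B.V = 2 ^ 11 := by
  rw [← Nat.card_congr B.vEquiv, Nat.card_fin]; norm_num

theorem V_elementary : IsElementaryAbelian 2 B.V := by
  refine ⟨⟨⟨?_⟩⟩, ?_⟩
  · rintro ⟨_, a, -, rfl⟩ ⟨_, b, -, rfl⟩
    exact Subtype.ext (B.vel_comm a b)
  · rintro x ⟨a, -, rfl⟩
    rw [pow_two, B.vel_sq]

/-- `g` acts on `V` by the linear map `f`. -/
def ActsV (g : G) (f : ℕ → ℕ) : Prop :=
  Commute g S.z ∧ ∀ n < 2048, f n < 2048 ∧ g * B.vel n * g⁻¹ = B.vel (f n)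

theorem xfold_lt {img : ℕ → ℕ} {m k : ℕ} (h : ∀ j < k, img j < 2048) : xfold img m k < 2048 := by
  induction k with
  | zero => show (0 : ℕ) < 2048; norm_num
  | succ k ih =>
    rw [xfold_succ]
    refine Nat.xor_lt_two_pow (n := 11) (ih fun j hj => h j (by omega)) ?_
    split_ifs
    exacts [h k (by omega), by norm_num]

theorem actsV_of_basis {g : G} (hg : Commute g S.z) {img : ℕ → ℕ} (hlt : ∀ j < 11, img j < 2048)
    (h : ∀ j < 11, g * B.vb j * g⁻¹ = B.vel (img j)) : B.ActsV g (fun n => xfold img n 11) := by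
  refine ⟨hg, fun n _ => ⟨xfold_lt hlt, ?_⟩⟩
  rw [vel, show g * gprod B.vb n 11 * g⁻¹ = gprod (fun j => g * B.vb j * g⁻¹) n 11 from
    gprod_map (MulAut.conj g).toMonoidHom B.vb n 11, gprod_congr h, gprod_hom B.vel_zero B.vel_xor]

theorem conj_z {g : G} (hg : Commute g S.z) : g * S.z * g⁻¹ = S.z := by rw [hg.eq, mul_inv_cancel_right]

/-- The generators built from a map of the first fixed space and a table. -/
theorem actsV_of_tab {g : G} (hg : Commute g S.z) {f tab : ℕ → ℕ} {δ : ℕ}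
    (hU : ∀ u < 64, f u < 64 ∧ g * B.U u * g⁻¹ = B.U (f u)) (htab : ∀ i < 4, tab i < 16)
    (hlt : ∀ j < 11, vImg f tab δ j < 2048)
    (hK : ∀ i < 4, g * B.X.kl i * g⁻¹ = B.vel (if δ.testBit i then 1 else 0) * prod4 B.X.kl (tab i)) :
    B.ActsV g (fun n => xfold (vImg f tab δ) n 11) := by
  refine B.actsV_of_basis hg hlt fun j hj => ?_
  rcases (show j = 0 ∨ (1 ≤ j ∧ j < 7) ∨ 7 ≤ j by omega) with e | e | e
  · subst e
    rw [vb, if_pos rfl, conj_z hg]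
    exact B.vel_one.symm
  · rw [vb, if_neg (by omega), if_pos e.2, ← B.U_single (by omega), (hU _ (Nat.pow_lt_pow_right (by norm_num)
      (by omega : j - 1 < 6))).2, vImg, if_neg (by omega), if_pos e.2, B.vel_U
      (hU _ (Nat.pow_lt_pow_right (by norm_num) (by omega : j - 1 < 6))).1]
  · rw [vb, if_neg (by omega), if_neg (by omega), vImg, if_neg (by omega), if_neg (by omega), hK (j - 7) (by omega),
      ← B.gprod_kl, ← B.vel_K (htab (j - 7) (by omega)), B.vel_xor]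
    congr 1
    have hl : ∀ b < 16, ∀ d : Bool, Nat.lor (if d then 1 else 0) (Nat.shiftLeft b 7) =
        Nat.xor (if d then 1 else 0) (Nat.shiftLeft b 7) := by decide +kernel
    exact (hl _ (htab (j - 7) (by omega)) _).symm

theorem conj_kl2 {g h : G} {c : G} (hc : c ∈ Subgroup.zpowers S.z) {m : ℕ}
    (e : g = B.X.n1 * h * B.X.n1⁻¹ * B.X.F.p ^ m * c) {x : G} (hx : x ∈ S.C) :
    g * (B.X.n1 * x * B.X.n1⁻¹) * g⁻¹ = B.X.n1 * (h * x * h⁻¹) * B.X.n1⁻¹ := by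
  have hy : B.X.n1 * x * B.X.n1⁻¹ ∈ S.C := mul_mem (mul_mem B.X.hn1 hx) (inv_mem B.X.hn1)
  have hcomm : Commute (B.X.F.p ^ m * c) (B.X.n1 * x * B.X.n1⁻¹) :=
    ((B.X.F.commute_p hy).symm.pow_left m).mul_left
      (Frame.commute_z_zpowers (S := S) (Frame.commute_z hy) hc).symm
  calc g * (B.X.n1 * x * B.X.n1⁻¹) * g⁻¹
      = B.X.n1 * h * B.X.n1⁻¹ * ((B.X.F.p ^ m * c) * (B.X.n1 * x * B.X.n1⁻¹) * (B.X.F.p ^ m * c)⁻¹) *
        (B.X.n1 * h * B.X.n1⁻¹)⁻¹ := by rw [e]; group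
    _ = _ := by rw [hcomm.eq, mul_inv_cancel_right]; group

theorem kl23 (i : ℕ) (hi : i < 2) : B.X.kl (i + 2) = B.X.n1 * B.X.kl i * B.X.n1⁻¹ := by
  interval_cases i <;> rfl

theorem prod4_vals {A : Type*} [Monoid A] (k : ℕ → A) : prod4 k 1 = k 0 ∧ prod4 k 2 = k 1 ∧ prod4 k 3 = k 0 * k 1 ∧
    prod4 k 4 = k 2 ∧ prod4 k 8 = k 3 ∧ prod4 k 12 = k 2 * k 3 := by
  simp [prod4, Nat.testBit, Nat.shiftRight_eq_div_pow]

/-- `a` in coordinates. -/
theorem a_actsV : B.ActsV B.X.F.a (gMap 0) := by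
  have hfb : S.f (B.X.n1 * B.X.F.b * B.X.n1⁻¹) = S.f (B.X.F.a * B.X.F.a) := by
    rw [S.f_conj_C B.X.hn1 B.X.F.hbC, S.f_mul_C B.X.F.haC B.X.F.haC, B.X.hex.n1s]
  obtain ⟨m, c, hc, hgb⟩ := B.exists_lift_form (mul_mem (mul_mem B.X.hn1 B.X.F.hbC) (inv_mem B.X.hn1))
    (mul_mem B.X.F.haC B.X.F.haC) hfb
  have hac : Commute B.X.F.a c := Frame.commute_z_zpowers (S := S) (Frame.commute_z B.X.F.haC) hc
  have e : B.X.F.a = B.X.n1 * B.X.F.b⁻¹ * B.X.n1⁻¹ * B.X.F.p ^ m * c := by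
    have h1 : B.X.n1 * B.X.F.b⁻¹ * B.X.n1⁻¹ = (B.X.F.a * B.X.F.a * B.X.F.p ^ m * c)⁻¹ := by rw [← hgb]; group
    have hcp : Commute B.X.F.a (B.X.F.p ^ m * c) := ((B.X.F.commute_p B.X.F.haC).pow_right m).mul_right hac
    rw [mul_assoc, h1, show B.X.F.a * B.X.F.a * B.X.F.p ^ m * c = B.X.F.a * B.X.F.a * (B.X.F.p ^ m * c) by group,
      mul_inv_rev]
    have ha3 : B.X.F.a * B.X.F.a * B.X.F.a = 1 := by rw [← B.X.F.ha, pow_succ, pow_two]
    rw [inv_eq_of_mul_eq_one_right ha3, mul_assoc, hcp.eq, inv_mul_cancel_left]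
  have h0 : ∀ x, Commute B.X.F.a x → B.X.F.a * x * B.X.F.a⁻¹ = x := fun x h => by rw [h.eq, mul_inv_cancel_right]
  refine B.actsV_of_tab (Frame.commute_z B.X.F.haC) (f := mA) (tab := tA) (δ := 0)
    (fun u hu => ⟨(B.a_acts u hu).1, (B.a_acts u hu).2.1⟩) (by decide) (fun j hj => gImg_lt 0 ⟨j, hj⟩) fun i hi => ?_
  simp only [Nat.zero_testBit, Bool.false_eq_true, if_false, vel_zero, one_mul]
  obtain ⟨q1, q2, q3, q4, q8, q12⟩ := prod4_vals B.X.kl
  interval_cases i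
  · rw [show tA 0 = 1 from rfl, q1]; exact h0 _ B.X.F.hav
  · rw [show tA 1 = 2 from rfl, q2]; exact h0 _ B.X.F.haw
  · rw [show tA 2 = 12 from rfl, q12, B.kl23 0 (by norm_num), B.conj_kl2 hc e (B.X.kl_mem 0), inv_inv,
      show B.X.kl 0 = B.X.F.v from rfl, B.b_inv_v, B.kl23 1 (by norm_num), show B.X.kl 1 = B.X.F.w from rfl]
    group
  · rw [show tA 3 = 4 from rfl, q4, B.kl23 1 (by norm_num), B.conj_kl2 hc e (B.X.kl_mem 1), inv_inv,
      B.kl23 0 (by norm_num), show B.X.kl 1 = B.X.F.w from rfl, show B.X.F.b⁻¹ * B.X.F.w * B.X.F.b = B.X.F.v by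
        rw [← B.X.F.hw]; group]
    rfl

/-- `b` in coordinates. -/
theorem b_actsV : B.ActsV B.X.F.b (gMap 1) := by
  have e : B.X.F.b = B.X.n1 * B.X.F.a * B.X.n1⁻¹ * B.X.F.p ^ 0 * 1 := by rw [pow_zero, mul_one, mul_one, B.X.hab]
  refine B.actsV_of_tab (Frame.commute_z B.X.F.hbC) (f := mB) (tab := tB) (δ := 0)
    (fun u hu => ⟨(B.b_acts u hu).1, (B.b_acts u hu).2.1⟩) (by decide) (fun j hj => gImg_lt 1 ⟨j, hj⟩) fun i hi => ?_
  simp only [Nat.zero_testBit, Bool.false_eq_true, if_false, vel_zero, one_mul]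
  obtain ⟨q1, q2, q3, q4, q8, q12⟩ := prod4_vals B.X.kl
  interval_cases i
  · rw [show tB 0 = 2 from rfl, q2]; exact B.X.F.hw
  · rw [show tB 1 = 3 from rfl, q3]; exact B.X.hvw
  · rw [show tB 2 = 4 from rfl, q4, B.kl23 0 (by norm_num), B.conj_kl2 (one_mem _) e (B.X.kl_mem 0),
      show B.X.kl 0 = B.X.F.v from rfl, B.X.F.hav.eq, mul_inv_cancel_right]
  · rw [show tB 3 = 8 from rfl, q8, B.kl23 1 (by norm_num), B.conj_kl2 (one_mem _) e (B.X.kl_mem 1),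
      show B.X.kl 1 = B.X.F.w from rfl, B.X.F.haw.eq, mul_inv_cancel_right]

/-- `p` in coordinates. -/
theorem p_actsV : B.ActsV B.X.F.p (gMap 2) := by
  refine B.actsV_of_tab (Frame.commute_z B.X.F.hpC) (f := mP) (tab := tabOne) (δ := 0)
    (fun u hu => ⟨(B.p_acts u hu).1, (B.p_acts u hu).2.1⟩) (fun i hi => by interval_cases i <;> decide)
    (fun j hj => gImg_lt 2 ⟨j, hj⟩) fun i hi => ?_
  simp only [Nat.zero_testBit, Bool.false_eq_true, if_false, vel_zero, one_mul]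
  rw [(B.X.F.commute_p (B.X.kl_mem i)).eq.symm, mul_inv_cancel_right]
  interval_cases i <;> simp [prod4, tabOne, Nat.testBit_succ]

theorem W_conj_kl (k : Fin 4) {w : ℕ} (hw : w < 64) :
    B.W w * B.X.kl k.1 * (B.W w)⁻¹ = B.vel (phiK k.1 w) * B.X.kl k.1 := by
  obtain ⟨h1, h2, -⟩ := kl_shift k ⟨w, hw⟩
  dsimp only at h1 h2
  have h := B.kl_W k hw
  rw [← h2, ← B.el_mul (by omega : phiK k.1 w < 8192), B.el_W hw, B.el_vel h1] at h
  set φ := B.vel (phiK k.1 w)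
  have hφ : φ⁻¹ = φ := inv_eq_of_mul_eq_one_right (B.vel_sq _)
  have h' : B.X.kl k.1 * B.W w = φ * B.W w * B.X.kl k.1 := mul_inv_eq_iff_eq_mul.1 h
  calc B.W w * B.X.kl k.1 * (B.W w)⁻¹ = φ⁻¹ * (φ * B.W w * B.X.kl k.1) * (B.W w)⁻¹ := by group
    _ = φ⁻¹ * (B.X.kl k.1 * B.W w) * (B.W w)⁻¹ := by rw [h']
    _ = φ * B.X.kl k.1 := by rw [hφ]; group

theorem t_actsV {w : ℕ} (hw : w < 64) : B.ActsV (B.W w) (fun n => xfold (fun j => vT w (2 ^ j)) n 11) := by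
  have hz : Commute (B.W w) S.z := S.hE.commute_z (B.X.F2_le_E (B.W_mem w))
  refine B.actsV_of_basis hz (fun j hj => (vT_basis ⟨w, hw⟩ ⟨j, hj⟩).1) fun j hj => ?_
  obtain ⟨-, h0, hU, hK⟩ := vT_basis ⟨w, hw⟩ ⟨j, hj⟩
  dsimp only at h0 hU hK
  rcases (show j = 0 ∨ (1 ≤ j ∧ j < 7) ∨ 7 ≤ j by omega) with e | e | e
  · rw [h0 e, vb, if_pos e, conj_z hz, vel_one]
  · have hpow : 2 ^ (j - 1) < 64 := Nat.pow_lt_pow_right (a := 2) (n := 6) (by norm_num) (by omega)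
    have h := B.UW_rel hpow hw
    have hχ : pairB (2 ^ (j - 1)) w < 2 := pairB_lt ⟨_, hpow⟩ ⟨w, hw⟩
    have hvz : B.vel (pairB (2 ^ (j - 1)) w) = zpar S.z (pairB (2 ^ (j - 1)) w) := by
      rcases (show pairB (2 ^ (j - 1)) w = 0 ∨ pairB (2 ^ (j - 1)) w = 1 by omega) with e' | e' <;>
        rw [e'] <;> simp [zpar, B.vel_zero, B.vel_one]
    have hcz : ∀ x ∈ S.E, Commute (zpar S.z (pairB (2 ^ (j - 1)) w)) x := fun x hx => z_comm hx _
    rw [hU e.1 e.2, ← B.vel_xor, B.vel_two_pow hj, hvz, vb, if_neg (by omega), if_pos e.2,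
      ← B.U_single (by omega)]
    have h' : B.W w * B.U (2 ^ (j - 1)) = B.U (2 ^ (j - 1)) * B.W w * zpar S.z (pairB (2 ^ (j - 1)) w) := by
      rw [h, mul_assoc, zpar_sq S.z_sq, mul_one]
    rw [h', ← (hcz _ (mul_mem (B.X.F1_le_E (B.U_mem _)) (B.X.F2_le_E (B.W_mem _)))).eq]
    group
  · rw [hK e, ← B.vel_xor, B.vel_two_pow hj, vb, if_neg (by omega), if_neg (by omega)]
    exact B.W_conj_kl ⟨j - 7, by omega⟩ hw

/-- Every generator without `c` is realised. -/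
theorem exists_gGen (g : Fin 9) : ∃ t : G, B.ActsV t (gMap g.1) := by
  rcases (show g.1 = 0 ∨ g.1 = 1 ∨ g.1 = 2 ∨ 3 ≤ g.1 by omega) with e | e | e | e
  · exact ⟨_, e ▸ B.a_actsV⟩
  · exact ⟨_, e ▸ B.b_actsV⟩
  · exact ⟨_, e ▸ B.p_actsV⟩
  · refine ⟨B.W (2 ^ (g.1 - 3)), ?_⟩
    have h := B.t_actsV (w := 2 ^ (g.1 - 3)) (Nat.pow_lt_pow_right (a := 2) (n := 6) (by norm_num) (by omega))
    have : gMap g.1 = fun n => xfold (fun j => vT (2 ^ (g.1 - 3)) (2 ^ j)) n 11 := by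
      funext n
      show xfold (gImg g.1) n 11 = _
      congr 1
      funext j
      rw [gImg, if_neg (by omega), if_neg (by omega), if_neg (by omega)]
    rw [this]
    exact h

end HexBase

end CfsgLib.JankoFour
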