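import Cfsg.Agent.Lib.JankoFourHexad.Count
import Cfsg.Agent.Lib.JankoFourHexad.ClassChecks
import Cfsg.Agent.Lib.JankoFour.Pair

/-!
# The conjugates of the involution in `V` (owner: helper28)
-/

set_option autoImplicit false
set_option linter.unusedSectionVars false
set_option maxRecDepth 100000

namespace CfsgLib.JankoFour

open Cfsg CfsgLib.ThreeTrans
open CfsgLib.JankoFourHexad

variable {G : Type*} [Group G] [Finite G]

namespace HexBase

variable {S : Setting G} (B : HexBase S)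

/-- Being a conjugate of `z`, on codes. -/
def IsZc (n : ℕ) : Prop := IsConj S.z (B.vel n)

theorem isZc_map {t : G} {f : ℕ → ℕ} (h : B.ActsV t f) {n : ℕ} (hn : n < 2048) :
    f n < 2048 ∧ (B.IsZc (f n) ↔ B.IsZc n) := by
  obtain ⟨h1, h2⟩ := h.2 n hn
  have hc : IsConj (B.vel n) (B.vel (f n)) := isConj_iff.2 ⟨t, h2⟩
  exact ⟨h1, fun h' => h'.trans hc.symm, fun h' => h'.trans hc⟩

theorem isZc_zero : ¬ B.IsZc 0 := fun h => by
  obtain ⟨g, hg⟩ := isConj_iff.1 (show IsConj S.z (B.vel 0) from h)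
  rw [vel_zero] at hg
  exact S.hE.z_ne_one (conj_eq_one_iff.1 hg)

theorem isZc_one : B.IsZc 1 := by
  show IsConj S.z (B.vel 1)
  rw [vel_one]

/-- Unchanged by everything acting on the codes. -/
def Invariant (P : ℕ → Prop) : Prop := ∀ t f, B.ActsV t f → ∀ n < 2048, (P (f n) ↔ P n)

theorem isZc_invariant : B.Invariant B.IsZc := fun _ _ h _ hn => (B.isZc_map h hn).2

/-- The representative of a label. -/
def lrep (l : ℕ) : ℕ := repData.getD l 0

theorem lab_fold {P : ℕ → Prop} (hP : B.Invariant P) : ∀ (l : List ℕ) (k : ℕ), (∀ n, k.testBit n = true → (P n ↔ P (lrep (lab n)))) →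
    ∀ n, (l.foldl labStep k).testBit n = true → (P n ↔ P (lrep (lab n)))
  | [], _, h, n, hn => h n hn
  | c :: l, k, h, n, hn => by
    refine lab_fold hP l (labStep k c) (fun j hj => ?_) n hn
    unfold labStep at hj
    split_ifs at hj with h1
    · rw [show Nat.lor k (Nat.shiftLeft 1 (c / 32768)) = k ||| (1 <<< (c / 32768)) from rfl, Nat.testBit_or,
        Bool.or_eq_true] at hj
      rcases hj with hj | hj
      · exact h j hj
      · rw [Nat.shiftLeft_eq, one_mul, Nat.testBit_two_pow, decide_eq_true_eq] at hj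
        subst hj
        simp only [Bool.and_eq_true, Nat.blt_eq, Nat.beq_eq] at h1
        obtain ⟨⟨⟨hk, hg⟩, hgm⟩, hlab⟩ := h1
        obtain ⟨t, ht⟩ := B.exists_gGen ⟨c % 16, hg⟩
        have hiff := hP t _ ht _ (Nat.mod_lt (c / 16) (by norm_num : (2048 : ℕ) > 0))
        dsimp only at hiff
        rw [hgm] at hiff
        rw [hiff, h _ hk, hlab]
    · exact h j hj

theorem lab_spec {P : ℕ → Prop} (hP : B.Invariant P) {n : ℕ} (hn : n < 2048) (h0 : n ≠ 0) :
    P n ↔ P (lrep (lab n)) := by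
  refine B.lab_fold hP stepData repMask (fun m hm => ?_) n ?_
  · have key : ∀ (l : List ℕ) (k : ℕ),
        (l.foldl (fun k r => Nat.lor k (Nat.shiftLeft 1 r)) k).testBit m = true → k.testBit m = true ∨ m ∈ l := by
      intro l
      induction l with
      | nil => exact fun k hk => Or.inl hk
      | cons a l ih =>
        intro k hk
        rcases ih _ hk with h | h
        · dsimp only at h
          rw [show Nat.lor k (Nat.shiftLeft 1 a) = k ||| (1 <<< a) from rfl, Nat.testBit_or, Bool.or_eq_true] at h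
          rcases h with h | h
          · exact Or.inl h
          · rw [Nat.shiftLeft_eq, one_mul, Nat.testBit_two_pow, decide_eq_true_eq] at h
            exact Or.inr (h ▸ List.mem_cons_self)
        · exact Or.inr (List.mem_cons_of_mem _ h)
    rcases key repData 0 hm with h | h
    · simp at h
    · rw [lrep, (rep_ok m h).2.2]
  · rw [Nat.eq_of_beq_eq_true lab_mask, show (2 : ℕ) ^ 2048 - 2 = 2 ^ 2048 - (1 + 1) from rfl,
      Nat.testBit_two_pow_sub_succ (by exact Nat.one_lt_two_pow (by norm_num)), decide_eq_true hn]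
    have hb : Nat.testBit 1 n = false := by
      rw [Nat.testBit_lt_two_pow (Nat.one_lt_two_pow h0)]
    rw [hb]; rfl

theorem root_spec {P : ℕ → Prop} (hP : B.Invariant P) (l : Fin 15) :
    P (lrep l.1) ↔ P (lrep (baseLab ((rootData.getD B.csign.1 []).getD l.1 0))) := by
  set δ := B.csign.1 with hδ
  have key : ∀ (es : List ℕ) (k : ℕ),
      (∀ j, k.testBit j = true → j < 15 →
        (P (lrep j) ↔ P (lrep (baseLab ((rootData.getD δ []).getD j 0))))) →
      ∀ j, (es.foldl (rootStep δ) k).testBit j = true → j < 15 →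
        (P (lrep j) ↔ P (lrep (baseLab ((rootData.getD δ []).getD j 0)))) := by
    intro es
    induction es with
    | nil => exact fun k hk => hk
    | cons n es ih =>
      intro k hk
      refine ih (rootStep δ k n) fun j hj hj15 => ?_
      unfold rootStep at hj
      split_ifs at hj with h1
      · rw [show Nat.lor k (Nat.shiftLeft 1 (lab n)) = k ||| (1 <<< lab n) from rfl, Nat.testBit_or,
          Bool.or_eq_true] at hj
        rcases hj with hj | hj
        · exact hk j hj hj15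
        · rw [Nat.shiftLeft_eq, one_mul, Nat.testBit_two_pow, decide_eq_true_eq] at hj
          subst hj
          simp only [Bool.and_eq_true, Nat.blt_eq, Nat.beq_eq, Bool.not_eq_true'] at h1
          obtain ⟨⟨⟨hkb, hn⟩, hne⟩, hcls⟩ := h1
          have hn0 : n ≠ 0 := by rintro rfl; simp at hne
          have hlt := (B.cc_actsV.2 n hn).1
          have hiff := hP _ _ B.cc_actsV n hn
          have hc0 : cMap δ n ≠ 0 := c_range B.csign ⟨n, hn⟩ hn0
          rw [← B.lab_spec hP hn hn0, ← hiff, B.lab_spec hP hlt hc0,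
            hk _ hkb (lab_range ⟨cMap δ n, hlt⟩ hc0)]
          unfold cls at hcls
          rw [← hcls]
      · exact hk j hj hj15
  refine key (edgeData.getD δ []) (rootMask δ) (fun j hj hj15 => ?_) l.1 ?_ l.2
  · rw [root_base B.csign ⟨j, hj15⟩ hj]
  · rw [root_mask B.csign, Nat.testBit_two_pow_sub_one, decide_eq_true l.2]

theorem class_spec {P : ℕ → Prop} (hP : B.Invariant P) {n : ℕ} (hn : n < 2048) (h0 : n ≠ 0) :
    P n ↔ P (lrep (baseLab (cls B.csign.1 n))) := by
  rw [B.lab_spec hP hn h0, B.root_spec hP ⟨lab n, lab_range ⟨n, hn⟩ h0⟩]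
  rfl

theorem cls_lt {n : ℕ} (hn : n < 2048) (h0 : n ≠ 0) : cls B.csign.1 n < 6 :=
  base_fix B.csign ⟨lab n, lab_range ⟨n, hn⟩ h0⟩

theorem exists_selection : ∃ s : Fin 64, ∀ n < 2048, n ≠ 0 → (B.IsZc n ↔ s.1.testBit (cls B.csign.1 n) = true) := by
  have hd : ∀ b0 b1 b2 b3 b4 b5 : Bool, ∃ s : Fin 64, s.1.testBit 0 = b0 ∧ s.1.testBit 1 = b1 ∧ s.1.testBit 2 = b2 ∧
      s.1.testBit 3 = b3 ∧ s.1.testBit 4 = b4 ∧ s.1.testBit 5 = b5 := fun b0 b1 b2 b3 b4 b5 =>
    ⟨⟨b0.toNat + 2 * b1.toNat + 4 * b2.toNat + 8 * b3.toNat + 16 * b4.toNat + 32 * b5.toNat, by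
      cases b0 <;> cases b1 <;> cases b2 <;> cases b3 <;> cases b4 <;> cases b5 <;> decide⟩, by
      cases b0 <;> cases b1 <;> cases b2 <;> cases b3 <;> cases b4 <;> cases b5 <;> decide⟩
  classical
  let d : ℕ → Bool := fun i => decide (B.IsZc (lrep (baseLab i)))
  obtain ⟨s, e0, e1, e2, e3, e4, e5⟩ := hd (d 0) (d 1) (d 2) (d 3) (d 4) (d 5)
  refine ⟨s, fun n hn h0 => ?_⟩
  have h6 := B.cls_lt hn h0
  have hb : s.1.testBit (cls B.csign.1 n) = d (cls B.csign.1 n) := by
    interval_cases hc : cls B.csign.1 n <;> assumption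
  rw [hb, B.class_spec B.isZc_invariant hn h0]
  simp [d]

/-- A conjugate of `z` in `V ∩ E` other than `z`. -/
theorem exists_small [IsSimpleGroup G] (hG : ¬ IsMulCommutative G) : ∃ m < 128, 2 ≤ m ∧ B.IsZc m := by
  obtain ⟨c, -, hW, hne⟩ := B.X.F.exists_pair hG
  set x := c * S.z * c⁻¹
  have hxE : x ∈ S.E := B.X.F.W_le_E hW
  have hxx : x * x = 1 := by simp only [x]; rw [conj_mul, S.z_sq, mul_one, mul_inv_cancel]
  obtain ⟨t, htC, ht⟩ := B.exists_conj_F1 hxE hxx
  obtain ⟨m, hm, e⟩ := B.F1_le_V ht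
  have hm128 : m < 128 := by
    by_contra hge
    have hE : B.vel m ∈ S.E := e ▸ B.X.F1_le_E ht
    have hk : Nat.shiftRight m 7 < 16 := by
      show m >>> 7 < 16
      rw [Nat.shiftRight_eq_div_pow]; omega
    have h1 : B.Pk (Nat.shiftRight m 7) = B.Pk 0 := by
      rw [← B.f_vel hm, (S.f_eq_one_iff (S.hEH0 hE)).2 (Subgroup.mem_sup_left hE), B.Pk_eq (by norm_num)]
      simp [prod4]
    have h0 := B.Pk_inj hk (by norm_num) h1
    change m >>> 7 = 0 at h0
    rw [Nat.shiftRight_eq_div_pow] at h0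
    omega
  refine ⟨m, hm128, ?_, ?_⟩
  · by_contra hlt
    rcases (show m = 0 ∨ m = 1 by omega) with rfl | rfl
    · rw [vel_zero] at e
      have hx1 : x = 1 := conj_eq_one_iff.1 e.symm
      exact S.hE.z_ne_one (conj_eq_one_iff.1 hx1)
    · rw [vel_one] at e
      refine hne ?_
      have htz : Commute t S.z := Frame.commute_z htC
      rw [show x = t⁻¹ * (t * x * t⁻¹) * t by group, ← e, mul_assoc, ← htz.eq, inv_mul_cancel_left]
  · show IsConj S.z (B.vel m)
    rw [e]
    exact isConj_iff.2 ⟨t * c, by simp only [x]; group⟩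

theorem countLt_fin (f : ℕ → Bool) :
    CfsgLib.Sporadic.countLt 2048 f = (Finset.univ.filter fun n : Fin 2048 => f n.1 = true).card := by
  rw [CfsgLib.Sporadic.countLt_eq]
  refine (Finset.card_bij (fun (n : Fin 2048) _ => n.1) ?_ ?_ ?_).symm
  · intro a ha
    simp only [Finset.mem_filter, Finset.mem_range] at ha ⊢
    exact ⟨a.2, ha.2⟩
  · exact fun a _ b _ h => Fin.ext h
  · intro b hb
    simp only [Finset.mem_filter, Finset.mem_range] at hb
    exact ⟨⟨b, hb.1⟩, Finset.mem_filter.2 ⟨Finset.mem_univ _, hb.2⟩, rfl⟩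

theorem card_zset {s : Fin 64} (hs : ∀ n < 2048, n ≠ 0 → (B.IsZc n ↔ s.1.testBit (cls B.csign.1 n) = true)) :
    B.zset.card = unionSize B.csign.1 s.1 := by
  classical
  set δ := B.csign.1 with hδ
  have hfib : ∀ i < 6, (B.zset.filter fun n : Fin 2048 => cls δ n.1 = i).card =
      if s.1.testBit i then clsSize δ i else 0 := by
    intro i hi
    have hz : ∀ n : Fin 2048, n ∈ B.zset ↔ n.1 ≠ 0 ∧ s.1.testBit (cls δ n.1) = true := fun n => by
      rw [B.mem_zset]
      constructor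
      · intro h
        have h0 : n.1 ≠ 0 := fun e => B.isZc_zero (e ▸ h)
        exact ⟨h0, (hs n.1 n.2 h0).1 h⟩
      · exact fun h => (hs n.1 n.2 h.1).2 h.2
    by_cases hb : s.1.testBit i = true
    · rw [if_pos hb, ← Nat.eq_of_beq_eq_true (cls_sizes B.csign ⟨i, hi⟩), countLt_fin]
      congr 1
      ext n
      simp only [Finset.mem_filter, Finset.mem_univ, true_and, hz, Bool.and_eq_true, Bool.not_eq_true', Nat.beq_eq]
      constructor
      · rintro ⟨⟨h0, -⟩, e⟩
        refine ⟨?_, e⟩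
        cases hq : Nat.beq n.1 0
        · rfl
        · exact absurd (Nat.eq_of_beq_eq_true hq) h0
      · rintro ⟨h0, e⟩
        exact ⟨⟨fun e0 => by rw [e0] at h0; simp at h0, by rw [e]; exact hb⟩, e⟩
    · rw [if_neg hb, Finset.card_eq_zero, Finset.filter_eq_empty_iff]
      exact fun n hn e => hb (e ▸ ((hz n).1 hn).2)
  rw [Finset.card_eq_sum_card_fiberwise (f := fun n : Fin 2048 => cls δ n.1) (t := Finset.range 6) fun n hn =>
      Finset.mem_range.2 (B.cls_lt n.2 fun e => B.isZc_zero (e ▸ B.mem_zset.1 hn)),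
    Finset.sum_congr rfl fun i hi => hfib i (Finset.mem_range.1 hi)]
  simp only [Finset.sum_range_succ, Finset.sum_range_zero, unionSize, List.range_succ, List.range_zero,
    List.foldl_append, List.foldl_cons, List.foldl_nil, List.nil_append]
  split_ifs <;> ring

theorem countData_all : CountData (Subgroup.normalizer (B.V : Set G)) B.V B.V 11 89 where
  hVN := Subgroup.le_normalizer
  hV := B.V_elementary
  hVn := le_rfl
  hAV := le_rfl
  hAn := le_rfl
  hA := B.card_V
  hodd := by decide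
  hcent := fun x _ h => B.centralizer_V (Subgroup.mem_centralizer_iff.2 fun y hy => (h y hy).symm.eq)
  hp := by norm_num
  hp2 := by norm_num
  hord := fun k h1 h2 => by interval_cases k <;> decide

theorem not_2047 (hJ : IsOfJankoFourType G) (h : B.zset.card = 2047) : False := by
  haveI : Fact (Nat.Prime 2) := ⟨Nat.prime_two⟩
  set N := Subgroup.normalizer (B.V : Set G)
  have hN : Nat.card N = 2047 * (2 * (3 * 2 ^ 13 * 5760)) := by rw [B.card_N hJ, h]
  have D := B.countData_all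
  obtain ⟨M, s, hs, hsp, hMN, hsM, hMs, hMC, n, hn, hcard⟩ := D.exists_norm_data (by rw [hN]; norm_num) (by rw [hN]; norm_num)
  have h89 : 89 ∣ Nat.card M := hsp ▸ Subgroup.orderOf_dvd_natCard M hsM
  have hq : ∀ q, q.Prime → q ∣ Nat.card M → q ≠ 2 ∧ q ≠ 3 ∧ q ≠ 5 := by
    intro q hq hd
    haveI : Fact q.Prime := ⟨hq⟩
    obtain ⟨⟨x, hxM⟩, hx⟩ := exists_prime_orderOf_dvd_card' q hd
    rw [Subgroup.orderOf_mk] at hx
    refine ⟨fun e => ?_, fun e => ?_, fun e => ?_⟩ <;> subst e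
    · have hxV := D.two_mem hs hsp 1 (hMN hxM) (hMs x hxM) (by rw [pow_one, ← hx, pow_orderOf_eq_one])
      have hvs : x ∈ B.V ⊓ Subgroup.centralizer ({s} : Set G) := by
        refine ⟨hxV, mem_centralizer_singleton_iff'.2 ?_⟩
        have h1 : x * s * x⁻¹ * s⁻¹ ∈ B.V := by
          rw [show x * s * x⁻¹ * s⁻¹ = x * (s * x⁻¹ * s⁻¹) by group]
          exact mul_mem hxV ((Subgroup.mem_normalizer_iff.1 hs _).1 (inv_mem hxV))
        obtain ⟨k, hk⟩ := hMs x hxM
        have hk' : x * s * x⁻¹ = s ^ k := hk.symm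
        have h2 : x * s * x⁻¹ * s⁻¹ = s ^ (k - 1) := by rw [hk', zpow_sub_one]
        rw [h2] at h1
        have h3 : (s ^ (k - 1)) ^ (2 : ℕ) = 1 := B.V_elementary.2 _ h1
        have h4 : (s ^ (k - 1)) ^ 89 = 1 := by
          rw [← zpow_natCast, ← zpow_mul, mul_comm, zpow_mul, zpow_natCast, ← hsp, pow_orderOf_eq_one, one_zpow]
        have := pow_gcd_eq_one.2 (And.intro h3 h4)
        rw [show Nat.gcd 2 89 = 1 from rfl, pow_one, ← h2, mul_inv_eq_one] at this
        exact mul_inv_eq_iff_eq_mul.1 this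
      rw [D.fixed_bot hs hsp, Subgroup.mem_bot] at hvs
      rw [hvs, orderOf_one] at hx
      omega
    · exact D.odd_absurd hs hsp (by norm_num) (by norm_num) (by norm_num) (by norm_num) (hMN hxM) hx (hMs x hxM)
    · exact D.odd_absurd hs hsp (by norm_num) (by norm_num) (by norm_num) (by norm_num) (hMN hxM) hx (hMs x hxM)
  have hdvd : Nat.card M ∣ 89 * 23 * (2 ^ 21 * 3 ^ 3 * 5) := by
    have e : 89 * 23 * (2 ^ 21 * 3 ^ 3 * 5) = Nat.card N := by rw [hN]; norm_num
    rw [e, ← hcard]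
    exact dvd_mul_left _ _
  have hc2 : Nat.Coprime (Nat.card M) (2 ^ 21 * 3 ^ 3 * 5) := by
    refine Nat.coprime_of_dvd fun q hq' hd1 hd2 => ?_
    obtain ⟨a2, a3, a5⟩ := hq q hq' hd1
    rcases (Nat.Prime.dvd_mul hq').1 hd2 with h' | h'
    · rcases (Nat.Prime.dvd_mul hq').1 h' with h'' | h''
      · exact a2 ((Nat.prime_dvd_prime_iff_eq hq' Nat.prime_two).1 (hq'.dvd_of_dvd_pow h''))
      · exact a3 ((Nat.prime_dvd_prime_iff_eq hq' Nat.prime_three).1 (hq'.dvd_of_dvd_pow h''))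
    · exact a5 ((Nat.prime_dvd_prime_iff_eq hq' (by norm_num)).1 h')
  have hd := hc2.dvd_of_dvd_mul_right hdvd
  obtain ⟨e, he⟩ := h89
  rw [he] at hd hcard
  have : e ∣ 23 := Nat.dvd_of_mul_dvd_mul_left (by norm_num) hd
  rw [hN] at hcard
  rcases (Nat.dvd_prime (by norm_num : Nat.Prime 23)).1 this with e1 | e1 <;> rw [e1] at hcard <;>
    norm_num at hcard <;> omega

theorem not_127 (hJ : IsOfJankoFourType G) (h : B.zset.card = 127)
    (hset : ∀ n < 2048, n ≠ 0 → (B.IsZc n ↔ n < 128)) : False := by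
  haveI : Fact (Nat.Prime 2) := ⟨Nat.prime_two⟩
  haveI : Fact (Nat.Prime 127) := ⟨by norm_num⟩
  set N := Subgroup.normalizer (B.V : Set G)
  have hN : Nat.card N = 127 * (2 * (3 * 2 ^ 13 * 5760)) := by rw [B.card_N hJ, h]
  have hF : ∀ {n : ℕ}, n < 128 → B.vel n ∈ B.X.F1 := fun {n} hn => by
    rw [← B.el_vel hn]
    have hw : eW n = 0 := by show n >>> 7 = 0; rw [Nat.shiftRight_eq_div_pow]; omega
    rw [el, hw, W_zero, mul_one]
    refine mul_mem ?_ (B.U_mem _)
    rcases zpar_mem (c := S.z) n with e | e <;> rw [e]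
    exacts [one_mem _, B.X.z_F1]
  have hcode : ∀ x ∈ B.X.F1, ∃ n < 128, B.vel n = x := by
    intro x hx
    obtain ⟨n, hn, e⟩ := B.F1_le_V hx
    refine ⟨n, ?_, e⟩
    by_contra hge
    have hE : B.vel n ∈ S.E := e ▸ B.X.F1_le_E hx
    have hk : Nat.shiftRight n 7 < 16 := by
      show n >>> 7 < 16
      rw [Nat.shiftRight_eq_div_pow]; omega
    have h1 : B.Pk (Nat.shiftRight n 7) = B.Pk 0 := by
      rw [← B.f_vel hn, (S.f_eq_one_iff (S.hEH0 hE)).2 (Subgroup.mem_sup_left hE), B.Pk_eq (by norm_num)]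
      simp [prod4]
    have h0 := B.Pk_inj hk (by norm_num) h1
    change n >>> 7 = 0 at h0
    rw [Nat.shiftRight_eq_div_pow] at h0
    omega
  have hAn : N ≤ Subgroup.normalizer (B.X.F1 : Set G) := by
    intro g hg
    refine norm_of_map (Subgroup.eq_of_le_of_card_ge ?_
      (by rw [Subgroup.card_map_of_injective (MulAut.conj g).injective]))
    rintro _ ⟨x, hx, rfl⟩
    obtain ⟨n, hn, rfl⟩ := hcode x hx
    by_cases hn0 : n = 0
    · subst hn0; rw [vel_zero, map_one]; exact one_mem _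
    · obtain ⟨m, hm, e⟩ : g * B.vel n * g⁻¹ ∈ B.V := (Subgroup.mem_normalizer_iff.1 hg _).1 (B.vel_mem (by omega))
      have hm0 : m ≠ 0 := fun e0 => by
        subst e0
        rw [vel_zero] at e
        exact hn0 (B.vel_eq_one (by omega) (conj_eq_one_iff.1 e.symm))
      have hz : IsConj S.z (B.vel m) := by
        rw [e]
        exact ((hset n (by omega) hn0).2 hn).trans (isConj_iff.2 ⟨g, rfl⟩)
      show g * B.vel n * g⁻¹ ∈ B.X.F1
      rw [← e]
      exact hF ((hset m hm hm0).1 hz)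
  have hA : Nat.card B.X.F1 = 2 ^ 7 := by
    let f : Fin 128 → B.X.F1 := fun n => ⟨B.vel n.1, hF n.2⟩
    have hb : Function.Bijective f := ⟨fun a b e => Fin.ext (B.vel_inj (by omega) (by omega) (congrArg Subtype.val e)),
      fun ⟨x, hx⟩ => by obtain ⟨n, hn, e⟩ := hcode x hx; exact ⟨⟨n, hn⟩, Subtype.ext e⟩⟩
    rw [← Nat.card_congr (Equiv.ofBijective f hb), Nat.card_fin]
    norm_num
  have D : CountData N B.V B.X.F1 7 127 :=
    ⟨Subgroup.le_normalizer, B.V_elementary, le_rfl, B.F1_le_V, hAn, hA, by decide,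
      fun x _ hx => B.cent_F1 hx, by norm_num, by norm_num, fun k h1 h2 => by interval_cases k <;> decide⟩
  obtain ⟨M, s, hs, hsp, hMN, hsM, hMs, hMC, n, hn, hcard⟩ := D.exists_norm_data (by rw [hN]; norm_num) (by rw [hN]; norm_num)
  have h127 : 127 ∣ Nat.card M := hsp ▸ Subgroup.orderOf_dvd_natCard M hsM
  have h5 : ¬ 5 ∣ Nat.card M := by
    intro hd
    haveI : Fact (Nat.Prime 5) := ⟨by norm_num⟩
    obtain ⟨⟨x, hxM⟩, hx⟩ := exists_prime_orderOf_dvd_card' 5 hd
    rw [Subgroup.orderOf_mk] at hx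
    exact D.odd_absurd hs hsp (by norm_num) (by norm_num) (by norm_num) (by norm_num) (hMN hxM) hx (hMs x hxM)
  -- the 2-part of the normalizer is the fixed group of `s` in `V`
  set K := B.V ⊓ Subgroup.centralizer ({s} : Set G) with hK
  have hK4 : Nat.card K = 2 ^ 4 := by
    have hmod := fixed_modEq (p := 127) (IsPGroup.of_card (n := 1) (by rw [Nat.card_zpowers, hsp, pow_one])) B.V hs
    obtain ⟨k, hk⟩ := IsPGroup.iff_card.1 ((IsPGroup.of_card (n := 11) B.card_V).to_le (inf_le_left : K ≤ B.V))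
    have hle := Subgroup.card_le_of_le (inf_le_left : K ≤ B.V)
    rw [hk, B.card_V] at hle
    have hk11 : k ≤ 11 := (Nat.pow_le_pow_iff_right (by norm_num : 1 < 2)).1 hle
    have hne : k ≠ 11 := fun e => by
      have hKV : K = B.V := Subgroup.eq_of_le_of_card_ge inf_le_left (by rw [hk, e, B.card_V])
      have hsV : s ∈ B.V := B.centralizer_V (Subgroup.mem_centralizer_iff.2 fun v hv =>
        mem_centralizer_singleton_iff'.1 (hKV.symm ▸ hv : v ∈ K).2)
      have := orderOf_dvd_of_pow_eq_one (B.V_elementary.2 s hsV)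
      rw [hsp] at this
      norm_num at this
    rw [B.card_V, ← hK, hk] at hmod
    rw [hk]
    interval_cases k <;> simp_all [Nat.ModEq]
  obtain ⟨T⟩ : Nonempty (Sylow 2 ↥M) := inferInstance
  have hT : (T : Subgroup ↥M).map M.subtype ≤ K := by
    rintro _ ⟨x, hx, rfl⟩
    obtain ⟨j, hj⟩ := T.2 ⟨x, hx⟩
    have hxj : ((x : ↥M) : G) ^ 2 ^ j = 1 := by
      have h := congrArg (fun y : ↥(T : Subgroup ↥M) => ((y : ↥M) : G)) hj
      simpa using h
    have hxV : (x : G) ∈ B.V := D.two_mem hs hsp j (hMN x.2) (hMs _ x.2) hxj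
    refine ⟨hxV, mem_centralizer_singleton_iff'.2 ?_⟩
    show (x : G) * s = s * x
    have h1 : (x : G) * s * (x : G)⁻¹ * s⁻¹ ∈ B.V := by
      rw [show (x : G) * s * (x : G)⁻¹ * s⁻¹ = x * (s * (x : G)⁻¹ * s⁻¹) by group]
      exact mul_mem hxV ((Subgroup.mem_normalizer_iff.1 hs _).1 (inv_mem hxV))
    obtain ⟨k, hk⟩ := hMs _ x.2
    have hk' : (x : G) * s * (x : G)⁻¹ = s ^ k := hk.symm
    have h2 : (x : G) * s * (x : G)⁻¹ * s⁻¹ = s ^ (k - 1) := by rw [hk', zpow_sub_one]
    rw [h2] at h1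
    have h3 : (s ^ (k - 1)) ^ (2 : ℕ) = 1 := B.V_elementary.2 _ h1
    have h4 : (s ^ (k - 1)) ^ 127 = 1 := by
      rw [← zpow_natCast, ← zpow_mul, mul_comm, zpow_mul, zpow_natCast, ← hsp, pow_orderOf_eq_one, one_zpow]
    have := pow_gcd_eq_one.2 (And.intro h3 h4)
    rw [show Nat.gcd 2 127 = 1 from rfl, pow_one, ← h2, mul_inv_eq_one] at this
    exact mul_inv_eq_iff_eq_mul.1 this
  obtain ⟨j, hj⟩ := IsPGroup.iff_card.1 T.2
  have hj4 : j ≤ 4 := by
    have := Subgroup.card_le_of_le hT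
    rw [Subgroup.card_map_of_injective M.subtype_injective, hj, hK4] at this
    exact (Nat.pow_le_pow_iff_right (by norm_num : 1 < 2)).1 this
  obtain ⟨R, hR⟩ : ∃ R, Nat.card M = 2 ^ j * R ∧ ¬ 2 ∣ R :=
    ⟨(T : Subgroup ↥M).index, by rw [← hj, Subgroup.card_mul_index], T.not_dvd_index⟩
  obtain ⟨hR, hR2⟩ := hR
  have hdvd : R ∣ 127 * 3 ^ 3 * (2 ^ 21 * 5) := by
    refine Dvd.dvd.trans ⟨2 ^ j, mul_comm _ _⟩ (⟨n, ?_⟩ : 2 ^ j * R ∣ 127 * 3 ^ 3 * (2 ^ 21 * 5))
    rw [← hR, mul_comm _ n, hcard, hN]; norm_num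
  have hc : Nat.Coprime R (2 ^ 21 * 5) := by
    refine Nat.Coprime.mul_right (Nat.Coprime.pow_right _ ?_) ?_
    · exact (Nat.prime_two.coprime_iff_not_dvd.2 hR2).symm
    · exact ((by norm_num : Nat.Prime 5).coprime_iff_not_dvd.2 fun h => h5 (hR ▸ dvd_mul_of_dvd_right h _)).symm
  have hd := hc.dvd_of_dvd_mul_right hdvd
  have hR127 : 127 ∣ R := by
    rcases (Nat.Prime.dvd_mul (by norm_num : Nat.Prime 127)).1 (hR ▸ h127) with h' | h'
    · exfalso
      have := (Nat.prime_dvd_prime_iff_eq (by norm_num : Nat.Prime 127) Nat.prime_two).1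
        ((by norm_num : Nat.Prime 127).dvd_of_dvd_pow h')
      omega
    · exact h'
  obtain ⟨e, rfl⟩ := hR127
  have he : e ∣ 3 ^ 3 := Nat.dvd_of_mul_dvd_mul_left (by norm_num) hd
  obtain ⟨b, hb, rfl⟩ := (Nat.dvd_prime_pow Nat.prime_three).1 he
  -- the fixed group of `s` is in the normalizer
  have hKM : K ≤ M := fun x hx => hMC x (Subgroup.le_normalizer hx.1) (mem_centralizer_singleton_iff'.1 hx.2)
  have h16 : 2 ^ 4 ∣ 2 ^ j * (127 * 3 ^ b) := hR ▸ hK4 ▸ Subgroup.card_dvd_of_le hKM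
  rw [hR, hN] at hcard
  interval_cases j <;> interval_cases b <;> norm_num at hcard h16 <;> omega

/-- The conjugates of `z` in `V` are the complement of the duad-type codes, and `c` has signs `5`. -/
theorem zset_spec [IsSimpleGroup G] (hG : ¬ IsMulCommutative G) (hJ : IsOfJankoFourType G) :
    B.zset.card = 1771 ∧ ∃ δ : Fin 16, δ = B.csign ∧ ∃ s : Fin 64,
      ((δ.1 = 0 ∨ δ.1 = 5) ∧ (s.1 = 45 ∨ s.1 = 53)) ∧
      ∀ n < 2048, n ≠ 0 → (B.IsZc n ↔ s.1.testBit (cls δ.1 n) = true) := by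
  obtain ⟨s, hs⟩ := B.exists_selection
  have hcard := B.card_zset hs
  have h0 : s.1.testBit 0 = true := by
    have h := (hs 1 (by norm_num) (by norm_num)).1 B.isZc_one
    rwa [(cls_low B.csign ⟨1, by norm_num⟩ (by norm_num)).2.2 rfl] at h
  have h12 : s.1.testBit 1 = true ∨ s.1.testBit 2 = true := by
    obtain ⟨m, hm, hm2, hmz⟩ := B.exists_small hG
    have h := (hs m (by omega) (by omega)).1 hmz
    rcases cls_small B.csign ⟨m, hm⟩ hm2 with e | e
    · exact Or.inl (by rwa [e] at h)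
    · exact Or.inr (by rwa [e] at h)
  rcases union_cases B.csign s h0 h12 with ⟨hp, hd⟩ | ⟨h127, hbits⟩ | ⟨h2047, -⟩ | h
  · exfalso
    obtain ⟨hp2, hj⟩ := badPrimes_ok _ hp
    have hprime : (badPrime (unionSize B.csign.1 s.1)).Prime := by
      have : ∀ p ∈ badPrimes, p.Prime := by
        intro p hp'
        simp only [badPrimes, List.mem_cons, List.mem_singleton, List.not_mem_nil, or_false] at hp'
        rcases hp' with rfl | rfl | rfl | rfl | rfl | rfl | rfl | rfl | rfl | rfl | rfl | rfl | rfl | rfl | rfl <;>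
          norm_num
      exact this _ hp
    refine B.prime_small hprime hp2 hj ?_
    rw [B.card_N hJ, hcard]
    exact dvd_mul_of_dvd_left (Nat.dvd_of_mod_eq_zero hd) _
  · refine (B.not_127 hJ (hcard.trans h127) fun n hn hn0 => ?_).elim
    rw [hs n hn hn0]
    obtain ⟨hl, -⟩ := cls_low B.csign ⟨n, hn⟩ hn0
    have h6 := B.cls_lt hn hn0
    have hne : clsSize B.csign.1 (cls B.csign.1 n) ≠ 0 := by
      intro e
      have h := cls_sizes B.csign ⟨_, h6⟩
      rw [show clsSize B.csign.1 (⟨cls B.csign.1 n, h6⟩ : Fin 6).1 = 0 from e] at h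
      dsimp only at h
      have h' := Nat.eq_of_beq_eq_true h
      rw [countLt_fin, Finset.card_eq_zero, Finset.filter_eq_empty_iff] at h'
      refine h' (Finset.mem_univ ⟨n, hn⟩) ?_
      have hb : Nat.beq n 0 = false := by
        cases hq : Nat.beq n 0
        · rfl
        · exact absurd (Nat.eq_of_beq_eq_true hq) hn0
      simp [hb]
    rw [hbits ⟨_, h6⟩ hne]
    exact hl
  · exact (B.not_2047 hJ (hcard.trans h2047)).elim
  · refine ⟨?_, B.csign, rfl, s, h, hs⟩
    rw [hcard]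
    obtain ⟨h1, h2⟩ := h
    rcases h1 with e | e <;> rcases h2 with e' | e' <;> rw [e, e'] <;> rfl

end HexBase

end CfsgLib.JankoFour
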